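import Cfsg.Agent.H85.Held.Build
import Cfsg.Agent.H92.LargeSimple
import Cfsg.Agent.H92.Extra
import Cfsg.Agent.Components.Basic
import Cfsg.Prelude.Def_MonsterType

/-!
# The centraliser of the involution in a group of Held type

The centraliser is isomorphic to the centraliser of a transvection of `SL(5, 2)`.
-/

set_option autoImplicit false
set_option linter.unusedSectionVars false

namespace Cfsg.Agent.H85.Held

open Matrix

universe u

variable {G : Type u} [Group G] [Finite G]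

/-- Centre and commutators of an extraspecial normal subgroup containing its centralizer. -/
theorem extra_facts {C : Type u} [Group C] [Finite C] {Q : Subgroup C} (hQ : Cfsg.IsExtraspecial 2 Q)
    (hCQ : Subgroup.centralizer (Q : Set C) ≤ Q) {z : C} (hz1 : z ≠ 1) (hzc : ∀ x, z * x = x * z) :
    z ∈ Q ∧ (∀ x ∈ Q, ∀ y ∈ Q, x * y = y * x ∨ x * y = y * x * z) ∧
    (∀ x ∈ Q, (∀ y ∈ Q, x * y = y * x) → x = 1 ∨ x = z) := by
  have hzQ : z ∈ Q := hCQ (Subgroup.mem_centralizer_iff.2 fun y _ => (hzc y).symm)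
  have hmem : ∀ x (hx : x ∈ Q), (∀ y ∈ Q, x * y = y * x) → x ∈ (Subgroup.center Q).map Q.subtype :=
    fun x hx h => ⟨⟨x, hx⟩, Subgroup.mem_center_iff.2 fun y => Subtype.ext (h y y.2).symm, rfl⟩
  have hzZ := hmem z hzQ fun y _ => hzc y
  refine ⟨hzQ, fun x hx y hy => ?_, fun x hx h => H92.eq_one_or_center hQ hzZ hz1 (hmem x hx h)⟩
  rcases H92.eq_one_or_center hQ hzZ hz1 (H92.commutator_mem_center_map hQ hx hy) with h | h
  · exact Or.inl (by rwa [mul_inv_eq_one, mul_inv_eq_iff_eq_mul] at h)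
  · refine Or.inr ?_
    rw [mul_inv_eq_iff_eq_mul, mul_inv_eq_iff_eq_mul] at h
    rw [h, mul_assoc, hzc]

/-- The centraliser of the involution of a group with twenty-nine conjugates of it in the
extraspecial subgroup. -/
theorem cen_of_ncard {z : G} {Q : Subgroup (Subgroup.centralizer ({z} : Set G))} [hQn : Q.Normal]
    (hz : orderOf z = 2) (hQ : Cfsg.IsExtraspecial 2 Q) (hcard : Nat.card Q = 2 ^ 7)
    (hCQ : Subgroup.centralizer (Q : Set (Subgroup.centralizer ({z} : Set G))) ≤ Q)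
    (e : (Subgroup.centralizer ({z} : Set G)) ⧸ Q ≃* SpecialLinearGroup (Fin 3) (ZMod 2))
    (h29 : Set.ncard {x : Subgroup.centralizer ({z} : Set G) | x ∈ Q ∧ IsConj z (x : G)} = 29)
    (s : SpecialLinearGroup (Fin 5) (ZMod 2))
    (hs : (s : Matrix (Fin 5) (Fin 5) (ZMod 2)) = transvection 0 1 1) :
    Nonempty (Subgroup.centralizer ({z} : Set G) ≃*
      Subgroup.centralizer ({s} : Set (SpecialLinearGroup (Fin 5) (ZMod 2)))) := by
  classical
  set zc : ↥(Subgroup.centralizer ({z} : Set G)) := ⟨z, Subgroup.mem_centralizer_singleton_iff.2 rfl⟩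
  have hzz : z * z = 1 := by rw [← pow_two, ← hz, pow_orderOf_eq_one]
  have hz1 : z ≠ 1 := fun h => by rw [h, orderOf_one] at hz; omega
  have hzc1 : zc ≠ 1 := fun h => hz1 (congrArg Subtype.val h)
  have hzcc : ∀ x : ↥(Subgroup.centralizer ({z} : Set G)), zc * x = x * zc := fun x =>
    Subtype.ext (Subgroup.mem_centralizer_singleton_iff.1 x.2).symm
  obtain ⟨hzQ, hcomm, hcen⟩ := extra_facts hQ hCQ hzc1 hzcc
  let φ : ↥(Subgroup.centralizer ({z} : Set G)) →* L3 := e.toMonoidHom.comp (QuotientGroup.mk' Q)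
  set X : Set ↥(Subgroup.centralizer ({z} : Set G)) := {x | (x ∈ Q ∧ IsConj z (x : G)) ∧ x ≠ zc} with hX
  have hXne : ∀ x ∈ X, x ≠ 1 ∧ x ≠ zc := fun x hx => ⟨fun h => hz1 (by
    have := hx.1.2
    rw [h, Subgroup.coe_one] at this
    exact isConj_one_left.1 this), hx.2⟩
  let D : Raw ↥(Subgroup.centralizer ({z} : Set G)) :=
    { z := zc
      Q := Q
      φ := φ
      X := X
      z_sq := Subtype.ext hzz
      z_ne := hzc1
      z_comm := hzcc
      z_mem := hzQ
      ker := by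
        show (e.toMonoidHom.comp (QuotientGroup.mk' Q)).ker = Q
        ext x
        exact e.map_eq_one_iff.trans (QuotientGroup.eq_one_iff x)
      surj := e.surjective.comp (QuotientGroup.mk'_surjective Q)
      card := by rw [hcard]; rfl
      comm := hcomm
      center := hcen
      cent := fun c hc => hCQ (Subgroup.mem_centralizer_iff.2 fun y hy => (hc y hy).symm)
      X_sub := fun x hx => hx.1.1
      X_sq := fun x hx => by
        obtain ⟨g, hg⟩ := isConj_iff.1 hx.1.2
        apply Subtype.ext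
        show (x : G) * x = 1
        rw [← hg, show g * z * g⁻¹ * (g * z * g⁻¹) = g * (z * z) * g⁻¹ by group, hzz, mul_one,
          mul_inv_cancel]
      X_ne := hXne
      X_inv := fun c x hx => by
        refine ⟨⟨hQn.conj_mem x hx.1.1 c, hx.1.2.trans (isConj_iff.2 ⟨(c : G), rfl⟩)⟩, fun h => hx.2 ?_⟩
        rw [mul_inv_eq_iff_eq_mul, hzcc] at h
        exact mul_left_cancel h
      X_card := by
        have hmem : zc ∈ {x : ↥(Subgroup.centralizer ({z} : Set G)) | x ∈ Q ∧ IsConj z (x : G)} := ⟨hzQ, IsConj.refl z⟩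
        have he : X = {x : ↥(Subgroup.centralizer ({z} : Set G)) | x ∈ Q ∧ IsConj z (x : G)} \ {zc} := rfl
        rw [he, Set.ncard_sdiff_singleton_of_mem hmem, h29] }
  obtain ⟨F, hFz, hFX⟩ := D.exists_frame
  have hPz : F.toPair.z = zc := hFz
  rcases F.toPair.dichotomy with ⟨R, hR⟩ | ⟨h, h4, w, hw, hw1, hw2, hhw⟩
  · exact ⟨R.toModel hR s hs⟩
  exfalso
  rw [hPz] at hw2 h4
  obtain ⟨g, hg⟩ := isConj_iff.1 (hFX w hw hw1 hw2).1.2
  have hhw' : (h : G) * w = w * h := congrArg Subtype.val hhw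
  have hy : g⁻¹ * (h : G) * g ∈ (Subgroup.centralizer ({z} : Set G)) := Subgroup.mem_centralizer_singleton_iff.2 (by
    rw [← hg] at hhw'
    calc g⁻¹ * (h : G) * g * z = g⁻¹ * ((h : G) * (g * z * g⁻¹)) * g := by group
      _ = g⁻¹ * ((g * z * g⁻¹) * h) * g := by rw [hhw']
      _ = z * (g⁻¹ * (h : G) * g) := by group)
  have hpow : ∀ n : ℕ, ((⟨g⁻¹ * (h : G) * g, hy⟩ : ↥(Subgroup.centralizer ({z} : Set G))) ^ n : ↥(Subgroup.centralizer ({z} : Set G))) = g⁻¹ * (h : G) ^ n * g := fun n => by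
    rw [SubgroupClass.coe_pow]
    have := conj_pow (i := n) (a := g⁻¹) (b := (h : G))
    rwa [inv_inv] at this
  have h4' : (h : G) ^ 4 = z := by
    have := congrArg Subtype.val h4
    rwa [SubgroupClass.coe_pow] at this
  have h8 : (⟨g⁻¹ * (h : G) * g, hy⟩ : ↥(Subgroup.centralizer ({z} : Set G))) ^ 8 = 1 := by
    apply Subtype.ext
    show ((⟨g⁻¹ * (h : G) * g, hy⟩ : ↥(Subgroup.centralizer ({z} : Set G))) ^ 8 : ↥(Subgroup.centralizer ({z} : Set G))).val = 1
    rw [hpow, show 8 = 4 * 2 from rfl, pow_mul, h4', pow_two, hzz, mul_one, inv_mul_cancel]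
  rcases F.toPair.fourth h8 with e4 | e4
  · have := congrArg Subtype.val e4
    rw [hpow, h4', Subgroup.coe_one] at this
    exact hz1 ((conj_eq_one_iff (a := g⁻¹)).1 (by rwa [inv_inv]))
  · rw [hPz] at e4
    have := congrArg Subtype.val e4
    rw [hpow, h4'] at this
    have hgz : g⁻¹ * z * g = z := this
    refine hw2 (Subtype.ext ?_)
    show (w : G) = z
    rw [← hg]
    calc g * z * g⁻¹ = g * (g⁻¹ * z * g) * g⁻¹ := by rw [hgz]
      _ = z := by group

/-- A group of Held type has an involution whose centraliser is that of a transvection of `SL(5, 2)`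
and which is not weakly closed in the extraspecial subgroup. -/
theorem held_cen (h : Cfsg.IsOfHeldType G) :
    ∃ (z : G) (Q : Subgroup (Subgroup.centralizer ({z} : Set G))) (_ : Q.Normal),
      orderOf z = 2 ∧ Cfsg.IsExtraspecial 2 Q ∧ Nat.card Q = 2 ^ 7 ∧
      (∃ g : G, (∃ hq : g * z * g⁻¹ ∈ Subgroup.centralizer ({z} : Set G),
        (⟨g * z * g⁻¹, hq⟩ : Subgroup.centralizer ({z} : Set G)) ∈ Q) ∧ g * z * g⁻¹ ≠ z) ∧
      ∀ (s : SpecialLinearGroup (Fin 5) (ZMod 2)),
        (s : Matrix (Fin 5) (Fin 5) (ZMod 2)) = transvection 0 1 1 →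
        Nonempty (Subgroup.centralizer ({z} : Set G) ≃*
          Subgroup.centralizer ({s} : Set (SpecialLinearGroup (Fin 5) (ZMod 2)))) := by
  obtain ⟨z, Q, hQn, ⟨hz, hF, hQ, hcard, hg⟩, ⟨e⟩, h29⟩ := h
  have hCQ : Subgroup.centralizer (Q : Set (Subgroup.centralizer ({z} : Set G))) ≤ Q :=
    hF ▸ Components.centralizer_genFitting_le
  exact ⟨z, Q, hQn, hz, hQ, hcard, hg, fun s hs => cen_of_ncard hz hQ hcard hCQ e h29 s hs⟩

end Cfsg.Agent.H85.Held
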