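import Cfsg.Agent.H85.Held.Module

/-!
# Finite facts on the coordinates of the non-split module
-/

set_option autoImplicit false

namespace Cfsg.Agent.H85.Held

open Matrix

/-- The action on coordinates of an element with matrix `A` and twist `n`. -/
def actV (A : L3) (n : F3) (p : F3 × F3) : F3 × F3 :=
  (p.1 ᵥ* ((A⁻¹ : L3) : M3) + crossProduct n ((A : M3) *ᵥ p.2), (A : M3) *ᵥ p.2)

/-- The pairing on coordinates. -/
def pairV (p q : F3 × F3) : ZMod 2 := p.1 ⬝ᵥ q.2 + q.1 ⬝ᵥ p.2

/-- The twist of the standard element of order four. -/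
def nFour : F3 := ![0, 1, 1]

/-- The twist of the standard central involution. -/
def nTwo : F3 := nFour + (fourEl : M3) *ᵥ nFour

/-- Four fixed vectors of the standard involution. -/
def fixVec : Fin 4 → F3 × F3 :=
  ![(![0, 0, 1], 0), (![0, 1, 0], 0), (![1, 0, 0], ![1, 0, 0]), (![1, 0, 0], ![0, 1, 0])]

/-- A combination of the fixed vectors. -/
def comb (c : Fin 4 → ZMod 2) : F3 × F3 := ∑ i, c i • fixVec i

theorem fix_facts : ∀ c, actV (fourEl * fourEl) nTwo (comb c) = comb c := by decide +kernel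

theorem shift_zero : ((0, ![1, 0, 0]) : F3 × F3) + actV (fourEl * fourEl) nTwo (0, ![1, 0, 0]) = comb ![1, 0, 0, 0] ∧
    pairV (0, ![1, 0, 0]) (actV (fourEl * fourEl) nTwo (0, ![1, 0, 0])) = 0 ∧
    ((0, ![1, 0, 1]) : F3 × F3) + actV (fourEl * fourEl) nTwo (0, ![1, 0, 1]) = comb ![0, 1, 1, 0] ∧
    pairV (0, ![1, 0, 1]) (actV (fourEl * fourEl) nTwo (0, ![1, 0, 1])) = 1 := by
  decide +kernel

/-- For every admissible functional there is a non-singular fixed vector in its kernel. -/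
theorem root_check : ∀ l1 l2 l3 : ZMod 2, l1 + l2 = 1 →
    ∃ c : Fin 4 → ZMod 2, c 1 * l1 + c 2 * l2 + c 3 * l3 = 0 ∧ (comb c).1 ⬝ᵥ (comb c).2 = 1 := by
  decide +kernel

/-- For every admissible functional some kernel vector has non-singular commutator with a square root. -/
theorem move_check : ∀ l1 l2 l3 : ZMod 2, l1 + l2 = 1 → ∀ k : Fin 2,
    ∃ c : Fin 4 → ZMod 2, c 1 * l1 + c 2 * l2 + c 3 * l3 = 0 ∧
      (actV ((if k = 0 then fourEl else fourEl * fourEl * fourEl))
          (if k = 0 then nFour else nTwo + ((fourEl * fourEl : L3) : M3) *ᵥ nFour) (comb c) + comb c).1 ⬝ᵥ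
        (actV ((if k = 0 then fourEl else fourEl * fourEl * fourEl))
          (if k = 0 then nFour else nTwo + ((fourEl * fourEl : L3) : M3) *ᵥ nFour) (comb c) + comb c).2 = 1 := by
  decide +kernel

theorem cross_zero : ∀ n : F3, (∀ w : F3, crossProduct n w = 0) → n = 0 := by decide +kernel

/-- An alternating map is a cross product. -/
theorem cross_of_alt : ∀ m : F3 × F3 × F3, (∀ w : F3, (w 0 • m.1 + w 1 • m.2.1 + w 2 • m.2.2) ⬝ᵥ w = 0) →
    ∃ n : F3, ∀ w : F3, w 0 • m.1 + w 1 • m.2.1 + w 2 • m.2.2 = crossProduct n w := by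
  decide +kernel

theorem cross_trans (A : L3) (m x : F3) :
    crossProduct ((A : M3) *ᵥ m) ((A : M3) *ᵥ x) = crossProduct m x ᵥ* ((A⁻¹ : L3) : M3) := by
  have key : ∀ M : M3, crossProduct (M *ᵥ m) (M *ᵥ x) ᵥ* M = M.det • crossProduct m x := fun M => by
    funext i
    fin_cases i <;>
      simp [crossProduct, Matrix.vecMul, Matrix.mulVec, dotProduct, Fin.sum_univ_three, Matrix.det_fin_three] <;>
      ring
  have h := key A
  rw [A.2, one_smul] at h
  rw [← h, vecMul_vecMul, ← Matrix.SpecialLinearGroup.coe_mul, mul_inv_cancel,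
    Matrix.SpecialLinearGroup.coe_one, vecMul_one]

/-- The relation pinning the twist. -/
theorem word_check : ∀ n : F3,
    (n + (fourEl : M3) *ᵥ (n + (fourEl : M3) *ᵥ (n + (fourEl : M3) *ᵥ
      ((sevenEl : M3) *ᵥ ((sevenEl : M3) *ᵥ ((sevenEl : M3) *ᵥ
        (n + (fourEl : M3) *ᵥ ((sevenEl : M3) *ᵥ n)))))))) = 0 →
      n = 0 ∨ n = nFour := by
  decide +kernel

theorem word_one : fourEl * (fourEl * (fourEl * (sevenEl * (sevenEl * (sevenEl * (fourEl * (sevenEl * (fourEl *
    (sevenEl * (sevenEl * sevenEl)))))))))) = 1 := by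
  decide +kernel

end Cfsg.Agent.H85.Held
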