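import Cfsg.Agent.H85.Held.Orbits
import Cfsg.Agent.H85.Held.NSFacts
import Cfsg.Agent.Linear.Simple

/-!
# The non-split module
-/

set_option autoImplicit false
set_option linter.unusedSectionVars false

namespace Cfsg.Agent.H85.Held

open Matrix

universe u

theorem bit_add_self (t : ZMod 2) : t + t = 0 := by
  revert t; decide

theorem f3_add_self (v : F3) : v + v = 0 := funext fun _ => bit_add_self _

theorem l3_normal (N : Subgroup L3) [hN : N.Normal] : N = ⊥ ∨ N = ⊤ := by
  have hz : Subgroup.center L3 = ⊥ := by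
    rw [← Subgroup.card_eq_one, Cfsg.Agent.Linear.card_center_SL, ZMod.card]
    rfl
  have : IsSimpleGroup (ProjectiveSpecialLinearGroup (Fin 3) (ZMod 2)) :=
    Cfsg.Agent.Linear.isSimpleGroup_PSL (Or.inl (by simp))
  set q := QuotientGroup.mk' (Subgroup.center L3)
  have hinj : Function.Injective q := by
    rw [← MonoidHom.ker_eq_bot_iff, QuotientGroup.ker_mk', hz]
  rcases Subgroup.Normal.eq_bot_or_eq_top (Subgroup.Normal.map hN q (QuotientGroup.mk'_surjective _))
    with h | h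
  · exact Or.inl ((Subgroup.map_eq_bot_iff_of_injective N hinj).1 h)
  · refine Or.inr (top_le_iff.1 fun x _ => ?_)
    obtain ⟨y, hy, e⟩ := h.ge (Subgroup.mem_top (q x))
    exact hinj e ▸ hy

/-- A subgroup of order divisible by twenty-eight is everything. -/
theorem l3_top (H : Subgroup L3) (h4 : fourEl ∈ H) (h7 : sevenEl ∈ H) : H = ⊤ := by
  have hcard : 28 ∣ Nat.card H := by
    have e4 : orderOf fourEl = 4 := by
      have : Fact (Nat.Prime 2) := ⟨Nat.prime_two⟩
      exact orderOf_eq_prime_pow (p := 2) (n := 1) fourEl_pow.2.1 fourEl_pow.1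
    have e7 : orderOf sevenEl = 7 := by
      have : Fact (Nat.Prime 7) := ⟨by norm_num⟩
      exact orderOf_eq_prime sevenEl_facts.1 sevenEl_facts.2.1
    have a4 := orderOf_dvd_natCard (⟨fourEl, h4⟩ : H)
    have a7 := orderOf_dvd_natCard (⟨sevenEl, h7⟩ : H)
    rw [Subgroup.orderOf_mk, e4] at a4
    rw [Subgroup.orderOf_mk, e7] at a7
    exact Nat.Coprime.mul_dvd_of_dvd_of_dvd (by decide) a4 a7
  by_contra hne
  have hidx : H.index ≤ 6 ∧ 0 < H.index := by
    have h := H.card_mul_index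
    rw [Cfsg.Agent.Linear.card_SL_three, ZMod.card] at h
    have h' : Nat.card H * H.index = 168 := h.trans (by norm_num)
    obtain ⟨k, hk⟩ := hcard
    rw [hk] at h'
    have hk0 : 1 ≤ k := by
      rcases Nat.eq_zero_or_pos k with rfl | h0
      · omega
      · exact h0
    constructor
    · nlinarith
    · rcases Nat.eq_zero_or_pos H.index with e | e
      · rw [e] at h'; omega
      · exact e
  rcases l3_normal (MulAction.toPermHom L3 (L3 ⧸ H)).ker with hk | hk
  · have hinj : Function.Injective (MulAction.toPermHom L3 (L3 ⧸ H)) := (MonoidHom.ker_eq_bot_iff _).1 hk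
    have hd := Subgroup.card_dvd_of_injective _ hinj
    rw [Nat.card_perm, ← Subgroup.index, Cfsg.Agent.Linear.card_SL_three, ZMod.card] at hd
    obtain ⟨h6, h0⟩ := hidx
    interval_cases h : H.index <;> exact absurd hd (by norm_num [Nat.factorial])
  · refine hne (top_le_iff.1 fun g _ => ?_)
    have hg : g ∈ (MulAction.toPermHom L3 (L3 ⧸ H)).ker := hk.ge (Subgroup.mem_top g)
    have h1 := congrArg (fun σ : Equiv.Perm (L3 ⧸ H) => σ (QuotientGroup.mk 1)) (MonoidHom.mem_ker.1 hg)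
    simp only [MulAction.toPermHom_apply, MulAction.toPerm_apply, Equiv.Perm.one_apply] at h1
    rw [MulAction.Quotient.smul_mk, smul_eq_mul, mul_one, QuotientGroup.eq, mul_one] at h1
    exact inv_mem_iff.1 h1

/-- Involutions of the linear group are conjugate to the standard one. -/
theorem involution_conj_aux : ∀ a b c d e f g h i : ZMod 2,
    !![a, b, c; d, e, f; g, h, i] * !![a, b, c; d, e, f; g, h, i] = (1 : M3) →
    !![a, b, c; d, e, f; g, h, i] ≠ (1 : M3) →
    ∃ p : Fin 7 × Fin 3, !![a, b, c; d, e, f; g, h, i] * ((sevenEl ^ (p.1 : ℕ) * threeEl ^ (p.2 : ℕ) : L3) : M3) =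
      ((sevenEl ^ (p.1 : ℕ) * threeEl ^ (p.2 : ℕ) : L3) : M3) * ((fourEl * fourEl : L3) : M3) := by
  decide +kernel

theorem involution_conj {x : L3} (h2 : x * x = 1) (h1 : x ≠ 1) :
    ∃ p : L3, x * p = p * (fourEl * fourEl) := by
  have h2' : (x : M3) * (x : M3) = 1 := by
    rw [← Matrix.SpecialLinearGroup.coe_mul, h2]; rfl
  have h1' : (x : M3) ≠ 1 := fun e => h1 (Subtype.ext e)
  rw [Matrix.eta_fin_three (x : M3)] at h2' h1'
  obtain ⟨p, hp⟩ := involution_conj_aux _ _ _ _ _ _ _ _ _ h2' h1'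
  rw [← Matrix.eta_fin_three (x : M3)] at hp
  exact ⟨_, Subtype.ext hp⟩

theorem root_aux : ∀ a b c d e f g h i : ZMod 2,
    !![a, b, c; d, e, f; g, h, i] * !![a, b, c; d, e, f; g, h, i] = ((fourEl * fourEl : L3) : M3) →
    !![a, b, c; d, e, f; g, h, i] = (fourEl : M3) ∨
      !![a, b, c; d, e, f; g, h, i] = ((fourEl * fourEl * fourEl : L3) : M3) := by
  decide +kernel

theorem root_cases {x : L3} (h : x * x = fourEl * fourEl) : x = fourEl ∨ x = fourEl * fourEl * fourEl := by
  have h' : (x : M3) * (x : M3) = ((fourEl * fourEl : L3) : M3) := by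
    rw [← Matrix.SpecialLinearGroup.coe_mul, h]
  rw [Matrix.eta_fin_three (x : M3)] at h'
  have h2 := root_aux _ _ _ _ _ _ _ _ _ h'
  rw [← Matrix.eta_fin_three (x : M3)] at h2
  exact h2.imp Subtype.ext Subtype.ext

theorem six_aux : ∀ a b c d e f g h i : ZMod 2,
    (!![a, b, c; d, e, f; g, h, i] * !![a, b, c; d, e, f; g, h, i]) *
        (!![a, b, c; d, e, f; g, h, i] * !![a, b, c; d, e, f; g, h, i]) *
        (!![a, b, c; d, e, f; g, h, i] * !![a, b, c; d, e, f; g, h, i]) = (1 : M3) →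
    !![a, b, c; d, e, f; g, h, i] * !![a, b, c; d, e, f; g, h, i] = (1 : M3) ∨
    !![a, b, c; d, e, f; g, h, i] * !![a, b, c; d, e, f; g, h, i] * !![a, b, c; d, e, f; g, h, i] = (1 : M3) := by
  decide +kernel

theorem no_six {x : L3} (h : x ^ 6 = 1) : x ^ 2 = 1 ∨ x ^ 3 = 1 := by
  have h' : ((x : M3) * (x : M3)) * ((x : M3) * (x : M3)) * ((x : M3) * (x : M3)) = 1 := by
    have := congrArg (fun y : L3 => (y : M3)) h
    simpa [pow_succ, mul_assoc] using this
  rw [Matrix.eta_fin_three (x : M3)] at h'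
  have h2 := six_aux _ _ _ _ _ _ _ _ _ h'
  rw [← Matrix.eta_fin_three (x : M3)] at h2
  refine h2.imp (fun e => Subtype.ext ?_) (fun e => Subtype.ext ?_)
  · simpa [pow_succ] using e
  · simpa [pow_succ] using e

/-- The data of the non-split module. -/
structure NS (C : Type u) [Group C] extends Base C where
  E : Subgroup C
  E_normal : E.Normal
  E_le : E ≤ Q
  E_card : Nat.card E = 16
  z_memE : z ∈ E
  E_sq : ∀ y ∈ E, y * y = 1
  trans : ∀ x ∈ Q, x * x = 1 → x ∉ E → (Base.conjs x).ncard = 56 ∧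
    ∀ y ∈ Q, y * y = 1 → y ∉ E → ∃ c, c * x * c⁻¹ = y

namespace NS

variable {C : Type u} [Group C] [Finite C] (D : NS C)

theorem E_comm {x y : C} (hx : x ∈ D.E) (hy : y ∈ D.E) : x * y = y * x := by
  calc x * y = (y * y) * (x * y) * (x * y * (x * y))⁻¹ * (x * x) := by
        rw [D.E_sq y hy, D.E_sq x hx, D.E_sq _ (mul_mem hx hy)]; group
    _ = y * x := by
        rw [D.E_sq _ (mul_mem hx hy), inv_one, mul_one]
        calc y * y * (x * y) * (x * x) = y * ((y * x) * (y * x)) * x := by group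
          _ = y * x := by rw [D.E_sq _ (mul_mem hy hx), mul_one]

/-- The centraliser of a non-central element inside `Q`. -/
theorem card_centQ {x : C} (hx : x ∈ D.Q) (h1 : x ≠ 1) (hz : x ≠ D.z) :
    Nat.card ↥(D.Q ⊓ Subgroup.centralizer ({x} : Set C)) = 64 := by
  let f : D.Q →* Multiplicative (ZMod 2) :=
    MonoidHom.mk' (fun y => Multiplicative.ofAdd (Cross.pr (y : C) x)) fun y y' => by
      rw [Subgroup.coe_mul, D.pr_left y.2 y'.2 hx]; rfl
  have hsurj : Function.Surjective f := by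
    intro t
    rcases bit_cases t.toAdd with e | e
    · exact ⟨1, (map_one f).trans (Multiplicative.toAdd.injective e.symm)⟩
    · by_cases hh : ∀ y ∈ D.Q, x * y = y * x
      · rcases D.center x hx hh with e' | e'
        · exact absurd e' h1
        · exact absurd e' hz
      · simp only [not_forall] at hh
        obtain ⟨y, hy, hne⟩ := hh
        exact ⟨⟨y, hy⟩, Multiplicative.toAdd.injective ((if_neg fun h => hne h.symm).trans e.symm)⟩
  have hk := f.ker.card_mul_index
  rw [Subgroup.index_ker, MonoidHom.range_eq_top.2 hsurj, Subgroup.card_top, D.card,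
    Nat.card_congr Multiplicative.toAdd, Nat.card_zmod] at hk
  have he : f.ker.map D.Q.subtype = D.Q ⊓ Subgroup.centralizer ({x} : Set C) := by
    ext y
    constructor
    · rintro ⟨w, hw, rfl⟩
      refine ⟨w.2, Subgroup.mem_centralizer_singleton_iff.2 ?_⟩
      by_contra h
      exact absurd ((if_neg h).symm.trans (congrArg Multiplicative.toAdd (MonoidHom.mem_ker.1 hw))) (by decide)
    · rintro ⟨hy, hc⟩
      refine ⟨⟨y, hy⟩, MonoidHom.mem_ker.2 ?_, rfl⟩
      exact Multiplicative.toAdd.injective (if_pos (Subgroup.mem_centralizer_singleton_iff.1 hc))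
  rw [← he, Subgroup.card_map_of_injective Subtype.val_injective]
  omega

/-- A normalised two-subgroup centralising an involution outside the elementary subgroup lies in `Q`. -/
theorem two_le_Q {x : C} (hx : x ∈ D.Q) (hx2 : x * x = 1) (hxE : x ∉ D.E) {N : Subgroup C}
    (hN : IsPGroup 2 N) (hle : N ≤ Subgroup.centralizer ({x} : Set C))
    (hnorm : ∀ r ∈ Subgroup.centralizer ({x} : Set C), ∀ n ∈ N, r * n * r⁻¹ ∈ N) : N ≤ D.Q := by
  classical
  set R := Subgroup.centralizer ({x} : Set C)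
  have hconj : (Base.conjs x).ncard = 56 := (D.trans x hx hx2 hxE).1
  have hidx : R.index = 56 := by
    rw [← hconj]
    show R.index = (Set.range fun c => c * x * c⁻¹).ncard
    rw [← Nat.card_coe_set_eq]
    refine Nat.card_congr (Equiv.ofBijective
      (Quotient.lift (fun c => (⟨c * x * c⁻¹, c, rfl⟩ : Set.range fun c => c * x * c⁻¹)) fun c d h => ?_)
      ⟨?_, ?_⟩)
    · apply Subtype.ext
      show c * x * c⁻¹ = d * x * d⁻¹
      have h' : c⁻¹ * d ∈ R := QuotientGroup.leftRel_apply.1 h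
      have e := Subgroup.mem_centralizer_singleton_iff.1 h'
      calc c * x * c⁻¹ = c * (x * (c⁻¹ * d)) * d⁻¹ := by group
        _ = c * (c⁻¹ * d * x) * d⁻¹ := by rw [e]
        _ = d * x * d⁻¹ := by group
    · rintro ⟨c⟩ ⟨d⟩ h
      apply Quotient.sound
      refine QuotientGroup.leftRel_apply.2 (Subgroup.mem_centralizer_singleton_iff.2 ?_)
      have h' : c * x * c⁻¹ = d * x * d⁻¹ := congrArg Subtype.val h
      calc c⁻¹ * d * x = c⁻¹ * (d * x * d⁻¹) * d := by group
        _ = c⁻¹ * (c * x * c⁻¹) * d := by rw [h']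
        _ = x * (c⁻¹ * d) := by group
    · rintro ⟨_, c, rfl⟩; exact ⟨Quotient.mk'' c, rfl⟩
  have hR : Nat.card R = 384 := by
    have h := R.card_mul_index
    rw [hidx, D.card_group] at h
    omega
  have h1 : x ≠ 1 := fun e => hxE (e ▸ one_mem _)
  have hz : x ≠ D.z := fun e => hxE (e ▸ D.z_memE)
  set f := D.φ.comp R.subtype
  have hker : f.ker.map R.subtype = D.Q ⊓ R := by
    ext y
    constructor
    · rintro ⟨w, hw, rfl⟩
      exact ⟨D.ker ▸ MonoidHom.mem_ker.2 (MonoidHom.mem_ker.1 hw), w.2⟩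
    · rintro ⟨hy, hyR⟩
      rw [← D.ker] at hy
      exact ⟨⟨y, hyR⟩, hy, rfl⟩
  have hk64 : Nat.card f.ker = 64 := by
    rw [← D.card_centQ hx h1 hz, ← hker, Subgroup.card_map_of_injective Subtype.val_injective]
  have hrange : Nat.card f.range = 6 := by
    have h := f.ker.card_mul_index
    rw [Subgroup.index_ker, hk64, hR] at h
    omega
  intro n hn
  rw [← D.ker, MonoidHom.mem_ker]
  by_contra hne
  have : Fact (Nat.Prime 2) := ⟨Nat.prime_two⟩
  set M := N.map D.φ
  have hMle : M ≤ f.range := by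
    rintro _ ⟨w, hw, rfl⟩; exact ⟨⟨w, hle hw⟩, rfl⟩
  obtain ⟨k, hk⟩ := (IsPGroup.iff_card (p := 2)).1 (hN.map D.φ)
  have hM2 : Nat.card M = 2 := by
    have hd : 2 ^ k ∣ 6 := hk ▸ hrange ▸ Subgroup.card_dvd_of_le hMle
    have hk3 : k ≤ 2 := by
      by_contra hc
      have := Nat.le_of_dvd (by norm_num) ((pow_dvd_pow 2 (show 3 ≤ k by omega)).trans hd)
      norm_num at this
    interval_cases k
    · rw [pow_zero, Subgroup.card_eq_one] at hk
      exact absurd (Subgroup.mem_bot.1 (hk ▸ (⟨n, hn, rfl⟩ : D.φ n ∈ M))) hne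
    · exact hk
    · norm_num at hd
  obtain ⟨⟨w, hw⟩, ho⟩ := exists_prime_orderOf_dvd_card' (G := f.range) (p := 3) (hp := ⟨Nat.prime_three⟩)
    (by rw [hrange]; norm_num)
  rw [Subgroup.orderOf_mk] at ho
  obtain ⟨⟨r, hr⟩, rfl⟩ := hw
  have hyM : D.φ n ∈ M := ⟨n, hn, rfl⟩
  have hconjM : D.φ r * D.φ n * (D.φ r)⁻¹ ∈ M :=
    ⟨r * n * r⁻¹, hnorm r hr n hn, by rw [map_mul, map_mul, map_inv]⟩
  have hfix : D.φ r * D.φ n * (D.φ r)⁻¹ = D.φ n := by
    have hne' : (⟨D.φ n, hyM⟩ : M) ≠ 1 := fun e => hne (congrArg Subtype.val e)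
    obtain ⟨y, -, huniq⟩ := (Nat.card_eq_two_iff' (1 : M)).1 hM2
    have hcl : ∀ p : M, p = 1 ∨ p = ⟨D.φ n, hyM⟩ := fun p =>
      (em (p = 1)).imp_right fun hp => (huniq p hp).trans (huniq _ hne').symm
    rcases hcl ⟨_, hconjM⟩ with e | e
    · exact absurd (conj_eq_one_iff.1 (congrArg Subtype.val e)) hne
    · exact congrArg Subtype.val e
  have hc : Commute (D.φ r) (D.φ n) := mul_inv_eq_iff_eq_mul.1 hfix
  have hn2 : D.φ n ^ 2 = 1 := by
    have := congrArg Subtype.val (pow_card_eq_one' (x := (⟨D.φ n, hyM⟩ : M)))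
    rwa [hM2, SubgroupClass.coe_pow, Subgroup.coe_one] at this
  have h3 : D.φ r ^ 3 = 1 := by
    have := pow_orderOf_eq_one (f ⟨r, hr⟩)
    rwa [ho] at this
  rcases no_six (x := D.φ r * D.φ n) (by
      rw [hc.mul_pow, show (6 : ℕ) = 3 * 2 from rfl, pow_mul, h3, one_pow, one_mul, mul_comm, pow_mul, hn2, one_pow])
    with e | e
  · rw [hc.mul_pow, hn2, mul_one] at e
    have : orderOf (f ⟨r, hr⟩) ∣ 2 := orderOf_dvd_of_pow_eq_one e
    rw [ho] at this
    norm_num at this
  · rw [hc.mul_pow, h3, one_mul, pow_succ, hn2, one_mul] at e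
    exact hne e

end NS

end Cfsg.Agent.H85.Held
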