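import Cfsg.Agent.H85.Held.Frame
import Cfsg.Agent.H85.Held.NonSplit

/-!
# The twisted extension of the split module
-/

set_option autoImplicit false
set_option linter.unusedSectionVars false

namespace Cfsg.Agent.H85.Held

open Matrix

universe u

theorem four_fix_pair : ∀ r v : F3, r ⬝ᵥ v = 0 → ∃ p : Fin 7 × Fin 3,
    let g : L3 := sevenEl ^ (p.1 : ℕ) * threeEl ^ (p.2 : ℕ)
    r ᵥ* ((g * fourEl * g⁻¹ : L3) : M3) = r ∧ ((g * fourEl * g⁻¹ : L3) : M3) *ᵥ v = v := by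
  decide +kernel

theorem root_vectors : ∀ k : Fin 2,
    let A : L3 := if k = 0 then fourEl else fourEl * fourEl * fourEl
    (![0, 0, 1] : F3) ᵥ* (A : M3) = ![0, 0, 1] ∧ (A : M3) *ᵥ ![1, 0, 0] = ![1, 0, 0] ∧
    ∀ r v : F3, (![0, 0, 1] : F3) ⬝ᵥ v = 0 → r ⬝ᵥ ![1, 0, 0] = 0 →
      let r1 := r + r ᵥ* ((A⁻¹ : L3) : M3)
      let v1 := v + (A : M3) *ᵥ v
      r1 + r1 ᵥ* (((A * A)⁻¹ : L3) : M3) = 0 ∧ v1 + ((A * A : L3) : M3) *ᵥ v1 = 0 ∧
        (r1 ᵥ* (((A * A)⁻¹ : L3) : M3)) ⬝ᵥ v1 = 0 := by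
  decide +kernel

theorem sigma_one : ∀ t : ZMod 2, t + 1 = 0 → t = 1 := by decide

namespace Pair

variable {C : Type u} [Group C] [Finite C] (P : Pair C)

/-- The hypothesis that the extension is twisted. -/
def Twisted : Prop := ∀ a : P.H, P.rho a = fourEl → (a : C) ^ 4 = P.z

theorem four_of_twisted (htw : P.Twisted) (h : P.H) (hh : P.rho h = fourEl ∨ P.rho h = fourEl * fourEl * fourEl) :
    (h : C) ^ 4 = P.z := by
  rcases hh with hh | hh
  · exact htw h hh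
  · have h3 : P.rho (h ^ 3) = fourEl := by
      rw [map_pow, hh]; decide +kernel
    have e := htw _ h3
    rw [SubgroupClass.coe_pow, ← pow_mul, show 3 * 4 = 4 * 3 from rfl, pow_mul] at e
    rcases P.rho_ker (h := h ^ 4) (by rw [map_pow, hh]; decide +kernel) with e1 | e1
    · rw [SubgroupClass.coe_pow] at e1
      rw [e1, one_pow] at e
      exact absurd e.symm P.z_ne
    · rwa [SubgroupClass.coe_pow] at e1

theorem sq_of_twisted (htw : P.Twisted) (k : P.H) (h2 : P.rho k * P.rho k = 1) (h1 : P.rho k ≠ 1) :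
    (k : C) * k = P.z := by
  obtain ⟨p, hp⟩ := involution_conj h2 h1
  obtain ⟨d, hd⟩ := P.rho_surj p
  obtain ⟨a, ha⟩ := P.rho_surj fourEl
  have hρ : P.rho ((a * a)⁻¹ * (d⁻¹ * k * d)) = 1 := by
    rw [map_mul, map_inv, map_mul, map_mul, map_mul, map_inv, hd, ha, mul_assoc p⁻¹, hp, inv_mul_cancel_left,
      inv_mul_cancel]
  obtain ⟨t, ht⟩ := P.zp_cases (P.rho_ker hρ)
  have he : (d : C)⁻¹ * k * d = a * a * P.zp t := by
    rw [← ht]; push_cast; group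
  have hsq : ((d : C)⁻¹ * k * d) * ((d : C)⁻¹ * k * d) = P.z := by
    rw [he, (show Commute (P.zp t) ((a : C) * a) from P.zp_comm _ _).mul_mul_mul_comm, ← P.zp_add,
      bit_add_self, P.zp_zero, mul_one, ← htw a ha]
    simp only [pow_succ, pow_zero, one_mul, mul_assoc]
  calc (k : C) * k = d * (((d : C)⁻¹ * k * d) * ((d : C)⁻¹ * k * d)) * (d : C)⁻¹ := by group
    _ = P.z := by rw [hsq, ← P.z_comm, mul_inv_cancel_right]

theorem conj_form (h : P.H) (r v : F3) : (h : C) * (P.W r * P.V v) * (h : C)⁻¹ =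
    P.W (r ᵥ* (((P.rho h)⁻¹ : L3) : M3)) * P.V ((P.rho h : M3) *ᵥ v) := by
  have hW : (h : C) * P.W r * (h : C)⁻¹ = P.W (r ᵥ* (((P.rho h)⁻¹ : L3) : M3)) := by
    have e := P.rho_W h (r ᵥ* (((P.rho h)⁻¹ : L3) : M3))
    rw [vecMul_vecMul, ← Matrix.SpecialLinearGroup.coe_mul, inv_mul_cancel, Matrix.SpecialLinearGroup.coe_one,
      vecMul_one] at e
    rw [e, mul_inv_cancel_right]
  have hV : (h : C) * P.V v * (h : C)⁻¹ = P.V ((P.rho h : M3) *ᵥ v) := by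
    rw [P.rho_V, mul_inv_cancel_right]
  rw [← hW, ← hV]; group

theorem mul_form (r v r' v' : F3) : P.W r * P.V v * (P.W r' * P.V v') =
    P.W (r + r') * P.V (v + v') * P.zp (r' ⬝ᵥ v) := by
  calc P.W r * P.V v * (P.W r' * P.V v') = P.W r * (P.V v * P.W r') * P.V v' := by group
    _ = P.W r * P.W r' * P.V v * (P.zp (r' ⬝ᵥ v) * P.V v') := by rw [P.VW]; group
    _ = P.W r * P.W r' * (P.V v * P.V v') * P.zp (r' ⬝ᵥ v) := by rw [P.zp_comm]; group
    _ = _ := by rw [← P.W_add, ← P.V_add]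

theorem square_form (h : P.H) (r v : F3) : P.W r * P.V v * h * (P.W r * P.V v * h) =
    P.W (r + r ᵥ* (((P.rho h)⁻¹ : L3) : M3)) * P.V (v + (P.rho h : M3) *ᵥ v) *
      P.zp ((r ᵥ* (((P.rho h)⁻¹ : L3) : M3)) ⬝ᵥ v) * ((h : C) * h) := by
  calc P.W r * P.V v * h * (P.W r * P.V v * h)
      = P.W r * P.V v * ((h : C) * (P.W r * P.V v) * (h : C)⁻¹) * ((h : C) * h) := by group
    _ = _ := by rw [P.conj_form, P.mul_form]

/-- No twisted element of order eight fails to centralise an involution of `Q`. -/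
theorem twisted_inside (htw : P.Twisted) {u : C} (hu : u ∈ P.Q) (hu2 : u * u = 1) :
    ∃ h : C, h * u = u * h ∧ h ^ 4 = P.z := by
  obtain ⟨r, v, c, rfl⟩ := P.Q_form hu
  have hd : r ⬝ᵥ v = 0 := P.zp_inj (by rw [← P.sq_form r v c, hu2, P.zp_zero])
  obtain ⟨p, hr, hv⟩ := four_fix_pair r v hd
  set g : L3 := sevenEl ^ (p.1 : ℕ) * threeEl ^ (p.2 : ℕ)
  obtain ⟨d, hdg⟩ := P.rho_surj g
  obtain ⟨a, ha⟩ := P.rho_surj fourEl
  refine ⟨((d * a * d⁻¹ : P.H) : C), ?_, ?_⟩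
  · have hρ : P.rho (d * a * d⁻¹) = g * fourEl * g⁻¹ := by rw [map_mul, map_mul, map_inv, hdg, ha]
    have e := P.conj_form (d * a * d⁻¹) r v
    rw [hρ, hv, show r ᵥ* (((g * fourEl * g⁻¹)⁻¹ : L3) : M3) = r from ?_, mul_inv_eq_iff_eq_mul] at e
    · rw [← mul_assoc, e, mul_assoc (P.W r * P.V v), ← P.zp_comm, ← mul_assoc]
    · conv_lhs => rw [← hr]
      rw [vecMul_vecMul, ← Matrix.SpecialLinearGroup.coe_mul, mul_inv_cancel,
        Matrix.SpecialLinearGroup.coe_one, vecMul_one]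
  · rw [← SubgroupClass.coe_pow, conj_pow]
    push_cast
    rw [htw a ha, ← P.z_comm, mul_inv_cancel_right]

/-- The involutions outside `Q` of the twisted extension. -/
theorem twisted_outside (htw : P.Twisted) {u : C} (hu : u * u = 1) (huQ : u ∉ P.Q) :
    (∃ a ∈ P.Q, a * a = P.z ∧ a * u = u * a) ∧
    ∀ y, y * y = u → ∃ x ∈ P.Q, x * u = u * x ∧
      (y * x * y⁻¹ * x⁻¹ = P.z ∨ (y * x * y⁻¹ * x⁻¹) * (y * x * y⁻¹ * x⁻¹) = P.z) := by
  classical
  obtain ⟨r, v, k, hk, rfl⟩ := P.decomp u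
  set kh : P.H := ⟨k, hk⟩
  have hφX : ∀ r v, P.φ (P.W r * P.V v) = 1 := fun r v => by
    rw [← MonoidHom.mem_ker, P.ker]; exact mul_mem (P.W_mem_Q r) (P.V_mem_Q v)
  have hkQ : k ∉ P.Q := fun h => huQ (mul_mem (mul_mem (P.W_mem_Q r) (P.V_mem_Q v)) h)
  have hk1 : P.rho kh ≠ 1 := fun e => hkQ (by
    rcases P.rho_ker e with e' | e'
    · rw [show k = 1 from e']; exact one_mem _
    · rw [show k = P.z from e']; exact P.le₁ P.z_mem₁)
  have hk2 : P.rho kh * P.rho kh = 1 := by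
    have hφ : P.φ k * P.φ k = 1 := by
      have := congrArg P.φ hu
      rwa [map_mul, map_mul, hφX, one_mul, map_one] at this
    rw [← map_mul, ← MonoidHom.mem_ker, P.rho_ker_eq, MonoidHom.mem_ker]
    show P.φ (k * k) = 1
    rw [map_mul, hφ]
  have hkk : (k : C) * k = P.z := P.sq_of_twisted htw kh hk2 hk1
  have hinv : (P.rho kh)⁻¹ = P.rho kh := inv_eq_of_mul_eq_one_right hk2
  have hsq := P.square_form kh r v
  rw [show (kh : C) = k from rfl, hu, hkk, hinv, mul_assoc, ← P.zp_one, ← P.zp_add] at hsq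
  have h000 : P.W 0 * P.V 0 * P.zp 0 = 1 := by rw [P.W_zero, P.V_zero, P.zp_zero, one_mul, one_mul]
  have hfrm := P.form_inj (h000.trans hsq)
  obtain ⟨hr, hv, hc⟩ := hfrm
  have hr' : r ᵥ* (P.rho kh : M3) = r := by
    have := congrArg (fun w => r + w) hr
    simp only [add_zero, ← add_assoc, f3_add_self, zero_add] at this
    exact this.symm
  have hv' : (P.rho kh : M3) *ᵥ v = v := by
    have := congrArg (fun w => v + w) hv
    simp only [add_zero, ← add_assoc, f3_add_self, zero_add] at this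
    exact this.symm
  rw [hr'] at hc
  have hrv : r ⬝ᵥ v = 1 := sigma_one _ hc.symm
  have hka : k * (P.W r * P.V v) = P.W r * P.V v * k := by
    have e := P.conj_form kh r v
    rw [hinv, hr', hv', mul_inv_eq_iff_eq_mul] at e
    exact e
  refine ⟨⟨P.W r * P.V v, mul_mem (P.W_mem_Q r) (P.V_mem_Q v), ?_, ?_⟩, fun y hy => ?_⟩
  · have := P.sq_form r v 0
    rwa [P.zp_zero, mul_one, hrv, P.zp_one] at this
  · rw [mul_assoc (P.W r * P.V v), hka]
  -- a square root, moved to the standard position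
  obtain ⟨r', v', m, hm, rfl⟩ := P.decomp y
  set mh : P.H := ⟨m, hm⟩
  have hmm : P.rho mh * P.rho mh = P.rho kh := by
    rw [← map_mul]
    have hq : kh⁻¹ * (mh * mh) ∈ (P.φ.comp P.H.subtype).ker := by
      rw [MonoidHom.mem_ker]
      show P.φ (k⁻¹ * (m * m)) = 1
      have := congrArg P.φ hy
      rw [map_mul, map_mul P.φ (P.W r' * P.V v'), hφX, one_mul, map_mul P.φ (P.W r * P.V v), hφX, one_mul] at this
      rw [map_mul, map_inv, map_mul, this, inv_mul_cancel]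
    rw [← P.rho_ker_eq, MonoidHom.mem_ker, map_mul, map_inv, inv_mul_eq_one] at hq
    exact hq.symm
  obtain ⟨p, hp⟩ := involution_conj hk2 hk1
  obtain ⟨d, hd⟩ := P.rho_surj p
  have hroot : (P.rho d)⁻¹ * P.rho mh * P.rho d = fourEl ∨
      (P.rho d)⁻¹ * P.rho mh * P.rho d = fourEl * fourEl * fourEl := by
    refine root_cases ?_
    calc (P.rho d)⁻¹ * P.rho mh * P.rho d * ((P.rho d)⁻¹ * P.rho mh * P.rho d)
        = (P.rho d)⁻¹ * (P.rho mh * P.rho mh) * P.rho d := by group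
      _ = fourEl * fourEl := by rw [hmm, hd, mul_assoc, hp, inv_mul_cancel_left]
  let K : Fin 2 := if (P.rho d)⁻¹ * P.rho mh * P.rho d = fourEl then 0 else 1
  have hK : (P.rho d)⁻¹ * P.rho mh * P.rho d = if K = 0 then fourEl else fourEl * fourEl * fourEl := by
    by_cases h : (P.rho d)⁻¹ * P.rho mh * P.rho d = fourEl
    · simp only [K, if_pos h, if_pos]; exact h
    · simp only [K, if_neg h, if_neg (show (1 : Fin 2) ≠ 0 by decide)]; exact hroot.resolve_left h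
  obtain ⟨hr0, hv0, hS⟩ := root_vectors K
  simp only [] at hr0 hv0 hS
  rw [← hK] at hr0 hv0 hS
  set A : L3 := (P.rho d)⁻¹ * P.rho mh * P.rho d with hA
  -- the conjugate in standard position
  set y0 : C := (d : C)⁻¹ * (P.W r' * P.V v' * m) * (d : C) with hy0
  have hy0sq : y0 * y0 = (d : C)⁻¹ * (P.W r * P.V v * k) * (d : C) := by rw [hy0, ← hy]; group
  obtain ⟨r1, v1, hform⟩ : ∃ r1 v1, y0 = P.W r1 * P.V v1 * ((d⁻¹ * mh * d : P.H) : C) := by
    refine ⟨r' ᵥ* (P.rho d : M3), (((P.rho d)⁻¹ : L3) : M3) *ᵥ v', ?_⟩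
    have e := P.conj_form d⁻¹ r' v'
    rw [map_inv, inv_inv, Subgroup.coe_inv, inv_inv] at e
    rw [← e, hy0]; push_cast; group; rfl
  have hm4 : ((d⁻¹ * mh * d : P.H) : C) ^ 4 = P.z := P.four_of_twisted htw _ (by
    rw [map_mul, map_mul, map_inv]; exact hroot)
  have hρm : P.rho (d⁻¹ * mh * d) = A := by rw [map_mul, map_mul, map_inv]
  by_contra hno
  simp only [not_exists, not_and, not_or] at hno
  -- both fixed vectors commute with the square root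
  have hkey : ∀ x0 ∈ P.Q, ∀ t, y0 * x0 * y0⁻¹ = x0 * P.zp t → t = 0 := by
    intro x0 hx0 t ht
    refine (bit_cases t).resolve_right fun e => ?_
    subst e
    rw [P.zp_one] at ht
    have hxQ : (d : C) * x0 * (d : C)⁻¹ ∈ P.Q := by
      rw [← P.ker, MonoidHom.mem_ker] at hx0 ⊢
      rw [map_mul, map_mul, hx0, mul_one, map_inv, mul_inv_cancel]
    have h2 : y0 * y0 * x0 * (y0 * y0)⁻¹ = x0 := by
      calc y0 * y0 * x0 * (y0 * y0)⁻¹ = y0 * (y0 * x0 * y0⁻¹) * y0⁻¹ := by group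
        _ = y0 * x0 * (P.z * y0⁻¹) := by rw [ht]; group
        _ = y0 * x0 * (y0⁻¹ * P.z) := by rw [P.z_comm]
        _ = x0 := by
            rw [← mul_assoc, ht, mul_assoc, P.z_sq, mul_one]
    rw [hy0sq] at h2
    refine (hno _ hxQ ?_).1 ?_
    · calc (d : C) * x0 * (d : C)⁻¹ * (P.W r * P.V v * k)
          = (d : C) * ((d : C)⁻¹ * (P.W r * P.V v * k) * d * x0 * ((d : C)⁻¹ * (P.W r * P.V v * k) * d)⁻¹) *
              (d : C)⁻¹ * (P.W r * P.V v * k) := by rw [h2]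
        _ = P.W r * P.V v * k * ((d : C) * x0 * (d : C)⁻¹) := by group
    · calc P.W r' * P.V v' * m * ((d : C) * x0 * (d : C)⁻¹) * (P.W r' * P.V v' * m)⁻¹ *
            ((d : C) * x0 * (d : C)⁻¹)⁻¹ = (d : C) * (y0 * x0 * y0⁻¹ * x0⁻¹) * (d : C)⁻¹ := by rw [hy0]; group
        _ = P.z := by
            rw [ht, ← P.z_comm x0, mul_inv_cancel_right, ← P.z_comm, mul_inv_cancel_right]
  have h1 : (![0, 0, 1] : F3) ⬝ᵥ v1 = 0 := hkey _ (P.W_mem_Q ![0, 0, 1]) _ (by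
    have e := P.conj_form (d⁻¹ * mh * d) ![0, 0, 1] 0
    rw [hρm, mulVec_zero, P.V_zero, mul_one, mul_one,
      show (![0, 0, 1] : F3) ᵥ* ((A⁻¹ : L3) : M3) = ![0, 0, 1] from ?_] at e
    · calc y0 * P.W ![0, 0, 1] * y0⁻¹
          = P.W r1 * P.V v1 * (((d⁻¹ * mh * d : P.H) : C) * P.W ![0, 0, 1] * ((d⁻¹ * mh * d : P.H) : C)⁻¹) *
              (P.W r1 * P.V v1)⁻¹ := by rw [hform]; group
        _ = P.W r1 * (P.V v1 * P.W ![0, 0, 1]) * (P.V v1)⁻¹ * (P.W r1)⁻¹ := by rw [e]; group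
        _ = P.W r1 * P.W ![0, 0, 1] * P.V v1 * (P.zp ((![0, 0, 1] : F3) ⬝ᵥ v1) * ((P.V v1)⁻¹ * (P.W r1)⁻¹)) := by
            rw [P.VW]; group
        _ = P.W ![0, 0, 1] * P.zp ((![0, 0, 1] : F3) ⬝ᵥ v1) := by
            rw [P.zp_comm, P.comm₁ (P.W_mem r1) (P.W_mem _)]; group
    · conv_lhs => rw [← hr0]
      rw [vecMul_vecMul, ← Matrix.SpecialLinearGroup.coe_mul, mul_inv_cancel,
        Matrix.SpecialLinearGroup.coe_one, vecMul_one])
  have h2 : r1 ⬝ᵥ (![1, 0, 0] : F3) = 0 := hkey _ (P.V_mem_Q ![1, 0, 0]) _ (by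
    have e := P.conj_form (d⁻¹ * mh * d) 0 ![1, 0, 0]
    rw [hρm, zero_vecMul, P.W_zero, one_mul, one_mul, hv0] at e
    calc y0 * P.V ![1, 0, 0] * y0⁻¹
        = P.W r1 * P.V v1 * (((d⁻¹ * mh * d : P.H) : C) * P.V ![1, 0, 0] * ((d⁻¹ * mh * d : P.H) : C)⁻¹) *
            (P.W r1 * P.V v1)⁻¹ := by rw [hform]; group
      _ = P.W r1 * (P.V v1 * P.V ![1, 0, 0]) * (P.V v1)⁻¹ * (P.W r1)⁻¹ := by rw [e]; group
      _ = P.W r1 * P.V ![1, 0, 0] * (P.W r1)⁻¹ := by rw [P.comm₂ (P.V_mem v1) (P.V_mem _)]; group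
      _ = P.V ![1, 0, 0] * (P.W r1 * (P.zp (r1 ⬝ᵥ (![1, 0, 0] : F3)) * (P.W r1)⁻¹)) := by rw [P.WV]; group
      _ = P.V ![1, 0, 0] * P.zp (r1 ⬝ᵥ (![1, 0, 0] : F3)) := by rw [P.zp_comm]; group)
  obtain ⟨e1, e2, e3⟩ := hS r1 v1 h1 h2
  -- the fourth power
  have hy4 : y0 * y0 * (y0 * y0) = P.z := by
    set mm : P.H := d⁻¹ * mh * d
    have s1 : y0 * y0 = P.W (r1 + r1 ᵥ* ((A⁻¹ : L3) : M3)) * P.V (v1 + (A : M3) *ᵥ v1) *
        ((mm * mm : P.H) : C) * P.zp ((r1 ᵥ* ((A⁻¹ : L3) : M3)) ⬝ᵥ v1) := by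
      rw [hform, P.square_form mm r1 v1, hρm, mul_assoc _ (P.zp _), P.zp_comm, ← mul_assoc, ← Subgroup.coe_mul]
    set s := (r1 ᵥ* ((A⁻¹ : L3) : M3)) ⬝ᵥ v1
    rw [s1, (show Commute (P.zp s) _ from P.zp_comm s _).mul_mul_mul_comm, ← P.zp_add, bit_add_self, P.zp_zero,
      mul_one, P.square_form (mm * mm), map_mul, hρm, e1, e2, e3, P.W_zero, P.V_zero, P.zp_zero, one_mul,
      one_mul, one_mul, ← hm4, Subgroup.coe_mul]
    simp only [pow_succ, pow_zero, one_mul, mul_assoc]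
  refine P.z_ne ?_
  rw [← hy4, hy0sq]
  calc (d : C)⁻¹ * (P.W r * P.V v * k) * d * ((d : C)⁻¹ * (P.W r * P.V v * k) * d)
      = (d : C)⁻¹ * (P.W r * P.V v * k * (P.W r * P.V v * k)) * d := by group
    _ = 1 := by rw [hu]; group

end Pair

end Cfsg.Agent.H85.Held
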