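import Cfsg.Agent.H85.Held.Blocks
import Cfsg.Agent.H85.Held.Twisted
import Cfsg.Agent.H85.Held.Cen

/-!
# The centraliser from two classes of involutions

In a simple group with two classes of involutions the centraliser of an involution with extraspecial
`2`-core of order `128` and quotient `SL(3, 2)` is that of a transvection of `SL(5, 2)`.
-/

set_option autoImplicit false
set_option linter.unusedSectionVars false

namespace Cfsg.Agent.H85.Held

open Matrix

universe u

theorem Base.Q_eq {C : Type u} [Group C] [Finite C] (D : Base C) {P : Subgroup C} (hP : P.Normal)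
    (hc : Nat.card P = 128) : P = D.Q := by
  have hle : P ≤ D.Q := by
    have : (P.map D.φ).Normal := hP.map _ D.surj
    rcases l3_normal (P.map D.φ) with e | e
    · intro x hx
      rw [← D.ker, MonoidHom.mem_ker]
      exact Subgroup.mem_bot.1 (e ▸ Subgroup.mem_map_of_mem D.φ hx)
    · have h := Subgroup.card_map_dvd P D.φ
      rw [e, Subgroup.card_top, hc, Cfsg.Agent.Linear.card_SL_three, ZMod.card] at h
      exact absurd h (by norm_num)
  exact Subgroup.eq_of_le_of_card_ge hle (by rw [hc, D.card])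

variable {G : Type u} [Group G] [Finite G]

/-- The centraliser of the involution in a simple group with two classes of involutions. -/
theorem cen_of_two_classes [IsSimpleGroup G] {z : G} {Q : Subgroup (Subgroup.centralizer ({z} : Set G))}
    [hQn : Q.Normal] (hz : orderOf z = 2) (hQ : Cfsg.IsExtraspecial 2 Q) (hcard : Nat.card Q = 2 ^ 7)
    (hCQ : Subgroup.centralizer (Q : Set (Subgroup.centralizer ({z} : Set G))) ≤ Q)
    (e : (Subgroup.centralizer ({z} : Set G)) ⧸ Q ≃* SpecialLinearGroup (Fin 3) (ZMod 2))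
    (htwo : ∃ x y : G, orderOf x = 2 ∧ orderOf y = 2 ∧ ¬ IsConj x y ∧
      ∀ w : G, orderOf w = 2 → IsConj w x ∨ IsConj w y)
    (s : SpecialLinearGroup (Fin 5) (ZMod 2))
    (hs : (s : Matrix (Fin 5) (Fin 5) (ZMod 2)) = transvection 0 1 1) :
    Nonempty (Subgroup.centralizer ({z} : Set G) ≃*
      Subgroup.centralizer ({s} : Set (SpecialLinearGroup (Fin 5) (ZMod 2)))) := by
  classical
  set zc : ↥(Subgroup.centralizer ({z} : Set G)) := ⟨z, Subgroup.mem_centralizer_singleton_iff.2 rfl⟩
  have hzz : z * z = 1 := by rw [← pow_two, ← hz, pow_orderOf_eq_one]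
  have hz1 : z ≠ 1 := fun h => by rw [h, orderOf_one] at hz; omega
  have hzc1 : zc ≠ 1 := fun h => hz1 (congrArg Subtype.val h)
  have hzcc : ∀ x : ↥(Subgroup.centralizer ({z} : Set G)), zc * x = x * zc := fun x =>
    Subtype.ext (Subgroup.mem_centralizer_singleton_iff.1 x.2).symm
  obtain ⟨hzQ, hcomm, hcen⟩ := extra_facts hQ hCQ hzc1 hzcc
  let D : Base ↥(Subgroup.centralizer ({z} : Set G)) :=
    { z := zc
      Q := Q
      φ := e.toMonoidHom.comp (QuotientGroup.mk' Q)
      z_sq := Subtype.ext hzz
      z_ne := hzc1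
      z_comm := hzcc
      z_mem := hzQ
      ker := by
        ext x
        exact e.map_eq_one_iff.trans (QuotientGroup.eq_one_iff x)
      surj := e.surjective.comp (QuotientGroup.mk'_surjective Q)
      card := by rw [hcard]; rfl
      comm := hcomm
      center := hcen
      cent := fun c hc => hCQ (Subgroup.mem_centralizer_iff.2 fun y hy => (hc y hy).symm) }
  let A : Amb z := { toBase := D, hz := rfl, hQ := hQ }
  rcases D.dichotomy with ⟨R, hR⟩ | ⟨E, hEn, hEQ, hEc, hzE, hEsq, htrans⟩
  · obtain ⟨F, hFz, -⟩ := R.exists_frame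
    have hPz : F.toPair.z = zc := hFz.trans (congrArg Base.z hR)
    have hPQ : F.toPair.Q = Q := by
      have hn : F.toPair.Q.Normal := F.toPair.ker ▸ MonoidHom.normal_ker _
      exact D.Q_eq hn F.toPair.card
    rcases F.toPair.twisted_or_split with ⟨R', hR'⟩ | htw
    · exact ⟨R'.toModel hR' s hs⟩
    exfalso
    obtain ⟨g, x, hg, hne⟩ := A.exists_fused
    have hfour : ∀ y : ↥(Subgroup.centralizer ({z} : Set G)), y ^ 8 = 1 → y ^ 4 = 1 ∨ y ^ 4 = A.z := fun y hy => by
      have := F.toPair.fourth hy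
      rwa [hPz] at this
    by_cases hxQ : x ∈ Q
    · have hx2 : x * x = 1 := Subtype.ext (by
        show (x : G) * x = 1
        rw [← hg, show g * z * g⁻¹ * (g * z * g⁻¹) = g * (z * z) * g⁻¹ by group, hzz]; group)
      obtain ⟨h, hhx, hh4⟩ := F.toPair.twisted_inside htw (hPQ.symm ▸ hxQ) hx2
      exact A.no_four hfour hg hne hhx (hh4.trans hPz)
    · refine hxQ (A.no_outer (fun u hu huQ => ?_) hg hne)
      obtain ⟨⟨a, ha, ha2, hau⟩, h2⟩ := F.toPair.twisted_outside htw hu (by rw [hPQ]; exact huQ)
      refine ⟨⟨a, (hPQ ▸ ha : a ∈ Q), ha2.trans hPz, hau⟩, fun y hy => ?_⟩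
      obtain ⟨w, hw, h3, h4⟩ := h2 y hy
      rw [hPz] at h4
      exact ⟨w, (hPQ ▸ hw : w ∈ Q), h3, h4⟩
  · exfalso
    let N : NS ↥(Subgroup.centralizer ({z} : Set G)) :=
      { toBase := D, E := E, E_normal := hEn, E_le := hEQ, E_card := hEc, z_memE := hzE, E_sq := hEsq,
        trans := htrans }
    refine AmbNS.absurd_of_two ({ toAmb := A, N := N, hN := rfl } : AmbNS z) fun a b ha ha1 haz hb hb1 hbz => ?_
    have : Fact (Nat.Prime 2) := ⟨Nat.prime_two⟩
    obtain ⟨p, q, -, -, -, hall⟩ := htwo
    have hoa : orderOf a = 2 := orderOf_eq_prime (by rw [pow_two]; exact ha) ha1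
    have hob : orderOf b = 2 := orderOf_eq_prime (by rw [pow_two]; exact hb) hb1
    rcases hall z hz with h | h <;> rcases hall a hoa with h' | h' <;> rcases hall b hob with h'' | h''
    all_goals first
      | exact absurd (h'.trans h.symm) haz
      | exact absurd (h''.trans h.symm) hbz
      | exact h'.trans h''.symm

end Cfsg.Agent.H85.Held
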