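import Cfsg.Agent.H85.Held.NSFus
import Cfsg.Agent.H77.AutPGroup
import Cfsg.Agent.PGroups.Basic

/-!
# The non-split case does not occur

In the non-split case all conjugates of the involution in its centraliser fill an elementary
subgroup `E` of order sixteen, whose normaliser induces all automorphisms on it.  Two involutions
with different numbers of fixed points on `E` would be conjugate, against the parity of an orbit
of conjugates of `E`.
-/

set_option autoImplicit false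
set_option linter.unusedSectionVars false

namespace Cfsg.Agent.H85.Held

open Subgroup

universe u

/-- Coordinates of the elementary subgroup. -/
abbrev V4 := F3 × ZMod 2

/-- An automorphism of order three without fixed points. -/
def triEl : V4 ≃+ V4 where
  toFun v := (![v.1 1, v.1 0 + v.1 1, v.2], v.1 2 + v.2)
  invFun v := (![v.1 0 + v.1 1, v.1 0, v.1 2 + v.2], v.1 2)
  left_inv v := by revert v; decide +kernel
  right_inv v := by revert v; decide +kernel
  map_add' v w := by revert v w; decide +kernel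

/-- An involution with four fixed points commuting with `triEl`. -/
def duoEl : V4 ≃+ V4 where
  toFun v := (![v.1 0 + v.1 2, v.1 1 + v.2, v.1 2], v.2)
  invFun v := (![v.1 0 + v.1 2, v.1 1 + v.2, v.1 2], v.2)
  left_inv v := by revert v; decide +kernel
  right_inv v := by revert v; decide +kernel
  map_add' v w := by revert v w; decide +kernel

theorem v4_facts : ∀ v : V4, triEl (duoEl v) = duoEl (triEl v) ∧ duoEl (duoEl v) = v ∧
    triEl (triEl v) + v = triEl v ∧ (triEl v = v → v = 0) := by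
  decide +kernel

theorem duo_fixed : (Finset.univ.filter fun v : V4 => duoEl v = v).card = 4 ∧ duoEl (![1, 0, 0], 0) = (![1, 0, 0], 0) ∧
    duoEl (![0, 0, 1], 0) ≠ (![0, 0, 1], 0) := by
  decide +kernel

namespace AmbNS

variable {G : Type u} [Group G] [Finite G] {z : G} (A : AmbNS z)

/-- The elementary subgroup inside the whole group. -/
def Eg : Subgroup G := A.N.E.map (Subgroup.centralizer ({z} : Set G)).subtype

theorem card_Eg : Nat.card A.Eg = 16 := by
  rw [Eg, Subgroup.card_map_of_injective Subtype.val_injective, A.N.E_card]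

theorem z_memEg : z ∈ A.Eg := ⟨A.N.z, A.N.z_memE, by rw [A.hzN]; exact A.hz⟩

theorem Eg_sq {e : G} (he : e ∈ A.Eg) : e * e = 1 := by
  obtain ⟨w, hw, rfl⟩ := he
  exact congrArg Subtype.val (A.N.E_sq w hw)

theorem Eg_comm {e f : G} (he : e ∈ A.Eg) (hf : f ∈ A.Eg) : e * f = f * e := by
  obtain ⟨w, hw, rfl⟩ := he
  obtain ⟨w', hw', rfl⟩ := hf
  exact congrArg Subtype.val (A.N.E_comm hw hw')

theorem mem_Eg_of_fused {g : G} (h : g * z * g⁻¹ * z = z * (g * z * g⁻¹)) : g * z * g⁻¹ ∈ A.Eg :=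
  ⟨⟨_, Subgroup.mem_centralizer_singleton_iff.2 h⟩, A.fused_mem rfl, rfl⟩

theorem cen_conj {c e : G} (hc : c * z = z * c) (he : e ∈ A.Eg) : c * e * c⁻¹ ∈ A.Eg := by
  obtain ⟨w, hw, rfl⟩ := he
  exact ⟨⟨c, Subgroup.mem_centralizer_singleton_iff.2 hc⟩ * w *
    (⟨c, Subgroup.mem_centralizer_singleton_iff.2 hc⟩)⁻¹, A.N.E_normal.conj_mem w hw _, rfl⟩

theorem mem_of_cent {c : G} (h : ∀ e ∈ A.Eg, c * e = e * c) : c ∈ A.Eg := by
  refine ⟨⟨c, Subgroup.mem_centralizer_singleton_iff.2 (h z A.z_memEg)⟩, A.N.cent_E fun e he => Subtype.ext ?_, rfl⟩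
  exact h (e : G) ⟨e, he, rfl⟩

variable [IsSimpleGroup G]

/-- All non-trivial elements of the elementary subgroup are conjugates of the involution. -/
theorem Eg_isConj {e : G} (he : e ∈ A.Eg) (h1 : e ≠ 1) : ∃ g : G, g * z * g⁻¹ = e := by
  obtain ⟨w, hw, rfl⟩ := he
  obtain ⟨g, x, hg, hx⟩ := A.exists_fused
  by_cases hwz : w = A.z
  · exact ⟨1, by rw [hwz, one_mul, inv_one, mul_one]; exact A.hz.symm⟩
  have hx1 : x ≠ 1 := fun e => A.z_neG (by
    rw [e, Subgroup.coe_one] at hg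
    exact conj_eq_one_iff.1 hg)
  obtain ⟨c, hc⟩ := A.N.E_orbit (A.fused_mem hg) hx1 (by rw [A.hzN]; exact hx) hw
    (fun e => h1 (congrArg Subtype.val e)) (by rw [A.hzN]; exact hwz)
  refine ⟨(c : G) * g, ?_⟩
  calc (c : G) * g * z * ((c : G) * g)⁻¹ = (c : G) * (g * z * g⁻¹) * (c : G)⁻¹ := by group
    _ = (w : G) := by rw [hg]; exact congrArg Subtype.val hc

/-- Conjugates of the involution commuting with a non-trivial element of `E` lie in `E`. -/
theorem mem_Eg {e g : G} (he : e ∈ A.Eg) (h1 : e ≠ 1) (hc : g * z * g⁻¹ * e = e * (g * z * g⁻¹)) :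
    g * z * g⁻¹ ∈ A.Eg := by
  obtain ⟨k, rfl⟩ := A.Eg_isConj he h1
  have hmap : ∀ w : A.Eg, k⁻¹ * (w : G) * k ∈ A.Eg := by
    rintro ⟨w, hw⟩
    by_cases hw1 : w = 1
    · subst hw1; simp [one_mem]
    obtain ⟨l, rfl⟩ := A.Eg_isConj hw hw1
    rw [show k⁻¹ * (l * z * l⁻¹) * k = k⁻¹ * l * z * (k⁻¹ * l)⁻¹ by group]
    refine A.mem_Eg_of_fused ?_
    have hh := A.Eg_comm hw he
    calc k⁻¹ * l * z * (k⁻¹ * l)⁻¹ * z = k⁻¹ * (l * z * l⁻¹ * (k * z * k⁻¹)) * k := by group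
      _ = k⁻¹ * (k * z * k⁻¹ * (l * z * l⁻¹)) * k := by rw [hh]
      _ = z * (k⁻¹ * l * z * (k⁻¹ * l)⁻¹) := by group
  let f : A.Eg → A.Eg := fun w => ⟨_, hmap w⟩
  have hf : Function.Surjective f := Finite.surjective_of_injective fun a b h => Subtype.ext (by
    have := congrArg Subtype.val h
    exact mul_left_cancel (mul_right_cancel this))
  have hv : k⁻¹ * (g * z * g⁻¹) * k ∈ A.Eg := by
    rw [show k⁻¹ * (g * z * g⁻¹) * k = k⁻¹ * g * z * (k⁻¹ * g)⁻¹ by group]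
    refine A.mem_Eg_of_fused ?_
    calc k⁻¹ * g * z * (k⁻¹ * g)⁻¹ * z = k⁻¹ * (g * z * g⁻¹ * (k * z * k⁻¹)) * k := by group
      _ = k⁻¹ * (k * z * k⁻¹ * (g * z * g⁻¹)) * k := by rw [hc]
      _ = z * (k⁻¹ * g * z * (k⁻¹ * g)⁻¹) := by group
  obtain ⟨w, hw⟩ := hf ⟨_, hv⟩
  have e1 : k⁻¹ * (w : G) * k = k⁻¹ * (g * z * g⁻¹) * k := congrArg Subtype.val hw
  exact mul_left_cancel (mul_right_cancel e1) ▸ w.2

/-- An element moving a non-trivial element of `E` into `E` normalises `E`. -/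
theorem conj_Eg {a e f : G} (he : e ∈ A.Eg) (h1 : e ≠ 1) (hae : a * e * a⁻¹ ∈ A.Eg) (hf : f ∈ A.Eg) :
    a * f * a⁻¹ ∈ A.Eg := by
  by_cases hf1 : f = 1
  · subst hf1; simp [one_mem]
  obtain ⟨l, hl⟩ := A.Eg_isConj hf hf1
  rw [← hl, show a * (l * z * l⁻¹) * a⁻¹ = a * l * z * (a * l)⁻¹ by group]
  refine A.mem_Eg hae (fun e' => h1 (conj_eq_one_iff.1 e')) ?_
  calc a * l * z * (a * l)⁻¹ * (a * e * a⁻¹) = a * (l * z * l⁻¹ * e) * a⁻¹ := by group
    _ = a * (e * (l * z * l⁻¹)) * a⁻¹ := by rw [hl, A.Eg_comm hf he]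
    _ = a * e * a⁻¹ * (a * l * z * (a * l)⁻¹) := by group

theorem mem_normalizer_Eg {a : G} (h : ∀ f ∈ A.Eg, a * f * a⁻¹ ∈ A.Eg) :
    a ∈ Subgroup.normalizer (A.Eg : Set G) := by
  have hsurj : Function.Surjective fun w : A.Eg => (⟨a * (w : G) * a⁻¹, h _ w.2⟩ : A.Eg) :=
    Finite.surjective_of_injective fun x y e => Subtype.ext (by
      have := congrArg Subtype.val e
      exact mul_left_cancel (mul_right_cancel this))
  refine Subgroup.mem_normalizer_iff.2 fun f => ⟨h f, fun hf => ?_⟩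
  obtain ⟨w, hw⟩ := hsurj ⟨_, hf⟩
  have e1 : a * (w : G) * a⁻¹ = a * f * a⁻¹ := congrArg Subtype.val hw
  exact mul_left_cancel (mul_right_cancel e1) ▸ w.2

theorem cen_le : Subgroup.centralizer ({z} : Set G) ≤ Subgroup.normalizer (A.Eg : Set G) := fun _ hc =>
  A.mem_normalizer_Eg fun _ hf => A.cen_conj (Subgroup.mem_centralizer_singleton_iff.1 hc) hf

/-- The normaliser of `E` induces every automorphism on it. -/
theorem lift_aut (α : MulAut A.Eg) : ∃ l : G, ∀ e : A.Eg, l * (e : G) * l⁻¹ = (α e : G) := by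
  classical
  set L := Subgroup.normalizer (A.Eg : Set G) with hLdef
  set C' := (Subgroup.centralizer ({z} : Set G)).subgroupOf L with hC'
  have hz1 : z ≠ 1 := A.z_neG
  let P : L → {e : A.Eg // e ≠ 1} := fun l =>
    ⟨⟨(l : G) * z * (l : G)⁻¹, (Subgroup.mem_normalizer_iff.1 l.2 z).1 A.z_memEg⟩,
      fun h => hz1 (conj_eq_one_iff.1 (congrArg Subtype.val h))⟩
  have hwd : ∀ a b : L, a⁻¹ * b ∈ C' ↔ P a = P b := by
    intro a b
    rw [hC', Subgroup.mem_subgroupOf, Subgroup.mem_centralizer_singleton_iff, Subgroup.coe_mul, Subgroup.coe_inv]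
    constructor
    · intro h
      refine Subtype.ext (Subtype.ext ?_)
      show (a : G) * z * (a : G)⁻¹ = b * z * (b : G)⁻¹
      calc (a : G) * z * (a : G)⁻¹ = (a : G) * (z * ((a : G)⁻¹ * b)) * (b : G)⁻¹ := by group
        _ = (a : G) * ((a : G)⁻¹ * b * z) * (b : G)⁻¹ := by rw [h]
        _ = b * z * (b : G)⁻¹ := by group
    · intro h
      have h' : (a : G) * z * (a : G)⁻¹ = b * z * (b : G)⁻¹ :=
        congrArg (fun p : {e : A.Eg // e ≠ 1} => ((p : A.Eg) : G)) h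
      calc (a : G)⁻¹ * b * z = (a : G)⁻¹ * ((b : G) * z * (b : G)⁻¹) * b := by group
        _ = (a : G)⁻¹ * ((a : G) * z * (a : G)⁻¹) * b := by rw [h']
        _ = z * ((a : G)⁻¹ * b) := by group
  let Pq : L ⧸ C' → {e : A.Eg // e ≠ 1} :=
    Quotient.lift P fun a b h => (hwd a b).1 (QuotientGroup.leftRel_apply.1 h)
  have hPq : Function.Bijective Pq := by
    refine ⟨fun a b => ?_, ?_⟩
    · induction a using QuotientGroup.induction_on with
      | _ a => induction b using QuotientGroup.induction_on with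
        | _ b => exact fun h => QuotientGroup.eq.2 ((hwd a b).2 h)
    · rintro ⟨⟨e, he⟩, h1⟩
      obtain ⟨k, hk⟩ := A.Eg_isConj he fun h => h1 (Subtype.ext h)
      have hkn : k ∈ L := A.mem_normalizer_Eg fun f hf => A.conj_Eg A.z_memEg hz1 (hk.symm ▸ he) hf
      exact ⟨QuotientGroup.mk ⟨k, hkn⟩, Subtype.ext (Subtype.ext hk)⟩
  have hidx : C'.index = 15 := by
    rw [Subgroup.index, Nat.card_eq_of_bijective Pq hPq]
    have := Fintype.ofFinite A.Eg
    rw [Nat.card_eq_fintype_card, Fintype.card_subtype_compl, Fintype.card_subtype_eq,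
      ← Nat.card_eq_fintype_card, A.card_Eg]
  have hC : Nat.card C' = 128 * 168 := by
    rw [hC', Nat.card_congr (Subgroup.subgroupOfEquivOfLe A.cen_le).toEquiv]
    exact A.N.toBase.card_group
  have hL : Nat.card L = 128 * 168 * 15 := by rw [← C'.card_mul_index, hC, hidx]
  set ψ : L →* MulAut A.Eg := Subgroup.normalizerMonoidHom A.Eg with hψ
  have hker : Nat.card ψ.ker ≤ 16 := by
    have hmem : ∀ l : ψ.ker, ((l : L) : G) ∈ A.Eg := fun l => A.mem_of_cent fun e he => by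
      have h := congrArg (fun σ : MulAut A.Eg => ((σ ⟨e, he⟩ : A.Eg) : G)) (MonoidHom.mem_ker.1 l.2)
      have h' : ((l : L) : G) * e * ((l : L) : G)⁻¹ = e := h
      calc ((l : L) : G) * e = ((l : L) : G) * e * ((l : L) : G)⁻¹ * (l : L) := by group
        _ = e * (l : L) := by rw [h']
    have h := Nat.card_le_card_of_injective (fun l : ψ.ker => (⟨_, hmem l⟩ : A.Eg))
      fun a b e => Subtype.ext (Subtype.ext (congrArg Subtype.val e :))
    rwa [A.card_Eg] at h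
  have haut : Nat.card (MulAut A.Eg) ≤ 20160 := by
    have : Fact (Nat.Prime 2) := ⟨Nat.prime_two⟩
    have hp : IsPGroup 2 A.Eg := fun v => ⟨1, by rw [pow_one, pow_two]; exact Subtype.ext (A.Eg_sq v.2)⟩
    have hF : frattini A.Eg = ⊥ := by
      refine le_bot_iff.1 (PGroups.frattini_le_of_commutator_le (p := 2) ⊥ ?_ fun x => ?_)
      · rw [commutator_def, Subgroup.commutator_le]
        intro a _ b _
        rw [Subgroup.mem_bot, commutatorElement_eq_one_iff_mul_comm]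
        exact Subtype.ext (A.Eg_comm a.2 b.2)
      · rw [Subgroup.mem_bot, pow_two]; exact Subtype.ext (A.Eg_sq x.2)
    refine Nat.le_of_dvd (by norm_num) ((H77.card_mulAut_dvd hp (r := 4) (by
      rw [hF, Subgroup.index_bot, A.card_Eg]; rfl)).trans ?_)
    rw [hF, Subgroup.card_bot, one_pow, one_mul]
    simp [Finset.prod_range_succ]
  have hsurj : ψ.range = ⊤ := by
    refine Subgroup.eq_top_of_card_eq _ (le_antisymm (Subgroup.card_le_card_group _) ?_)
    have h := ψ.ker.card_mul_index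
    rw [Subgroup.index_ker, hL] at h
    refine haut.trans ?_
    nlinarith
  obtain ⟨l, hl⟩ := hsurj.ge (Subgroup.mem_top α)
  exact ⟨l, fun e => by rw [← hl]; rfl⟩

/-- The elementary subgroup in coordinates. -/
theorem exists_coord : ∃ ι : V4 ≃ A.Eg, ∀ v w, ι (v + w) = ι v * ι w := by
  obtain ⟨K, -⟩ := A.N.exists_co
  have hmem : ∀ v : V4, ((K.P.W v.1 * K.P.zp v.2 : ↥(Subgroup.centralizer ({z} : Set G))) : G) ∈ A.Eg := fun v =>
    ⟨_, K.hE ▸ mul_mem (K.P.W_mem v.1) (K.P.zp_mem₁ v.2), rfl⟩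
  let f : V4 → A.Eg := fun v => ⟨_, hmem v⟩
  have hf : Function.Bijective f := by
    refine ⟨fun v w h => ?_, ?_⟩
    · have h' := congrArg Subtype.val h
      exact Prod.ext (K.P.W_mul_zp_eq (Subtype.ext h')).1 (K.P.W_mul_zp_eq (Subtype.ext h')).2
    · rintro ⟨_, x, hx, rfl⟩
      obtain ⟨r, a, e⟩ := K.P.span₁ x (K.hE.symm ▸ hx)
      exact ⟨(r, a), Subtype.ext (congrArg Subtype.val e).symm⟩
  refine ⟨Equiv.ofBijective f hf, fun v w => Subtype.ext ?_⟩
  show ((K.P.W (v.1 + w.1) * K.P.zp (v.2 + w.2) : ↥(Subgroup.centralizer ({z} : Set G))) : G) =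
    (K.P.W v.1 * K.P.zp v.2 : ↥(Subgroup.centralizer ({z} : Set G))) *
      (K.P.W w.1 * K.P.zp w.2 : ↥(Subgroup.centralizer ({z} : Set G)))
  rw [← Subgroup.coe_mul, K.P.W_add, K.P.zp_add]
  congr 1
  calc K.P.W v.1 * K.P.W w.1 * (K.P.zp v.2 * K.P.zp w.2) = K.P.W v.1 * (K.P.W w.1 * K.P.zp v.2) * K.P.zp w.2 := by group
    _ = K.P.W v.1 * (K.P.zp v.2 * K.P.W w.1) * K.P.zp w.2 := by rw [K.P.zp_comm]
    _ = K.P.W v.1 * K.P.zp v.2 * (K.P.W w.1 * K.P.zp w.2) := by group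

/-- An involution with exactly four fixed points on `E`. -/
theorem exists_four : ∃ y : G, y * y = 1 ∧ y ≠ 1 ∧ ¬ IsConj y z ∧ y ∈ Subgroup.normalizer (A.Eg : Set G) ∧
    {e : G | e ∈ A.Eg ∧ y * e = e * y}.ncard = 4 ∧ ∃ e ∈ A.Eg, e ≠ 1 ∧ y * e = e * y := by
  classical
  obtain ⟨ι, hι⟩ := A.exists_coord
  have hι0 : ι 0 = 1 := by
    have h := hι 0 0
    rw [add_zero] at h
    exact left_eq_mul.1 h
  have hsymm : ∀ a b : A.Eg, ι.symm (a * b) = ι.symm a + ι.symm b := fun a b => ι.injective (by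
    rw [hι, ι.apply_symm_apply, ι.apply_symm_apply, ι.apply_symm_apply])
  let θ : (V4 ≃+ V4) → MulAut A.Eg := fun σ =>
    { toEquiv := (ι.symm.trans σ.toEquiv).trans ι
      map_mul' := fun a b => by
        show ι (σ (ι.symm (a * b))) = ι (σ (ι.symm a)) * ι (σ (ι.symm b))
        rw [hsymm, map_add, hι] }
  obtain ⟨x, hx⟩ := A.lift_aut (θ triEl)
  obtain ⟨m, hm⟩ := A.lift_aut (θ duoEl)
  have hx' : ∀ v, x * (ι v : G) * x⁻¹ = ι (triEl v) := fun v => by
    rw [hx]; show (ι (triEl (ι.symm (ι v))) : G) = _; rw [ι.symm_apply_apply]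
  have hm' : ∀ v, m * (ι v : G) * m⁻¹ = ι (duoEl v) := fun v => by
    rw [hm]; show (ι (duoEl (ι.symm (ι v))) : G) = _; rw [ι.symm_apply_apply]
  have hEv : ∀ e ∈ A.Eg, ∃ v, (ι v : G) = e := fun e he => ⟨ι.symm ⟨e, he⟩, by rw [ι.apply_symm_apply]⟩
  -- the commutator acts trivially
  set f : G := x * m * x⁻¹ * m⁻¹ with hf
  have hfE : f ∈ A.Eg := A.mem_of_cent fun e he => by
    obtain ⟨v, rfl⟩ := hEv e he
    obtain ⟨v, rfl⟩ := duoEl.surjective v
    obtain ⟨v, rfl⟩ := triEl.surjective v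
    calc f * (ι (duoEl (triEl v)) : G) = f * (m * (x * (ι v : G) * x⁻¹) * m⁻¹) := by rw [hx', hm']
      _ = x * (m * (ι v : G) * m⁻¹) * x⁻¹ * f := by rw [hf]; group
      _ = (ι (duoEl (triEl v)) : G) * f := by rw [hm', hx', (v4_facts v).1]
  obtain ⟨w, hw⟩ := hEv f hfE
  set y : G := (ι (triEl w) : G) * m with hy
  have hyconj : ∀ v, y * (ι v : G) * y⁻¹ = ι (duoEl v) := fun v => by
    calc y * (ι v : G) * y⁻¹ = (ι (triEl w) : G) * (m * (ι v : G) * m⁻¹) * (ι (triEl w) : G)⁻¹ := by rw [hy]; group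
      _ = ι (duoEl v) := by rw [hm', A.Eg_comm (ι (triEl w)).2 (ι (duoEl v)).2, mul_inv_cancel_right]
  have hxy : x * y * x⁻¹ = y := by
    calc x * y * x⁻¹ = (x * (ι (triEl w) : G) * x⁻¹) * f * m := by rw [hy, hf]; group
      _ = y := by
        rw [hx', ← hw, ← Subgroup.coe_mul, ← hι, (v4_facts w).2.2.1, hy]
  have hyy : y * y = 1 := by
    have hE : y * y ∈ A.Eg := A.mem_of_cent fun e he => by
      obtain ⟨v, rfl⟩ := hEv e he
      calc y * y * (ι v : G) = y * (y * (ι v : G) * y⁻¹) * y⁻¹ * (y * y) := by group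
        _ = (ι v : G) * (y * y) := by rw [hyconj, hyconj, (v4_facts v).2.1]
    obtain ⟨v, hv⟩ := hEv _ hE
    have h1 : (ι (triEl v) : G) = ι v := by
      rw [← hx', hv]
      calc x * (y * y) * x⁻¹ = (x * y * x⁻¹) * (x * y * x⁻¹) := by group
        _ = y * y := by rw [hxy]
    rw [← hv, (v4_facts v).2.2.2 (ι.injective (Subtype.ext h1)), hι0, Subgroup.coe_one]
  have hfix : ∀ v, y * (ι v : G) = (ι v : G) * y ↔ duoEl v = v := fun v => by
    constructor
    · intro h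
      refine ι.injective (Subtype.ext ?_)
      rw [← hyconj, h, mul_inv_cancel_right]
    · intro h
      calc y * (ι v : G) = y * (ι v : G) * y⁻¹ * y := by group
        _ = (ι v : G) * y := by rw [hyconj, h]
  have he0 : y * (ι (![1, 0, 0], 0) : G) = (ι (![1, 0, 0], 0) : G) * y := (hfix _).2 duo_fixed.2.1
  have hne : (ι (![1, 0, 0], 0) : G) ≠ 1 := fun h => absurd (ι.injective ((Subtype.ext h).trans hι0.symm))
    (by decide)
  have hyE : y ∉ A.Eg := fun h => duo_fixed.2.2 ((hfix _).1 (A.Eg_comm h (ι _).2))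
  refine ⟨y, hyy, fun h => hyE (h ▸ one_mem _), fun h => hyE ?_, A.mem_normalizer_Eg fun e he => ?_, ?_,
    _, (ι _).2, hne, he0⟩
  · obtain ⟨k, hk⟩ := isConj_iff.1 h.symm
    rw [← hk]
    exact A.mem_Eg (ι (![1, 0, 0], 0)).2 hne (by rw [hk]; exact he0)
  · obtain ⟨v, rfl⟩ := hEv e he
    rw [hyconj]; exact (ι _).2
  · rw [← duo_fixed.1, ← Set.ncard_coe_finset,
      ← Set.ncard_image_of_injective _ (show Function.Injective fun v => (ι v : G) from
        Subtype.val_injective.comp ι.injective)]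
    congr 1
    ext e
    simp only [Finset.coe_filter, Finset.mem_univ, true_and, Set.mem_image, Set.mem_ofPred_eq]
    constructor
    · rintro ⟨he, hc⟩
      obtain ⟨v, rfl⟩ := hEv e he
      exact ⟨v, (hfix v).1 hc, rfl⟩
    · rintro ⟨v, hv, rfl⟩
      exact ⟨(ι v).2, (hfix v).2 hv⟩

/-- An involution outside `E` with at least eight fixed points on it. -/
theorem exists_eight : ∃ y : G, y * y = 1 ∧ y ≠ 1 ∧ ¬ IsConj y z ∧ y * z = z * y ∧
    8 ≤ {e : G | e ∈ A.Eg ∧ y * e = e * y}.ncard := by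
  obtain ⟨x, hxQ, hx2, hxE⟩ := A.N.exists_out
  refine ⟨x, congrArg Subtype.val hx2, fun h => hxE ?_, fun h => hxE ?_,
    Subgroup.mem_centralizer_singleton_iff.1 x.2, (A.N.fixed_E hxQ).trans ?_⟩
  · rw [show x = 1 from Subtype.ext h]; exact one_mem _
  · obtain ⟨g, hg⟩ := isConj_iff.1 h.symm
    exact A.fused_mem hg
  · refine Set.ncard_le_ncard_of_injOn Subtype.val (fun e he => ?_) Subtype.val_injective.injOn (Set.toFinite _)
    exact ⟨⟨e, he.1, rfl⟩, congrArg Subtype.val he.2⟩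

/-- The conjugates of `E`. -/
def blk (g : G) : Subgroup G := A.Eg.map (MulAut.conj g).toMonoidHom

theorem mem_blk {g w : G} : w ∈ A.blk g ↔ g⁻¹ * w * g ∈ A.Eg := by
  constructor
  · rintro ⟨e, he, rfl⟩
    show g⁻¹ * (g * e * g⁻¹) * g ∈ A.Eg
    rwa [show g⁻¹ * (g * e * g⁻¹) * g = e by group]
  · intro h
    exact ⟨_, h, show g * (g⁻¹ * w * g) * g⁻¹ = w by group⟩

theorem blk_map (g k : G) : (A.blk g).map (MulAut.conj k).toMonoidHom = A.blk (k * g) := by
  ext w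
  constructor
  · rintro ⟨v, hv, rfl⟩
    rw [SetLike.mem_coe, A.mem_blk] at hv
    rw [A.mem_blk]
    show (k * g)⁻¹ * (k * v * k⁻¹) * (k * g) ∈ A.Eg
    rwa [show (k * g)⁻¹ * (k * v * k⁻¹) * (k * g) = g⁻¹ * v * g by group]
  · intro h
    refine ⟨k⁻¹ * w * k, ?_, show k * (k⁻¹ * w * k) * k⁻¹ = w by group⟩
    rw [A.mem_blk] at h
    show k⁻¹ * w * k ∈ A.blk g
    rw [A.mem_blk, show g⁻¹ * (k⁻¹ * w * k) * g = (k * g)⁻¹ * w * (k * g) by group]
    exact h

theorem blk_eq_iff {a b : G} : A.blk a = A.blk b ↔ b⁻¹ * a ∈ Subgroup.normalizer (A.Eg : Set G) := by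
  constructor
  · intro h
    refine A.mem_normalizer_Eg fun f hf => ?_
    have h2 : a * f * a⁻¹ ∈ A.blk b := h ▸ A.mem_blk.2 (by rwa [show a⁻¹ * (a * f * a⁻¹) * a = f by group])
    rw [A.mem_blk] at h2
    rwa [show b⁻¹ * a * f * (b⁻¹ * a)⁻¹ = b⁻¹ * (a * f * a⁻¹) * b by group]
  · intro h
    ext w
    rw [A.mem_blk, A.mem_blk, Subgroup.mem_normalizer_iff.1 h (a⁻¹ * w * a),
      show b⁻¹ * a * (a⁻¹ * w * a) * (b⁻¹ * a)⁻¹ = b⁻¹ * w * b by group]

/-- A conjugate of the involution normalises only the block containing it. -/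
theorem fix_blk {g k e : G} (he : e ∈ A.Eg) (h1 : e ≠ 1) (hfix : A.blk (g * e * g⁻¹ * k) = A.blk k) :
    A.blk k = A.blk g := by
  set u := k⁻¹ * (g * e * g⁻¹) * k with hu
  have hun : u ∈ Subgroup.normalizer (A.Eg : Set G) := by
    have := A.blk_eq_iff.1 hfix
    rwa [show k⁻¹ * (g * e * g⁻¹ * k) = u by rw [hu]; group] at this
  have hu2 : u * u = 1 := by
    rw [hu, show k⁻¹ * (g * e * g⁻¹) * k * (k⁻¹ * (g * e * g⁻¹) * k) = k⁻¹ * g * (e * e) * (g⁻¹ * k) by group,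
      A.Eg_sq he]; group
  have hu1 : u ≠ 1 := fun h => h1 (by
    calc e = (k⁻¹ * g)⁻¹ * u * (k⁻¹ * g) := by rw [hu]; group
      _ = 1 := by rw [h]; group)
  obtain ⟨f, hf, hf1, hfu⟩ : ∃ f ∈ A.Eg, f ≠ 1 ∧ u * f = f * u := by
    by_cases hc : u * z = z * u
    · exact ⟨z, A.z_memEg, A.z_neG, hc⟩
    have huz : u * z * u⁻¹ ∈ A.Eg := (Subgroup.mem_normalizer_iff.1 hun z).1 A.z_memEg
    refine ⟨z * (u * z * u⁻¹), mul_mem A.z_memEg huz, fun h => hc ?_, ?_⟩
    · have h' : z⁻¹ = u * z * u⁻¹ := inv_eq_of_mul_eq_one_right h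
      rw [inv_eq_of_mul_eq_one_right A.z_sqG] at h'
      calc u * z = u * z * u⁻¹ * u := by group
        _ = z * u := by rw [← h']
    · have hinv : u⁻¹ = u := inv_eq_of_mul_eq_one_right hu2
      calc u * (z * (u * z * u⁻¹)) = u * z * u⁻¹ * (u * u) * z * u⁻¹ := by group
        _ = u * z * u⁻¹ * z * u := by rw [hu2, mul_one, hinv]
        _ = z * (u * z * u⁻¹) * u := by rw [A.Eg_comm huz A.z_memEg]
  obtain ⟨l, hl⟩ := A.Eg_isConj he h1
  have huE : u ∈ A.Eg := by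
    have e1 : u = k⁻¹ * g * l * z * (k⁻¹ * g * l)⁻¹ := by rw [hu, ← hl]; group
    rw [e1] at hfu ⊢
    exact A.mem_Eg hf hf1 hfu
  refine (A.blk_eq_iff.2 (A.mem_normalizer_Eg fun f' hf' => A.conj_Eg he h1 ?_ hf')).symm
  rwa [show k⁻¹ * g * e * (k⁻¹ * g)⁻¹ = u by rw [hu]; group]

include A in
/-- There are more than two classes of involutions in the non-split case. -/
theorem absurd_of_two (htwo : ∀ a b : G, a * a = 1 → a ≠ 1 → ¬ IsConj a z → b * b = 1 → b ≠ 1 → ¬ IsConj b z →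
    IsConj a b) : False := by
  classical
  obtain ⟨y, hy2, hy1, hyz, hyn, hy4, e₀, he₀, he₀1, he₀y⟩ := A.exists_four
  obtain ⟨x, hx2, hx1, hxz, hxc, hx8⟩ := A.exists_eight
  obtain ⟨h, hh⟩ := isConj_iff.1 (htwo x y hx2 hx1 hxz hy2 hy1 hyz)
  -- the blocks moved by the centraliser of `y`
  let O : Finset (Subgroup G) := (Set.toFinite {B : Subgroup G | ∃ k : G, k * y = y * k ∧ B = A.blk k}).toFinset
  have hO : ∀ B, B ∈ O ↔ ∃ k : G, k * y = y * k ∧ B = A.blk k := fun B => by simp [O]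
  have hinv : ∀ w : G, w * y = y * w → ∀ B ∈ O, B.map (MulAut.conj w).toMonoidHom ∈ O := by
    intro w hw B hB
    obtain ⟨k, hk, rfl⟩ := (hO B).1 hB
    exact (hO _).2 ⟨w * k, by rw [mul_assoc, hk, ← mul_assoc, hw, mul_assoc], A.blk_map k w⟩
  have hinvol : ∀ w : G, w * w = 1 → ∀ B ∈ O,
      (B.map (MulAut.conj w).toMonoidHom).map (MulAut.conj w).toMonoidHom = B := by
    intro w hw B hB
    obtain ⟨k, -, rfl⟩ := (hO B).1 hB
    rw [A.blk_map, A.blk_map, ← mul_assoc, hw, one_mul]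
  have heven : ∀ (s : Finset (Subgroup G)) (w : G), s ⊆ O → w * w = 1 → w * y = y * w →
      (∀ B ∈ s, B.map (MulAut.conj w).toMonoidHom ≠ B) →
      (∀ B ∈ s, B.map (MulAut.conj w).toMonoidHom ∈ s) → (s.card : ZMod 2) = 0 := by
    intro s w hs hw _ hne hmem
    rw [show (s.card : ZMod 2) = ∑ _B ∈ s, (1 : ZMod 2) by simp]
    exact Finset.sum_involution (fun B _ => B.map (MulAut.conj w).toMonoidHom) (fun _ _ => by decide)
      (fun B hB _ => hne B hB) hmem (fun B hB => hinvol w hw B (hs hB))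
  have h1O : A.blk 1 ∈ O := (hO _).2 ⟨1, by rw [one_mul, mul_one], rfl⟩
  have hodd : (O.card : ZMod 2) = 1 := by
    have he₀c : e₀ * y = y * e₀ := he₀y.symm
    have hfix1 : (A.blk 1).map (MulAut.conj e₀).toMonoidHom = A.blk 1 := by
      rw [A.blk_map, A.blk_eq_iff, mul_one, inv_one, one_mul]
      exact Subgroup.le_normalizer he₀
    have h0 : ((O.erase (A.blk 1)).card : ZMod 2) = 0 := by
      refine heven _ e₀ (Finset.erase_subset _ _) (A.Eg_sq he₀) he₀c (fun B hB hfix => ?_) fun B hB => ?_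
      · obtain ⟨k, -, rfl⟩ := (hO B).1 (Finset.mem_of_mem_erase hB)
        rw [A.blk_map] at hfix
        refine Finset.ne_of_mem_erase hB (A.fix_blk (g := 1) he₀ he₀1 ?_)
        rwa [one_mul, inv_one, mul_one]
      · refine Finset.mem_erase.2 ⟨fun hc => Finset.ne_of_mem_erase hB ?_, hinv e₀ he₀c B (Finset.mem_of_mem_erase hB)⟩
        rw [← hinvol e₀ (A.Eg_sq he₀) B (Finset.mem_of_mem_erase hB), hc, hfix1]
    rw [← Finset.card_erase_add_one h1O, Nat.cast_add, h0, zero_add, Nat.cast_one]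
  -- the second block lies in the orbit
  obtain ⟨k, hk, hhk⟩ : ∃ k : G, k * y = y * k ∧ A.blk h = A.blk k := by
    by_contra hcon
    have hwc : h * z * h⁻¹ * y = y * (h * z * h⁻¹) := by
      rw [← hh]
      calc h * z * h⁻¹ * (h * x * h⁻¹) = h * (z * x) * h⁻¹ := by group
        _ = h * (x * z) * h⁻¹ := by rw [hxc]
        _ = h * x * h⁻¹ * (h * z * h⁻¹) := by group
    have hw2 : h * z * h⁻¹ * (h * z * h⁻¹) = 1 := by
      rw [show h * z * h⁻¹ * (h * z * h⁻¹) = h * (z * z) * h⁻¹ by group, A.z_sqG]; group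
    have h0 := heven O _ subset_rfl hw2 hwc (fun B hB hfix => hcon ?_) (hinv _ hwc)
    · exact absurd (hodd.symm.trans h0) (by decide)
    · obtain ⟨k, hk, rfl⟩ := (hO B).1 hB
      rw [A.blk_map] at hfix
      exact ⟨k, hk, (A.fix_blk A.z_memEg A.z_neG hfix).symm⟩
  -- the fixed points are transported
  have ha := A.blk_eq_iff.1 hhk
  have hax : k⁻¹ * h * x * (k⁻¹ * h)⁻¹ = y := by
    calc k⁻¹ * h * x * (k⁻¹ * h)⁻¹ = k⁻¹ * (h * x * h⁻¹) * k := by group
      _ = k⁻¹ * (k * y) := by rw [hh, hk]; group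
      _ = y := by group
  have hle := Set.ncard_le_ncard_of_injOn (s := {e : G | e ∈ A.Eg ∧ x * e = e * x})
    (t := {e : G | e ∈ A.Eg ∧ y * e = e * y}) (fun e => k⁻¹ * h * e * (k⁻¹ * h)⁻¹) (fun e he => ?_)
    (fun a _ b _ e => mul_left_cancel (mul_right_cancel e)) (Set.toFinite _)
  · omega
  · refine ⟨(Subgroup.mem_normalizer_iff.1 ha e).1 he.1, ?_⟩
    rw [← hax]
    calc k⁻¹ * h * x * (k⁻¹ * h)⁻¹ * (k⁻¹ * h * e * (k⁻¹ * h)⁻¹) = k⁻¹ * h * (x * e) * (k⁻¹ * h)⁻¹ := by group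
      _ = k⁻¹ * h * (e * x) * (k⁻¹ * h)⁻¹ := by rw [he.2]
      _ = k⁻¹ * h * e * (k⁻¹ * h)⁻¹ * (k⁻¹ * h * x * (k⁻¹ * h)⁻¹) := by group

end AmbNS

end Cfsg.Agent.H85.Held
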