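import Cfsg.Agent.H85.Held.Module

/-!
# The frame of two elementary subgroups
-/

set_option autoImplicit false
set_option linter.unusedSectionVars false

namespace Cfsg.Agent.H85.Held

open Matrix

universe u

/-- Conjugation by a power. -/
def cj {C : Type u} [Group C] (b x : C) (i : ℕ) : C := b ^ i * x * (b ^ i)⁻¹

theorem cj_def {C : Type u} [Group C] (b x : C) (i : ℕ) : cj b x i = b ^ i * x * (b ^ i)⁻¹ := rfl

theorem cj_zero {C : Type u} [Group C] (b x : C) : cj b x 0 = x := by
  rw [cj_def, pow_zero, one_mul, inv_one, mul_one]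

theorem cj_one {C : Type u} [Group C] (b x : C) : cj b x 1 = b * x * b⁻¹ := by
  rw [cj_def, pow_one]

theorem cj_cj {C : Type u} [Group C] (b x : C) (i j : ℕ) : cj b (cj b x i) j = cj b x (j + i) := by
  simp only [cj_def, pow_add]; group

theorem cj_succ {C : Type u} [Group C] (b x : C) (i : ℕ) : b * cj b x i * b⁻¹ = cj b x (i + 1) := by
  rw [← cj_one b (cj b x i), cj_cj, add_comm]

theorem cj_mod {C : Type u} [Group C] {b : C} (hb : b ^ 7 = 1) (x : C) (i : ℕ) :
    cj b x i = cj b x (i % 7) := by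
  rw [cj_def, cj_def, ← pow_eq_pow_mod i hb]

theorem pow_sixteen_cases (k : ℕ) (hk : k ≤ 7) (h16 : 16 ≤ 2 ^ k) (h : 2 ^ k ≡ 2 [MOD 7]) : k = 4 ∨ k = 7 :=
  (by decide : ∀ k : Fin 8, 16 ≤ 2 ^ (k : ℕ) → 2 ^ (k : ℕ) % 7 = 2 % 7 → (k : ℕ) = 4 ∨ (k : ℕ) = 7)
    ⟨k, by omega⟩ h16 h

namespace Sys

variable {C : Type u} [Group C] [Finite C] (D : Sys C)

theorem cj_mem_X (b : C) {x : C} (hx : x ∈ D.X) (i : ℕ) : cj b x i ∈ D.X := D.X_inv _ x hx

theorem cj_mem (b : C) {x : C} (hx : x ∈ D.X) (i : ℕ) : cj b x i ∈ D.Q := D.X_sub _ (D.cj_mem_X b hx i)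

theorem cj_mul_zp (b y : C) (t : ZMod 2) (n : ℕ) : cj b (y * D.zp t) n = cj b y n * D.zp t := by
  rw [cj_def, cj_def, ← mul_assoc, mul_assoc _ (D.zp t), D.zp_comm, ← mul_assoc]

/-- The hypothesis on the element of order seven. -/
def Good (b : C) : Prop :=
  b ^ 7 = 1 ∧ D.φ b = sevenEl ∧ ∀ x ∈ D.Q, b * x * b⁻¹ = x → x = 1 ∨ x = D.z

theorem cj_inj {b : C} (hg : D.Good b) {x : C} (hx : x ∈ D.X) :
    ∀ i j, i < 7 → j < 7 → ∀ e, cj b x i = cj b x j * D.zp e → i = j := by
  obtain ⟨hb, -, hfix⟩ := hg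
  suffices key : ∀ i j, i < j → j < 7 → ∀ e, cj b x j = cj b x i * D.zp e → False by
    intro i j hi hj e h
    rcases lt_trichotomy i j with hlt | heq | hgt
    · exfalso
      refine key i j hlt hj e ?_
      rw [h, mul_assoc, ← D.zp_add, (by decide : ∀ t : ZMod 2, t + t = 0), D.zp_zero, mul_one]
    · exact heq
    · exact (key j i hgt hi e h).elim
  intro i j hij hj e h
  set y := cj b x i with hy
  have hyj : cj b y (j - i) = y * D.zp e := by rw [hy, cj_cj, Nat.sub_add_cancel hij.le, h]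
  have hcop : ∀ d < 7, 0 < d → ∃ m < 7, d * m % 7 = 1 := by decide
  obtain ⟨m, -, hm⟩ := hcop (j - i) (by omega) (by omega)
  have hiter : ∀ n, ∃ e', cj b y ((j - i) * n) = y * D.zp e' := by
    intro n
    induction n with
    | zero => exact ⟨0, by rw [mul_zero, D.zp_zero]; simp [cj_zero]⟩
    | succ n ih =>
      obtain ⟨e', he'⟩ := ih
      refine ⟨e + e', ?_⟩
      rw [mul_add, mul_one, add_comm, ← cj_cj, he']
      show b ^ (j - i) * (y * D.zp e') * (b ^ (j - i))⁻¹ = _
      calc b ^ (j - i) * (y * D.zp e') * (b ^ (j - i))⁻¹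
          = b ^ (j - i) * y * (D.zp e' * (b ^ (j - i))⁻¹) := by group
        _ = cj b y (j - i) * D.zp e' := by rw [D.zp_comm]; simp only [cj_def]; group
        _ = _ := by rw [hyj, mul_assoc, ← D.zp_add]
  obtain ⟨e', he'⟩ := hiter m
  rw [cj_mod hb, hm] at he'
  simp only [cj_def, pow_one] at he'
  have hyX : y ∈ D.X := D.cj_mem_X b hx i
  rcases hfix y (D.X_sub _ hyX) (D.fixed_of_mod hb he') with h1 | h1
  · exact (D.X_ne y hyX).1 h1
  · exact (D.X_ne y hyX).2 h1

open Classical in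
/-- The class of an element. -/
noncomputable def orb (b x : C) : Finset C :=
  (Finset.univ : Finset (Fin 7 × ZMod 2)).image fun p => cj b x p.1 * D.zp p.2

theorem mem_orb {b x y : C} :
    y ∈ D.orb b x ↔ ∃ (i : Fin 7) (e : ZMod 2), cj b x i * D.zp e = y := by
  simp [orb]

theorem orb_sub_X (b : C) {x : C} (hx : x ∈ D.X) : (D.orb b x : Set C) ⊆ D.X := by
  intro y hy
  obtain ⟨i, e, rfl⟩ := D.mem_orb.1 hy
  exact D.X_zp (D.cj_mem_X b hx _) _

theorem orb_card {b : C} (hg : D.Good b) {x : C} (hx : x ∈ D.X) : (D.orb b x).card = 14 := by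
  classical
  rw [orb]
  rw [Finset.card_image_of_injective]
  · rfl
  rintro ⟨i, e⟩ ⟨j, e'⟩ h
  have h' : cj b x i * D.zp e = cj b x j * D.zp e' := h
  have h2 : cj b x i = cj b x j * D.zp (e' + e) := by
    rw [D.zp_add, ← mul_assoc, ← h', mul_assoc, ← D.zp_add, (by decide : ∀ t : ZMod 2, t + t = 0),
      D.zp_zero, mul_one]
  have hij : (i : ℕ) = j := D.cj_inj hg hx i j i.2 j.2 _ h2
  rw [hij] at h'
  have := mul_left_cancel h'
  have he : e + e' = 0 := D.zp_eq_one (by rw [D.zp_add, ← this, ← D.zp_add,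
    (by decide : ∀ t : ZMod 2, t + t = 0), D.zp_zero])
  exact Prod.ext (Fin.ext hij) ((by decide : ∀ s t : ZMod 2, s + t = 0 → s = t) _ _ he)

theorem cj_zp_mem_orb {b : C} (hg : D.Good b) (x : C) (i : ℕ) (e : ZMod 2) :
    cj b x i * D.zp e ∈ D.orb b x :=
  D.mem_orb.2 ⟨⟨i % 7, Nat.mod_lt _ (by norm_num)⟩, e, by rw [← cj_mod hg.1]⟩

theorem orb_self {b : C} (hg : D.Good b) (x : C) : x ∈ D.orb b x := by
  simpa [cj_zero, D.zp_zero] using D.cj_zp_mem_orb hg x 0 0

theorem orb_sub {b : C} (hg : D.Good b) {x y : C} (hy : y ∈ D.orb b x) : D.orb b y ⊆ D.orb b x := by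
  intro w hw
  obtain ⟨i, e, rfl⟩ := D.mem_orb.1 hy
  obtain ⟨j, e', rfl⟩ := D.mem_orb.1 hw
  rw [D.cj_mul_zp, cj_cj, mul_assoc, ← D.zp_add]
  exact D.cj_zp_mem_orb hg _ _ _

theorem orb_eq {b : C} (hg : D.Good b) {x y : C} (hx : x ∈ D.X) (hy : y ∈ D.orb b x) :
    D.orb b y = D.orb b x :=
  Finset.eq_of_subset_of_card_le (D.orb_sub hg hy)
    (by rw [D.orb_card hg hx, D.orb_card hg (D.orb_sub_X b hx hy)])

theorem conj_cj {b a : C} (hφb : D.φ b = sevenEl) (hφa : D.φ a = threeEl) {x : C} (hx : x ∈ D.X) (i : ℕ) :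
    ∃ e, a * cj b x i * a⁻¹ = cj b (a * x * a⁻¹) (2 * i) * D.zp e := by
  have hab := sevenEl_facts.2.2.2
  set q := (b ^ (2 * i))⁻¹ * (a * b ^ i * a⁻¹) with hq
  have hqQ : q ∈ D.Q := by
    rw [← D.ker, MonoidHom.mem_ker, hq, map_mul, map_inv, map_mul, map_mul, map_inv, map_pow, map_pow,
      hφa, hφb, ← conj_pow, hab, ← pow_mul, inv_mul_cancel]
  refine ⟨Cross.pr q (a * x * a⁻¹), ?_⟩
  calc a * cj b x i * a⁻¹ = b ^ (2 * i) * (q * (a * x * a⁻¹) * q⁻¹) * (b ^ (2 * i))⁻¹ := by
        simp only [cj_def, hq]; group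
    _ = b ^ (2 * i) * (a * x * a⁻¹) * (D.zp (Cross.pr q (a * x * a⁻¹)) * (b ^ (2 * i))⁻¹) := by
        rw [D.conj_inner hqQ (D.conj_mem _ (D.X_sub x hx))]; group
    _ = _ := by rw [D.zp_comm]; simp only [cj_def]; group

set_option maxHeartbeats 1000000 in
theorem orb_comm {b a : C} (hg : D.Good b) (hφa : D.φ a = threeEl) {x : C} (hx : x ∈ D.X)
    (hax : a * x * a⁻¹ ∈ D.orb b x) :
    ∀ i j, cj b x i * cj b x j = cj b x j * cj b x i := by
  classical
  obtain ⟨hb, -, hfix⟩ := id hg
  have hxQ := D.X_sub x hx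
  set c : ℕ → ZMod 2 := fun k => Cross.pr x (cj b x k) with hc
  have htr : ∀ i k, Cross.pr (cj b x i) (cj b x (i + k)) = c k := fun i k => by
    rw [← cj_cj b x k i]
    exact D.pr_conj _ hxQ (D.cj_mem b hx k)
  have hsym : ∀ k, k < 7 → c k = c ((7 - k) % 7) := fun k hk => by
    rw [← htr k ((7 - k) % 7), Base.pr_symm, show cj b x (k + (7 - k) % 7) = x from ?_]
    rw [cj_mod hb, show (k + (7 - k) % 7) % 7 = 0 by omega]
    simp [cj_zero]
  have hdbl : ∀ k, c k = c (2 * k % 7) := fun k => by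
    obtain ⟨m, e, hm⟩ := D.mem_orb.1 hax
    obtain ⟨e1, h1⟩ := D.conj_cj hg.2.1 hφa hx k
    have hm' : a * x * a⁻¹ = cj b x m * D.zp e := hm.symm
    rw [hm', D.cj_mul_zp, cj_cj, mul_assoc (cj b x (2 * k + m)), ← D.zp_add] at h1
    calc c k = Cross.pr (a * x * a⁻¹) (a * cj b x k * a⁻¹) := (D.pr_conj a hxQ (D.cj_mem b hx k)).symm
      _ = Cross.pr (cj b x m * D.zp e) (cj b x (2 * k + m) * D.zp (e + e1)) := by rw [hm', h1]
      _ = Cross.pr (cj b x m) (cj b x (2 * k + m)) := by
          rw [D.pr_zp (D.cj_mem b hx _) (mul_mem (D.cj_mem b hx _) (D.zp_mem _)), Base.pr_symm,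
            D.pr_zp (D.cj_mem b hx _) (D.cj_mem b hx _), Base.pr_symm]
      _ = c (2 * k) := by rw [add_comm, htr]
      _ = c (2 * k % 7) := by simp only [hc]; rw [← cj_mod hb]
  have e12 : c 1 = c 2 := hdbl 1
  have e24 : c 2 = c 4 := hdbl 2
  have e43 : c 4 = c 3 := hsym 4 (by norm_num)
  have e25 : c 2 = c 5 := hsym 2 (by norm_num)
  have e16 : c 1 = c 6 := hsym 1 (by norm_num)
  have hc0 : c 0 = 0 := if_pos (by simp [cj_zero])
  have hall : ∀ k, k < 7 → k ≠ 0 → c k = c 1 := by
    intro k hk hk0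
    interval_cases k
    · exact absurd rfl hk0
    · rfl
    · exact e12.symm
    · exact (e12.trans (e24.trans e43)).symm
    · exact (e12.trans e24).symm
    · exact (e12.trans e25).symm
    · exact e16.symm
  have hpair : ∀ i j, i < 7 → j < 7 → i ≠ j → Cross.pr (cj b x i) (cj b x j) = c 1 := by
    intro i j hi hj hij
    have : cj b x j = cj b x (i + (j + 7 - i) % 7) := by
      rw [cj_mod hb x (i + _), show (i + (j + 7 - i) % 7) % 7 = j by omega]
    rw [this, htr, hall _ (Nat.mod_lt _ (by norm_num)) (by omega)]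
  -- the product of the seven members
  have hc1 : c 1 = 0 := (bit_cases _).resolve_right fun h1 => by
    have hPs : ∀ n, D.orbProd b x (n + 1) = D.orbProd b x n * cj b x n := fun n => rfl
    have hPQ : ∀ n, D.orbProd b x n ∈ D.Q := D.orbProd_mem b hxQ
    have hPpr : ∀ n, n ≤ 7 → ∀ j, j < 7 →
        Cross.pr (D.orbProd b x n) (cj b x j) = (n : ZMod 2) - if j < n then 1 else 0 := by
      intro n
      induction n with
      | zero =>
        intro _ j _
        rw [if_neg (by omega), Nat.cast_zero, sub_zero]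
        exact D.pr_unique (by rw [D.zp_zero, mul_one]; rw [Base.orbProd_zero, one_mul, mul_one])
      | succ n ih =>
        intro hn j hj
        rw [hPs, D.pr_left (hPQ n) (D.cj_mem b hx n) (D.cj_mem b hx j), ih (by omega) j hj]
        by_cases hjn : n = j
        · subst hjn
          rw [show Cross.pr (cj b x n) (cj b x n) = 0 from if_pos rfl, if_neg (by omega), if_pos (by omega),
            Nat.cast_succ]
          ring
        · rw [hpair n j (by omega) hj hjn, h1, Nat.cast_succ]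
          by_cases hlt : j < n
          · rw [if_pos hlt, if_pos (by omega)]; ring
          · rw [if_neg hlt, if_neg (by omega)]; ring
    have hsq : ∀ n, n ≤ 7 → D.orbProd b x n * D.orbProd b x n = D.zp ((n * (n - 1) / 2 : ℕ) : ZMod 2) := by
      intro n
      induction n with
      | zero => intro _; simp [Base.orbProd_zero, D.zp_zero]
      | succ n ih =>
        intro hn
        have he := hPpr n (by omega) n (by omega)
        rw [if_neg (by omega), sub_zero] at he
        calc D.orbProd b x (n + 1) * D.orbProd b x (n + 1) = D.orbProd b x n * (cj b x n * D.orbProd b x n) * cj b x n := by rw [hPs]; group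
          _ = D.orbProd b x n * (D.orbProd b x n * cj b x n * D.zp (n : ZMod 2)) * cj b x n := by
              rw [D.pr_eq (D.cj_mem b hx n) (hPQ n), Base.pr_symm, he]
          _ = (D.orbProd b x n * D.orbProd b x n) * cj b x n * (D.zp (n : ZMod 2) * cj b x n) := by group
          _ = (D.orbProd b x n * D.orbProd b x n) * (cj b x n * cj b x n) * D.zp (n : ZMod 2) := by rw [D.zp_comm]; group
          _ = D.zp (((n + 1) * (n + 1 - 1) / 2 : ℕ) : ZMod 2) := by
              rw [D.X_sq _ (D.cj_mem_X b hx n), mul_one, ih (by omega), ← D.zp_add, ← Nat.cast_add]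
              congr 2
              have : n < 7 := by omega
              interval_cases n <;> rfl
    have hP7 : D.orbProd b x 7 = 1 ∨ D.orbProd b x 7 = D.z :=
      hfix _ (hPQ 7) (D.orbProd_fixed hb hxQ)
    have h7 := hsq 7 le_rfl
    rw [show ((7 * (7 - 1) / 2 : ℕ) : ZMod 2) = 1 by decide, D.zp_one] at h7
    rcases hP7 with e | e <;> rw [e] at h7
    · rw [one_mul] at h7; exact D.z_ne h7.symm
    · rw [D.z_sq] at h7; exact D.z_ne h7.symm
  intro i j
  rw [cj_mod hb x i, cj_mod hb x j]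
  by_cases hij : i % 7 = j % 7
  · rw [hij]
  · have h := D.pr_eq (D.cj_mem b hx (i % 7)) (D.cj_mem b hx (j % 7))
    rwa [hpair _ _ (Nat.mod_lt _ (by norm_num)) (Nat.mod_lt _ (by norm_num)) hij, hc1, D.zp_zero,
      mul_one] at h

set_option maxHeartbeats 1000000 in
theorem orb_group {b a : C} (hg : D.Good b) (hφa : D.φ a = threeEl) {x : C} (hx : x ∈ D.X)
    (hax : a * x * a⁻¹ ∈ D.orb b x) :
    ∃ E : Subgroup C, E ≤ D.Q ∧ Nat.card E = 16 ∧ D.z ∈ E ∧ (∀ y ∈ E, y * y = 1) ∧
      ∀ y, y ∈ E ↔ y = 1 ∨ y = D.z ∨ y ∈ D.orb b x := by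
  classical
  obtain ⟨hb, hφb, hfix⟩ := id hg
  set S : Set C := insert D.z (D.orb b x : Set C) with hS
  have hcommS : ∀ u ∈ S, ∀ v ∈ S, u * v = v * u := by
    intro u hu v hv
    rcases hu with rfl | hu
    · exact D.z_comm v
    rcases hv with rfl | hv
    · exact (D.z_comm u).symm
    obtain ⟨i, e, rfl⟩ := D.mem_orb.1 hu
    obtain ⟨j, e', rfl⟩ := D.mem_orb.1 hv
    show cj b x i * D.zp e * (cj b x j * D.zp e') = cj b x j * D.zp e' * (cj b x i * D.zp e)
    have c1 : Commute (cj b x i) (cj b x j) := D.orb_comm hg hφa hx hax i j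
    exact (((c1.mul_right (D.zp_comm e' (cj b x i)).symm).mul_left
      ((show Commute (D.zp e) (cj b x j) from D.zp_comm e _).mul_right (D.zp_comm e _)))).eq
  set E := Subgroup.closure S with hE
  have hSQ : S ⊆ D.Q := by
    rintro u (rfl | hu)
    · exact D.z_mem
    · exact D.X_sub _ (D.orb_sub_X b hx hu)
  have hEQ : E ≤ D.Q := (Subgroup.closure_le _).2 hSQ
  have hEc : ∀ u ∈ E, ∀ v ∈ E, u * v = v * u := by
    intro u hu v hv
    have h1 : ∀ v ∈ S, u * v = v * u := fun v hv => by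
      refine Subgroup.closure_induction (p := fun w _ => w * v = v * w) (fun w hw => hcommS w hw v hv)
        (by rw [one_mul, mul_one]) (fun w1 w2 _ _ e1 e2 => (show Commute (w1 * w2) v from
          (show Commute w1 v from e1).mul_left e2).eq)
        (fun w _ e => (show Commute w v from e).inv_left.eq) hu
    refine Subgroup.closure_induction (p := fun w _ => u * w = w * u) h1
      (by rw [one_mul, mul_one]) (fun w1 w2 _ _ e1 e2 => (show Commute u (w1 * w2) from
        (show Commute u w1 from e1).mul_right e2).eq)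
      (fun w _ e => (show Commute u w from e).inv_right.eq) hv
  have hEsq : ∀ y ∈ E, y * y = 1 := by
    intro y hy
    refine Subgroup.closure_induction (p := fun w _ => w * w = 1) ?_ (one_mul 1) ?_ ?_ hy
    · rintro w (rfl | hw)
      · exact D.z_sq
      · exact D.X_sq _ (D.orb_sub_X b hx hw)
    · intro w1 w2 m1 m2 e1 e2
      rw [(show Commute w2 w1 from hEc w2 m2 w1 m1).mul_mul_mul_comm, e1, e2, one_mul]
    · intro w _ e
      rw [← _root_.mul_inv_rev, e, inv_one]
  set B : Finset C := insert 1 (insert D.z (D.orb b x)) with hB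
  have hBcard : B.card = 16 := by
    have hz : D.z ∉ D.orb b x := fun h => (D.X_ne _ (D.orb_sub_X b hx h)).2 rfl
    have h1 : (1 : C) ∉ insert D.z (D.orb b x) := by
      rw [Finset.mem_insert, not_or]
      exact ⟨Ne.symm D.z_ne, fun h => (D.X_ne _ (D.orb_sub_X b hx h)).1 rfl⟩
    rw [hB, Finset.card_insert_of_notMem h1, Finset.card_insert_of_notMem hz, D.orb_card hg hx]
  have hBE : (B : Set C) ⊆ (E : Set C) := by
    intro y hy
    simp only [hB, Finset.coe_insert, Set.mem_insert_iff] at hy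
    rcases hy with rfl | rfl | hy
    · exact one_mem E
    · exact Subgroup.subset_closure (Set.mem_insert _ _)
    · exact Subgroup.subset_closure (Set.mem_insert_of_mem _ hy)
  have h16 : 16 ≤ Nat.card E := by
    have := Set.ncard_le_ncard hBE (Set.toFinite _)
    rwa [Set.ncard_coe_finset, hBcard, ← Nat.card_coe_set_eq] at this
  have hbE : ∀ y ∈ E, b * y * b⁻¹ ∈ E := by
    intro y hy
    have : E.map (MulAut.conj b).toMonoidHom ≤ E := by
      rw [hE, MonoidHom.map_closure]
      refine Subgroup.closure_mono ?_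
      rintro _ ⟨w, hw, rfl⟩
      show b * w * b⁻¹ ∈ S
      rcases hw with rfl | hw
      · exact Or.inl (by rw [← D.z_comm, mul_inv_cancel_right])
      · refine Or.inr ?_
        obtain ⟨i, e, rfl⟩ := D.mem_orb.1 hw
        rw [← cj_one b (cj b x i * D.zp e), D.cj_mul_zp, cj_cj, Finset.mem_coe]
        exact D.cj_zp_mem_orb hg _ _ _
    exact this ⟨y, hy, rfl⟩
  have hmod7 : Nat.card E ≡ 2 [MOD 7] := by
    have : Fact (Nat.Prime 7) := ⟨by norm_num⟩
    have hob : orderOf b = 7 := orderOf_eq_prime hb fun e => sevenEl_facts.2.1 (by rw [← hφb, e, map_one])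
    have hN : Subgroup.zpowers b ≤ Subgroup.normalizer (E : Set C) :=
      Subgroup.zpowers_le.2 (Pair.mem_normalizer_iff_range.2 hbE)
    let act : Subgroup.zpowers b →* Equiv.Perm E :=
      { toFun := fun g => ⟨fun q => ⟨(g : C) * q * (g : C)⁻¹,
            (Pair.mem_normalizer_iff_range.1 (hN g.2)) _ q.2⟩,
          fun q => ⟨(g : C)⁻¹ * q * ((g : C)⁻¹)⁻¹,
            (Pair.mem_normalizer_iff_range.1 (hN (inv_mem g.2))) _ q.2⟩,
          fun q => Subtype.ext (by simp [mul_assoc]), fun q => Subtype.ext (by simp [mul_assoc])⟩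
        map_one' := Equiv.ext fun q => Subtype.ext (by simp)
        map_mul' := fun g g' => Equiv.ext fun q => Subtype.ext (by simp [mul_assoc]) }
    let _ : MulAction (Subgroup.zpowers b) E := MulAction.compHom _ act
    have hP : IsPGroup 7 (Subgroup.zpowers b) :=
      IsPGroup.of_card (n := 1) (by rw [Nat.card_zpowers, hob, pow_one])
    refine (hP.card_modEq_card_fixedPoints E).trans (?_ : Nat.card (MulAction.fixedPoints (Subgroup.zpowers b) E) ≡ 2 [MOD 7])
    have hzE : D.z ∈ E := hBE (by simp [hB])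
    have hfp : MulAction.fixedPoints (Subgroup.zpowers b) E = {1, ⟨D.z, hzE⟩} := by
      ext q
      constructor
      · intro hq
        have h := congrArg Subtype.val (hq ⟨b, Subgroup.mem_zpowers b⟩)
        exact (hfix _ (hEQ q.2) h).imp (fun e => Subtype.ext e) (fun e => Subtype.ext e)
      · intro hq g
        apply Subtype.ext
        show (g : C) * q * (g : C)⁻¹ = q
        rcases hq with rfl | rfl
        · simp
        · rw [← D.z_comm, mul_inv_cancel_right]
    rw [Nat.card_coe_set_eq, hfp, Set.ncard_pair fun e => D.z_ne (congrArg Subtype.val e).symm]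
  have hEne : E ≠ D.Q := fun e => by
    rcases D.center x (D.X_sub x hx) (fun y hy => hEc x (hBE (by simp [hB, D.orb_self hg])) y (e.ge hy)) with h | h
    · exact (D.X_ne x hx).1 h
    · exact (D.X_ne x hx).2 h
  have hc16 : Nat.card E = 16 := by
    obtain ⟨k, hk, hkE⟩ := (Nat.dvd_prime_pow Nat.prime_two).1
      (show Nat.card E ∣ 2 ^ 7 by have := Subgroup.card_dvd_of_le hEQ; rwa [D.card] at this)
    have hk7 : k ≠ 7 := fun e => hEne (Subgroup.eq_of_le_of_card_ge hEQ (by rw [hkE, e, D.card]; norm_num))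
    rw [hkE] at h16 hmod7 ⊢
    rw [(pow_sixteen_cases k hk h16 hmod7).resolve_right hk7]
    norm_num
  refine ⟨E, hEQ, hc16, hBE (by simp [hB]), hEsq, fun y => ?_⟩
  have heq := Set.eq_of_subset_of_ncard_le hBE (by
    rw [Set.ncard_coe_finset, hBcard, ← Nat.card_coe_set_eq]; exact hc16.le) (Set.toFinite _)
  rw [← SetLike.mem_coe, ← heq]
  simp [hB]

end Sys

namespace Raw

variable {C : Type u} [Group C] [Finite C] (D : Raw C)

set_option maxHeartbeats 1000000 in
theorem two_orbits {b : C} (hg : D.Good b) : ∃ x0 ∈ D.X, ∃ y0 ∈ D.X, y0 ∉ D.orb b x0 ∧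
    (∀ y ∈ D.orb b y0, y ∉ D.orb b x0) ∧ ∀ y ∈ D.X, y ∈ D.orb b x0 ∨ y ∈ D.orb b y0 := by
  classical
  have horbX : ∀ x ∈ D.X, (D.orb b x : Set C) ⊆ D.X := fun x hx => D.orb_sub_X b hx
  have horbcard : ∀ x ∈ D.X, (D.orb b x).card = 14 := fun x hx => D.orb_card hg hx
  obtain ⟨x0, hx0⟩ : D.X.Nonempty := Set.nonempty_of_ncard_ne_zero (by rw [D.X_card]; norm_num)
  obtain ⟨y0, hy0, hy0n⟩ : ∃ y ∈ D.X, y ∉ D.orb b x0 := by
    by_contra h
    simp only [not_exists, not_and, not_not] at h
    have := Set.ncard_le_ncard (show D.X ⊆ (D.orb b x0 : Set C) from h) (Finset.finite_toSet _)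
    rw [D.X_card, Set.ncard_coe_finset, horbcard x0 hx0] at this
    omega
  have hdisj : ∀ y ∈ D.orb b y0, y ∉ D.orb b x0 := fun y hy hy' => by
    have h1 := D.orb_sub hg hy'
    have h2 : D.orb b y = D.orb b y0 := Finset.eq_of_subset_of_card_le (D.orb_sub hg hy)
      (by rw [horbcard y0 hy0, horbcard y (horbX x0 hx0 hy')])
    rw [h2] at h1
    exact hy0n (h1 (D.orb_self hg y0))
  have hXeq : ∀ y ∈ D.X, y ∈ D.orb b x0 ∨ y ∈ D.orb b y0 := by
    have hsub : ((D.orb b x0 ∪ D.orb b y0 : Finset C) : Set C) ⊆ D.X := by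
      rw [Finset.coe_union]
      exact Set.union_subset (horbX x0 hx0) (horbX y0 hy0)
    have := Set.eq_of_subset_of_ncard_le hsub (by
      rw [D.X_card, Set.ncard_coe_finset, Finset.card_union_of_disjoint
        (Finset.disjoint_right.2 hdisj), horbcard x0 hx0, horbcard y0 hy0]) (Set.toFinite _)
    intro y hy
    rw [← this, Finset.mem_coe, Finset.mem_union] at hy
    exact hy
  exact ⟨x0, hx0, y0, hy0, hy0n, hdisj, hXeq⟩

theorem conj_mem_orb {b a : C} (hg : D.Good b) (hφa : D.φ a = threeEl) {x : C} (hx : x ∈ D.X) :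
    a * x * a⁻¹ ∈ D.orb b x := by
  classical
  obtain ⟨x0, hx0, y0, hy0, -, -, hXeq⟩ := D.two_orbits hg
  have ha3 := sevenEl_facts.2.2.1
  have hconj := fun x (hx : x ∈ D.X) => D.conj_cj hg.2.1 hφa hx
  revert x
  have himg : ∀ x ∈ D.X, ∀ y ∈ D.orb b x, a * y * a⁻¹ ∈ D.orb b (a * x * a⁻¹) := by
    intro x hx y hy
    obtain ⟨i, e, rfl⟩ := D.mem_orb.1 hy
    obtain ⟨e', he'⟩ := hconj x hx i
    have : a * (cj b x i * D.zp e) * a⁻¹ = cj b (a * x * a⁻¹) (2 * i) * D.zp (e' + e) := by
      calc a * (cj b x i * D.zp e) * a⁻¹ = a * cj b x i * (D.zp e * a⁻¹) := by group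
        _ = a * cj b x i * a⁻¹ * D.zp e := by rw [D.zp_comm]; group
        _ = _ := by rw [he', mul_assoc, ← D.zp_add]
    show a * (cj b x i * D.zp e) * a⁻¹ ∈ D.orb b (a * x * a⁻¹)
    rw [this]
    exact D.cj_zp_mem_orb hg _ _ _
  intro x hx
  by_contra hne
  set f : C → C := fun y => a * y * a⁻¹ with hf
  have hfX : ∀ y ∈ D.X, f y ∈ D.X := fun y hy => D.X_inv a y hy
  -- orbits are a partition of `X` into two classes
  have hsame : ∀ u ∈ D.X, ∀ v ∈ D.X, ∀ w ∈ D.X, v ∉ D.orb b u → w ∉ D.orb b u → w ∈ D.orb b v := by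
    have hcl : ∀ u ∈ D.X, D.orb b u = D.orb b x0 ∨ D.orb b u = D.orb b y0 := fun u hu => by
      rcases hXeq u hu with h | h
      · exact Or.inl (Finset.eq_of_subset_of_card_le (D.orb_sub hg h)
          (by rw [D.orb_card hg hx0, D.orb_card hg hu]))
      · exact Or.inr (Finset.eq_of_subset_of_card_le (D.orb_sub hg h)
          (by rw [D.orb_card hg hy0, D.orb_card hg hu]))
    intro u hu v hv w hw h1 h2
    rcases hcl u hu with e1 | e1 <;> rcases hcl v hv with e2 | e2 <;>
      rcases hcl w hw with e3 | e3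
    all_goals first
      | (rw [e2, ← e3]; exact (D.orb_self hg) w)
      | exact absurd (by rw [e1, ← e2]; exact (D.orb_self hg) v) h1
      | exact absurd (by rw [e1, ← e3]; exact (D.orb_self hg) w) h2
  have h2 : f (f x) ∈ D.orb b x := by
    have h1 : f (f x) ∉ D.orb b (f x) := by
      intro h
      -- pull back: `f` maps the orbit of `x` onto that of `f x`
      have hinj : Function.Injective f := fun u v e => mul_left_cancel (mul_right_cancel e)
      have honto : (D.orb b x).image f = D.orb b (f x) := Finset.eq_of_subset_of_card_le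
        (by intro u hu; obtain ⟨v, hv, rfl⟩ := Finset.mem_image.1 hu; exact himg x hx v hv)
        (by rw [Finset.card_image_of_injective _ hinj, D.orb_card hg hx, D.orb_card hg (hfX x hx)])
      rw [← honto, Finset.mem_image] at h
      obtain ⟨v, hv, hv'⟩ := h
      rw [hinj hv'] at hv
      exact hne hv
    by_contra h
    exact h1 (hsame x hx (f x) (hfX x hx) (f (f x)) (hfX _ (hfX x hx)) hne h)
  have ha3Q : a ^ 3 ∈ D.Q := by rw [← D.ker, MonoidHom.mem_ker, map_pow, hφa, ha3]
  have h3 : f (f (f x)) ∈ D.orb b x := by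
    have e : f (f (f x)) = x * D.zp (Cross.pr (a ^ 3) x) := by
      rw [← D.conj_inner ha3Q (D.X_sub x hx)]
      simp only [hf, pow_succ, pow_zero, one_mul, _root_.mul_inv_rev, mul_assoc]
    rw [e]
    simpa [cj_zero] using D.cj_zp_mem_orb hg x 0 (Cross.pr (a ^ 3) x)
  have h3' : f (f (f x)) ∈ D.orb b (f x) := himg x hx _ h2
  have hall : D.orb b (f x) = D.orb b x :=
    (Finset.eq_of_subset_of_card_le (D.orb_sub hg h3') (by
        rw [D.orb_card hg (hfX x hx), D.orb_card hg (hfX _ (hfX _ (hfX x hx)))])).symm.trans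
      (Finset.eq_of_subset_of_card_le (D.orb_sub hg h3) (by
        rw [D.orb_card hg hx, D.orb_card hg (hfX _ (hfX _ (hfX x hx)))]))
  exact hne (hall ▸ (D.orb_self hg) (f x))

set_option maxHeartbeats 1000000 in
theorem exists_frame : ∃ F : Frame C, F.z = D.z ∧ (∀ x ∈ F.E₁, x ≠ 1 → x ≠ D.z → x ∈ D.X) := by
  classical
  obtain ⟨b, a, hb, hφb, hφa⟩ := D.exists_seven
  have hg : D.Good b := ⟨hb, hφb, D.seven_fixed hb (by rw [hφb]; exact sevenEl_facts.2.1)⟩
  obtain ⟨x0, hx0, y0, hy0, hy0n, hdisj, hXeq⟩ := D.two_orbits hg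
  have horbX : ∀ x ∈ D.X, (D.orb b x : Set C) ⊆ D.X := fun x hx => D.orb_sub_X b hx
  have horb_self := D.orb_self hg
  obtain ⟨E1, hE1Q, hE1c, hzE1, hE1sq, hE1⟩ := D.orb_group hg hφa hx0 (D.conj_mem_orb hg hφa hx0)
  obtain ⟨E2, hE2Q, hE2c, hzE2, hE2sq, hE2⟩ := D.orb_group hg hφa hy0 (D.conj_mem_orb hg hφa hy0)
  have hinter : ∀ y ∈ E1, y ∈ E2 → y = 1 ∨ y = D.z := fun y h1 h2 => by
    rcases (hE1 y).1 h1 with h | h | h
    · exact Or.inl h
    · exact Or.inr h
    rcases (hE2 y).1 h2 with h' | h' | h'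
    · exact Or.inl h'
    · exact Or.inr h'
    · exact absurd h (hdisj y h')
  -- each conjugate of one of them is one of them
  have hswap : ∀ (c : C) (E : Subgroup C), (E = E1 ∨ E = E2) →
      E.map (MulAut.conj c).toMonoidHom = E1 ∨ E.map (MulAut.conj c).toMonoidHom = E2 := by
    intro c E hE
    have hsub : ∀ y ∈ E.map (MulAut.conj c).toMonoidHom, y ∈ E1 ∨ y ∈ E2 := by
      rintro _ ⟨w, hw, rfl⟩
      have hw' : w = 1 ∨ w = D.z ∨ w ∈ D.X := by
        rcases hE with rfl | rfl
        · exact ((hE1 w).1 hw).imp_right (Or.imp_right fun h => horbX x0 hx0 h)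
        · exact ((hE2 w).1 hw).imp_right (Or.imp_right fun h => horbX y0 hy0 h)
      show c * w * c⁻¹ ∈ E1 ∨ _
      rcases hw' with rfl | rfl | hX
      · exact Or.inl (by rw [mul_one, mul_inv_cancel]; exact one_mem E1)
      · exact Or.inl (by rw [← D.z_comm, mul_inv_cancel_right]; exact hzE1)
      · exact (hXeq _ (D.X_inv c w hX)).imp (fun h => (hE1 _).2 (Or.inr (Or.inr h)))
          (fun h => (hE2 _).2 (Or.inr (Or.inr h)))
    have hcard : Nat.card (E.map (MulAut.conj c).toMonoidHom) = 16 := by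
      rw [Subgroup.card_map_of_injective (MulEquiv.injective _)]
      rcases hE with rfl | rfl <;> assumption
    by_cases h1 : E.map (MulAut.conj c).toMonoidHom ≤ E1
    · exact Or.inl (Subgroup.eq_of_le_of_card_ge h1 (by rw [hE1c, hcard]))
    obtain ⟨u, hu, hu1⟩ := SetLike.not_le_iff_exists.1 h1
    refine Or.inr (Subgroup.eq_of_le_of_card_ge (fun v hv => ?_) (by rw [hE2c, hcard]))
    rcases hsub v hv with hv1 | hv2
    · rcases hsub (u * v) (mul_mem hu hv) with huv | huv
      · exact absurd (by simpa using mul_mem huv (inv_mem hv1)) hu1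
      · have hu2 : u ∈ E2 := (hsub u hu).resolve_left hu1
        simpa using mul_mem (inv_mem hu2) huv
    · exact hv2
  have hE12 : E1 ≠ E2 := fun e =>
    absurd ((hE1 y0).1 (e ▸ (hE2 y0).2 (Or.inr (Or.inr ((D.orb_self hg) y0))))) (by
      rintro (h | h | h)
      · exact (D.X_ne y0 hy0).1 h
      · exact (D.X_ne y0 hy0).2 h
      · exact hy0n h)
  let act : C → ZMod 2 := fun c => if E1.map (MulAut.conj c).toMonoidHom = E1 then 0 else 1
  have hmapmap : ∀ (c d : C) (E : Subgroup C), E.map (MulAut.conj (c * d)).toMonoidHom =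
      (E.map (MulAut.conj d).toMonoidHom).map (MulAut.conj c).toMonoidHom := fun c d E => by
    rw [Subgroup.map_map]
    congr 1
    ext w
    simp [mul_assoc]
  have hE2img : ∀ c, E1.map (MulAut.conj c).toMonoidHom = E2 → E2.map (MulAut.conj c).toMonoidHom = E1 := by
    intro c h
    rcases hswap c E2 (Or.inr rfl) with e | e
    · exact e
    · exact absurd (Subgroup.map_injective (MulEquiv.injective _) (h.trans e.symm)) hE12
  have hE2fix : ∀ c, E1.map (MulAut.conj c).toMonoidHom = E1 → E2.map (MulAut.conj c).toMonoidHom = E2 := by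
    intro c h
    rcases hswap c E2 (Or.inr rfl) with e | e
    · exact absurd (Subgroup.map_injective (MulEquiv.injective _) (h.trans e.symm)) hE12
    · exact e
  have hactmul : ∀ c d, act (c * d) = act c + act d := by
    intro c d
    simp only [act]
    rw [hmapmap]
    rcases hswap d E1 (Or.inl rfl) with hd | hd <;> rcases hswap c E1 (Or.inl rfl) with hc | hc
    · rw [hd, if_pos hc, if_pos rfl, add_zero]
    · rw [hd, hc, if_neg (Ne.symm hE12), if_pos rfl, add_zero]
    · rw [hd, hE2fix c hc, if_neg (Ne.symm hE12), if_pos hc, zero_add]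
    · rw [hd, hE2img c hc, hc, if_pos rfl, if_neg (Ne.symm hE12), (by decide : ∀ t : ZMod 2, t + t = 0)]
  let χ : C →* Multiplicative (ZMod 2) :=
    MonoidHom.mk' (fun c => Multiplicative.ofAdd (act c)) fun c d => by rw [hactmul]; rfl
  have hχQ : D.φ.ker ≤ χ.ker := by
    intro q hq
    rw [D.ker] at hq
    rw [MonoidHom.mem_ker]
    show Multiplicative.ofAdd (act q) = 1
    have hfixQ : E1.map (MulAut.conj q).toMonoidHom = E1 := by
      refine Subgroup.eq_of_le_of_card_ge ?_ (Subgroup.card_map_of_injective (MulEquiv.injective _)).ge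
      rintro _ ⟨w, hw, rfl⟩
      show q * w * q⁻¹ ∈ E1
      rw [D.conj_inner hq (hE1Q hw)]
      exact mul_mem hw (pw_mem _ hzE1 _)
    rw [show act q = 0 from if_pos hfixQ]
    rfl
  let χ' : L3 →* Multiplicative (ZMod 2) :=
    D.φ.liftOfRightInverse (Function.surjInv D.surj) (Function.rightInverse_surjInv D.surj) ⟨χ, hχQ⟩
  have hχ1 : ∀ c, χ c = 1 := fun c => by
    have h : χ' (D.φ c) = χ c :=
      D.φ.liftOfRightInverse_comp_apply _ (Function.rightInverse_surjInv D.surj) ⟨χ, hχQ⟩ c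
    rw [← h]
    have hle : commutator L3 ≤ χ'.ker := Abelianization.commutator_subset_ker χ'
    rw [commutator_l3] at hle
    exact MonoidHom.mem_ker.1 (hle (Subgroup.mem_top _))
  have hn1 : ∀ c, E1.map (MulAut.conj c).toMonoidHom = E1 := fun c => by
    by_contra h
    have := congrArg Multiplicative.toAdd (hχ1 c)
    exact absurd (this.symm.trans (if_neg h)) (by decide)
  have hnormal1 : E1.Normal := ⟨fun w hw c => (hn1 c).le ⟨w, hw, rfl⟩⟩
  have hnormal2 : E2.Normal := ⟨fun w hw c => (hE2fix c (hn1 c)).le ⟨w, hw, rfl⟩⟩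
  refine ⟨{ z := D.z
            Q := D.Q
            φ := D.φ
            E₁ := E1
            E₂ := E2
            z_sq := D.z_sq
            z_ne := D.z_ne
            z_comm := D.z_comm
            z_mem₁ := hzE1
            z_mem₂ := hzE2
            ker := D.ker
            surj := D.surj
            card := D.card
            comm := D.comm
            center := D.center
            cent := D.cent
            normal₁ := hnormal1
            normal₂ := hnormal2
            le₁ := hE1Q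
            le₂ := hE2Q
            card₁ := hE1c
            card₂ := hE2c
            sq₁ := hE1sq
            sq₂ := hE2sq
            inter := hinter }, rfl, fun y hy h1 hz => ?_⟩
  rcases (hE1 y).1 hy with h | h | h
  · exact absurd h h1
  · exact absurd h hz
  · exact horbX x0 hx0 h

end Raw

end Cfsg.Agent.H85.Held
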