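import Mathlib

/-!
# Coordinates on the centraliser of a transvection in `SL(5, 2)`

A group with elements `W r`, `V v`, `Z c`, `K A` (two three-dimensional vectors, a bit and an element
of `SL(3, 2)`) subject to the relations of the centraliser of a transvection of `SL(5, 2)`, every
element having exactly one expression `W r * V v * Z c * K A`, is isomorphic to that centraliser.
-/

set_option autoImplicit false

namespace Cfsg.Agent.H85.Held

open Matrix

/-- Row or column vectors of length three over the field with two elements. -/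
abbrev F3 : Type := Fin 3 → ZMod 2

/-- The special linear group of dimension three over the field with two elements. -/
scoped notation "L3" => Matrix.SpecialLinearGroup (Fin 3) (ZMod 2)

universe u v

/-- The tuples of coordinates. -/
abbrev Tup : Type := F3 × F3 × ZMod 2 × L3

/-- The coordinates of a product. -/
def tmul (p q : Tup) : Tup :=
  (p.1 + vecMul q.1 ((p.2.2.2⁻¹ : L3) : Matrix (Fin 3) (Fin 3) (ZMod 2)),
    p.2.1 + (p.2.2.2 : Matrix (Fin 3) (Fin 3) (ZMod 2)) *ᵥ q.2.1,
    p.2.2.1 + q.2.2.1 + vecMul q.1 ((p.2.2.2⁻¹ : L3) : Matrix (Fin 3) (Fin 3) (ZMod 2)) ⬝ᵥ p.2.1,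
    p.2.2.2 * q.2.2.2)

/-- Elements subject to the relations of the centraliser of a transvection. -/
structure Rels (C : Type u) [Group C] where
  W : F3 → C
  V : F3 → C
  Z : ZMod 2 → C
  K : L3 →* C
  W_add : ∀ r s, W (r + s) = W r * W s
  V_add : ∀ r s, V (r + s) = V r * V s
  Z_add : ∀ a b, Z (a + b) = Z a * Z b
  Z_comm : ∀ c x, Z c * x = x * Z c
  WV : ∀ r v, W r * V v = V v * W r * Z (r ⬝ᵥ v)
  KW : ∀ (A : L3) r, K A * W (vecMul r (A : Matrix (Fin 3) (Fin 3) (ZMod 2))) = W r * K A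
  KV : ∀ (A : L3) v, K A * V v = V ((A : Matrix (Fin 3) (Fin 3) (ZMod 2)) *ᵥ v) * K A

namespace Rels

variable {C : Type u} [Group C] (R : Rels C)

/-- The element with given coordinates. -/
def T (p : Tup) : C := R.W p.1 * R.V p.2.1 * R.Z p.2.2.1 * R.K p.2.2.2

theorem Z_self (c : ZMod 2) : R.Z c * R.Z c = R.Z 0 := by
  rw [← R.Z_add, ← two_mul, show (2 : ZMod 2) = 0 from rfl, zero_mul]

theorem Z_zero : R.Z 0 = 1 := by
  have h := R.Z_add 0 0
  rw [add_zero] at h
  exact mul_eq_left.1 h.symm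

omit R in
theorem regroup (a b e f g h za zb zd : C) (ca : ∀ x, za * x = x * za) (cb : ∀ x, zb * x = x * zb)
    (cd : ∀ x, zd * x = x * zd) (hbe : b * e = e * b * zd) :
    a * b * za * (e * f * g) * zb * h = a * e * (b * f) * (za * zb * zd) * (g * h) := by
  have cab : ∀ x, za * zb * x = x * (za * zb) := fun x => by
    rw [mul_assoc, cb x, ← mul_assoc, ca x, mul_assoc]
  have cabd : ∀ x, za * zb * zd * x = x * (za * zb * zd) := fun x => by
    rw [mul_assoc, cd x, ← mul_assoc, cab x, mul_assoc]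
  calc a * b * za * (e * f * g) * zb * h = a * b * (za * (e * f * g)) * zb * h := by
        simp only [mul_assoc]
    _ = a * b * ((e * f * g) * za) * zb * h := by rw [ca]
    _ = a * b * (e * f * g) * ((za * zb) * h) := by simp only [mul_assoc]
    _ = a * b * (e * f * g) * (h * (za * zb)) := by rw [cab]
    _ = a * (b * e) * (f * g * h) * (za * zb) := by simp only [mul_assoc]
    _ = a * (e * b) * (zd * (f * g * h)) * (za * zb) := by rw [hbe]; simp only [mul_assoc]
    _ = a * (e * b) * ((f * g * h) * zd) * (za * zb) := by rw [cd]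
    _ = a * e * (b * f) * (g * h * (zd * (za * zb))) := by simp only [mul_assoc]
    _ = a * e * (b * f) * (g * h * (za * zb * zd)) := by rw [cd (za * zb)]
    _ = a * e * (b * f) * (za * zb * zd * (g * h)) := by rw [cabd]
    _ = _ := by simp only [mul_assoc]

theorem T_mul (p q : Tup) : R.T (tmul p q) = R.T p * R.T q := by
  obtain ⟨r, v, c, A⟩ := p
  obtain ⟨r', v', c', A'⟩ := q
  set r'' : F3 := vecMul r' ((A⁻¹ : L3) : Matrix (Fin 3) (Fin 3) (ZMod 2)) with hr
  set v'' : F3 := (A : Matrix (Fin 3) (Fin 3) (ZMod 2)) *ᵥ v' with hv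
  have hr' : vecMul r'' (A : Matrix (Fin 3) (Fin 3) (ZMod 2)) = r' := by
    have h : ((A⁻¹ * A : L3) : Matrix (Fin 3) (Fin 3) (ZMod 2)) = 1 := by rw [inv_mul_cancel]; rfl
    rw [hr, vecMul_vecMul]
    exact (congrArg (vecMul r') h).trans (vecMul_one r')
  have hVW : R.V v * R.W r'' = R.W r'' * R.V v * R.Z (r'' ⬝ᵥ v) := by
    rw [R.WV, mul_assoc (R.V v * R.W r''), R.Z_self, R.Z_zero, mul_one]
  have h1 : R.K A * (R.W r' * R.V v') = R.W r'' * R.V v'' * R.K A := by
    rw [← mul_assoc, ← hr', R.KW, mul_assoc, R.KV, ← mul_assoc]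
  calc R.T (tmul (r, v, c, A) (r', v', c', A'))
      = R.W r * R.W r'' * (R.V v * R.V v'') * (R.Z c * R.Z c' * R.Z (r'' ⬝ᵥ v)) *
          (R.K A * R.K A') := by
        simp only [T, tmul, R.W_add, R.V_add, R.Z_add, map_mul, hr, hv]
    _ = R.W r * R.V v * R.Z c * (R.W r'' * R.V v'' * R.K A) * R.Z c' * R.K A' :=
        (regroup _ _ _ _ _ _ _ _ _ (R.Z_comm c) (R.Z_comm c') (R.Z_comm _) hVW).symm
    _ = R.W r * R.V v * R.Z c * (R.K A * (R.W r' * R.V v')) * R.Z c' * R.K A' := by rw [h1]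
    _ = R.T (r, v, c, A) * R.T (r', v', c', A') := by simp only [T, mul_assoc]

/-- Two systems of coordinates give an isomorphism. -/
noncomputable def equiv {D : Type v} [Group D] (S : Rels D) (hR : Function.Bijective R.T)
    (hS : Function.Bijective S.T) : C ≃* D where
  toEquiv := (Equiv.ofBijective R.T hR).symm.trans (Equiv.ofBijective S.T hS)
  map_mul' x y := by
    show S.T ((Equiv.ofBijective R.T hR).symm (x * y)) =
      S.T ((Equiv.ofBijective R.T hR).symm x) * S.T ((Equiv.ofBijective R.T hR).symm y)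
    rw [← S.T_mul]
    refine congrArg S.T (hR.1 ?_)
    rw [R.T_mul]
    rw [Equiv.ofBijective_apply_symm_apply R.T hR, Equiv.ofBijective_apply_symm_apply R.T hR,
      Equiv.ofBijective_apply_symm_apply R.T hR]

end Rels

/-- The transvection matrix. -/
abbrev tvm : Matrix (Fin 5) (Fin 5) (ZMod 2) := Matrix.transvection 0 1 1

/-- The matrix with given coordinates. -/
def mat (r v : F3) (c : ZMod 2) (A : Matrix (Fin 3) (Fin 3) (ZMod 2)) :
    Matrix (Fin 5) (Fin 5) (ZMod 2) :=
  !![1, c, r 0, r 1, r 2;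
     0, 1, 0, 0, 0;
     0, v 0, A 0 0, A 0 1, A 0 2;
     0, v 1, A 1 0, A 1 1, A 1 2;
     0, v 2, A 2 0, A 2 1, A 2 2]

theorem mat_mul (r v r' v' : F3) (c c' : ZMod 2) (A A' : Matrix (Fin 3) (Fin 3) (ZMod 2)) :
    mat r v c A * mat r' v' c' A' =
      mat (r' + vecMul r A') (v + A *ᵥ v') (c + c' + r ⬝ᵥ v') (A * A') := by
  ext i j
  fin_cases i <;> fin_cases j <;>
    simp [mat, Matrix.mul_apply, Fin.sum_univ_five, Fin.sum_univ_three, vecMul, mulVec, dotProduct] <;>
    ring

theorem mat_one : mat 0 0 0 1 = 1 := by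
  ext i j
  fin_cases i <;> fin_cases j <;> simp [mat]

theorem coe_inv_right (A : L3) :
    (A : Matrix (Fin 3) (Fin 3) (ZMod 2)) * ((A⁻¹ : L3) : Matrix (Fin 3) (Fin 3) (ZMod 2)) = 1 :=
  congrArg (fun X : L3 => (X : Matrix (Fin 3) (Fin 3) (ZMod 2))) (mul_inv_cancel A)

theorem coe_inv_left (A : L3) :
    ((A⁻¹ : L3) : Matrix (Fin 3) (Fin 3) (ZMod 2)) * (A : Matrix (Fin 3) (Fin 3) (ZMod 2)) = 1 :=
  congrArg (fun X : L3 => (X : Matrix (Fin 3) (Fin 3) (ZMod 2))) (inv_mul_cancel A)

theorem coe5_inv_right (A : SpecialLinearGroup (Fin 5) (ZMod 2)) :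
    (A : Matrix (Fin 5) (Fin 5) (ZMod 2)) *
      ((A⁻¹ : SpecialLinearGroup (Fin 5) (ZMod 2)) : Matrix (Fin 5) (Fin 5) (ZMod 2)) = 1 :=
  (Matrix.SpecialLinearGroup.coe_mul A A⁻¹).symm.trans
    ((congrArg (fun X : SpecialLinearGroup (Fin 5) (ZMod 2) => (X : Matrix (Fin 5) (Fin 5) (ZMod 2)))
      (mul_inv_cancel A)).trans Matrix.SpecialLinearGroup.coe_one)

theorem mat_block {r v r' v' : F3} {c c' : ZMod 2} {A A' : Matrix (Fin 3) (Fin 3) (ZMod 2)}
    (h : mat r v c A = mat r' v' c' A') : r = r' ∧ v = v' ∧ c = c' ∧ A = A' := by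
  refine ⟨funext fun i => ?_, funext fun i => ?_, congrFun (congrFun h 0) 1, ?_⟩
  · fin_cases i
    · exact congrFun (congrFun h 0) 2
    · exact congrFun (congrFun h 0) 3
    · exact congrFun (congrFun h 0) 4
  · fin_cases i
    · exact congrFun (congrFun h 2) 1
    · exact congrFun (congrFun h 3) 1
    · exact congrFun (congrFun h 4) 1
  · ext i j
    fin_cases i <;> fin_cases j
    · exact congrFun (congrFun h 2) 2
    · exact congrFun (congrFun h 2) 3
    · exact congrFun (congrFun h 2) 4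
    · exact congrFun (congrFun h 3) 2
    · exact congrFun (congrFun h 3) 3
    · exact congrFun (congrFun h 3) 4
    · exact congrFun (congrFun h 4) 2
    · exact congrFun (congrFun h 4) 3
    · exact congrFun (congrFun h 4) 4

theorem form_of_comm {M : Matrix (Fin 5) (Fin 5) (ZMod 2)} (hM : M.det = 1) (hcomm : M * tvm = tvm * M) :
    ∃ r v c A, M = mat r v c A := by
  have hk : ∀ i j, M i 0 * (if j = 1 then 1 else 0) = (if i = 0 then M 1 j else 0) := fun i j => by
    have := congrFun (congrFun hcomm i) j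
    simp only [tvm, Matrix.transvection, mul_add, add_mul, mul_one, one_mul, Matrix.add_apply,
      add_right_inj] at this
    rw [Matrix.mul_apply, Matrix.mul_apply] at this
    simpa [Matrix.single_apply, Fin.sum_univ_five, eq_comm] using this
  have hc0 : ∀ i, i ≠ 0 → M i 0 = 0 := fun i hi => by simpa [hi] using hk i 1
  have hr1 : ∀ j, j ≠ 1 → M 1 j = 0 := fun j hj => by simpa [hj] using (hk 0 j).symm
  have h11 : M 1 1 = M 0 0 := by simpa using (hk 0 1).symm
  have hM00 : M 0 0 = 1 := by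
    have h2 : ∀ x : ZMod 2, x = 0 ∨ x = 1 := by decide
    refine (h2 _).resolve_left fun h0 => ?_
    have hz : M.det = 0 := by
      refine Matrix.det_eq_zero_of_column_eq_zero 0 fun i => ?_
      by_cases hi : i = 0
      · rw [hi, h0]
      · exact hc0 i hi
    rw [hz] at hM
    exact zero_ne_one hM
  refine ⟨![M 0 2, M 0 3, M 0 4], ![M 2 1, M 3 1, M 4 1], M 0 1,
    !![M 2 2, M 2 3, M 2 4; M 3 2, M 3 3, M 3 4; M 4 2, M 4 3, M 4 4], ?_⟩
  ext i j
  fin_cases i <;> fin_cases j
  all_goals first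
    | rfl
    | exact hM00
    | exact h11.trans hM00
    | exact hc0 _ (by decide)
    | exact hr1 _ (by decide)

theorem mat_det (r v : F3) (c : ZMod 2) (A : L3) :
    (mat r v c (A : Matrix (Fin 3) (Fin 3) (ZMod 2))).det = 1 := by
  set M := mat r v c (A : Matrix (Fin 3) (Fin 3) (ZMod 2))
  set B : Matrix (Fin 3) (Fin 3) (ZMod 2) := ((A⁻¹ : L3) : Matrix (Fin 3) (Fin 3) (ZMod 2))
  have hB : (A : Matrix (Fin 3) (Fin 3) (ZMod 2)) * B = 1 := coe_inv_right A
  have h : M * mat (-(vecMul r B)) (-(B *ᵥ v)) (-c + r ⬝ᵥ (B *ᵥ v)) B = 1 := by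
    rw [mat_mul, hB, mulVec_neg, mulVec_mulVec, hB, one_mulVec, dotProduct_neg, ← mat_one]
    congr 1
    · simp
    · simp
    · ring
  have h' : ∀ x y : ZMod 2, x * y = 1 → x = 1 := by decide
  exact h' _ _ (by rw [← det_mul, h, det_one])

theorem mat_comm (r v : F3) (c : ZMod 2) (A : Matrix (Fin 3) (Fin 3) (ZMod 2)) :
    mat r v c A * tvm = tvm * mat r v c A := by
  ext i j
  fin_cases i <;> fin_cases j <;>
    simp [mat, tvm, Matrix.mul_apply, Fin.sum_univ_five, Matrix.transvection, Matrix.single_apply,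
      Matrix.add_apply, Matrix.one_apply] <;> ring

section model

variable (s : SpecialLinearGroup (Fin 5) (ZMod 2)) (hs : (s : Matrix (Fin 5) (Fin 5) (ZMod 2)) = tvm)

/-- An element of the centraliser of the transvection. -/
def el (r v : F3) (c : ZMod 2) (A : L3) : Subgroup.centralizer ({s} : Set (SpecialLinearGroup (Fin 5) (ZMod 2))) :=
  ⟨⟨mat r v c A, mat_det r v c A⟩, by
    refine Subgroup.mem_centralizer_singleton_iff.2 (Subtype.ext ?_)
    show mat r v c (A : Matrix (Fin 3) (Fin 3) (ZMod 2)) * (s : Matrix (Fin 5) (Fin 5) (ZMod 2)) =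
      (s : Matrix (Fin 5) (Fin 5) (ZMod 2)) * mat r v c A
    rw [hs, mat_comm]⟩

theorem el_ext {r v r' v' : F3} {c c' : ZMod 2} {A A' : L3} (h1 : r = r') (h2 : v = v') (h3 : c = c')
    (h4 : A = A') : el s hs r v c A = el s hs r' v' c' A' := by subst h1 h2 h3 h4; rfl

theorem el_mul (r v r' v' : F3) (c c' : ZMod 2) (A A' : L3) :
    el s hs r v c A * el s hs r' v' c' A' =
      el s hs (r' + vecMul r (A' : Matrix (Fin 3) (Fin 3) (ZMod 2)))
        (v + (A : Matrix (Fin 3) (Fin 3) (ZMod 2)) *ᵥ v') (c + c' + r ⬝ᵥ v') (A * A') :=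
  Subtype.ext (Subtype.ext (by
    show mat r v c _ * mat r' v' c' _ = _
    rw [mat_mul]; rfl))

theorem el_one : el s hs 0 0 0 1 = 1 :=
  Subtype.ext (Subtype.ext mat_one)

/-- The coordinates on the centraliser of the transvection. -/
def model : Rels (Subgroup.centralizer ({s} : Set (SpecialLinearGroup (Fin 5) (ZMod 2)))) where
  W r := el s hs r 0 0 1
  V v := el s hs 0 v 0 1
  Z c := el s hs 0 0 c 1
  K := { toFun := fun A => el s hs 0 0 0 A
         map_one' := el_one s hs
         map_mul' := fun A B => by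
           rw [el_mul]
           exact el_ext s hs (by simp) (by simp) (by simp) rfl }
  W_add r r' := by rw [el_mul]; exact el_ext s hs (by simp [add_comm]) (by simp) (by simp) (by simp)
  V_add r r' := by rw [el_mul]; exact el_ext s hs (by simp) (by simp) (by simp) (by simp)
  Z_add a b := by rw [el_mul]; exact el_ext s hs (by simp) (by simp) (by simp) (by simp)
  Z_comm c x := by
    obtain ⟨x, hx⟩ := x
    refine Subtype.ext ?_
    apply Subtype.ext
    show mat 0 0 c _ * (x : Matrix (Fin 5) (Fin 5) (ZMod 2)) = (x : Matrix (Fin 5) (Fin 5) (ZMod 2)) * mat 0 0 c _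
    have hm : mat 0 0 c ((1 : L3) : Matrix (Fin 3) (Fin 3) (ZMod 2)) = 1 + c • (tvm - 1) := by
      ext i j
      fin_cases i <;> fin_cases j <;>
        simp [mat, tvm, Matrix.transvection]
    have hxc : (x : Matrix (Fin 5) (Fin 5) (ZMod 2)) * tvm = tvm * x := by
      rw [← hs]
      exact congrArg (fun y : SpecialLinearGroup (Fin 5) (ZMod 2) => (y : Matrix (Fin 5) (Fin 5) (ZMod 2))) (Subgroup.mem_centralizer_singleton_iff.1 hx)
    rw [hm, add_mul, mul_add, one_mul, mul_one, smul_mul_assoc, mul_smul_comm, sub_mul, mul_sub,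
      one_mul, mul_one, hxc]
  WV r v := by
    rw [el_mul, el_mul, el_mul]
    refine el_ext s hs ?_ ?_ ?_ ?_ <;> simp
  KW A r := by
    show el s hs 0 0 0 A * el s hs _ 0 0 1 = el s hs r 0 0 1 * el s hs 0 0 0 A
    rw [el_mul, el_mul]
    refine el_ext s hs ?_ ?_ ?_ ?_ <;> simp
  KV A v := by
    show el s hs 0 0 0 A * el s hs 0 v 0 1 = el s hs 0 _ 0 1 * el s hs 0 0 0 A
    rw [el_mul, el_mul]
    refine el_ext s hs ?_ ?_ ?_ ?_ <;> simp

theorem model_T (r v : F3) (c : ZMod 2) (A : L3) :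
    (model s hs).T (r, v, c, A) =
      el s hs (vecMul r (A : Matrix (Fin 3) (Fin 3) (ZMod 2))) v (c + r ⬝ᵥ v) A := by
  show el s hs r 0 0 1 * el s hs 0 v 0 1 * el s hs 0 0 c 1 * el s hs 0 0 0 A = _
  rw [el_mul, el_mul, el_mul]
  refine el_ext s hs ?_ ?_ ?_ ?_ <;> simp [add_comm]

theorem model_bijective : Function.Bijective (model s hs).T := by
  refine ⟨fun p q h => ?_, fun x => ?_⟩
  · obtain ⟨r, v, c, A⟩ := p
    obtain ⟨r', v', c', A'⟩ := q
    rw [model_T, model_T] at h
    obtain ⟨h1, h2, h3, h4⟩ := mat_block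
      (congrArg (fun y : Subgroup.centralizer ({s} : Set (SpecialLinearGroup (Fin 5) (ZMod 2))) =>
        ((y : SpecialLinearGroup (Fin 5) (ZMod 2)) : Matrix (Fin 5) (Fin 5) (ZMod 2))) h)
    obtain rfl : A = A' := Subtype.ext h4
    subst h2
    have hr : r = r' := by
      have := congrArg (fun w => vecMul w ((A⁻¹ : L3) : Matrix (Fin 3) (Fin 3) (ZMod 2))) h1
      simp only [vecMul_vecMul] at this
      exact ((congrArg (vecMul r) (coe_inv_right A)).trans (vecMul_one r)).symm.trans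
        (this.trans ((congrArg (vecMul r') (coe_inv_right A)).trans (vecMul_one r')))
    subst hr
    rw [add_right_cancel h3]
  · obtain ⟨y, hx⟩ := x
    set M := (y : Matrix (Fin 5) (Fin 5) (ZMod 2)) with hMdef
    have hM : M.det = 1 := y.2
    have hcomm : M * tvm = tvm * M := by
      rw [← hs]
      exact congrArg (fun y : SpecialLinearGroup (Fin 5) (ZMod 2) => (y : Matrix (Fin 5) (Fin 5) (ZMod 2))) (Subgroup.mem_centralizer_singleton_iff.1 hx)
    obtain ⟨r, v, c, A, hMm⟩ := form_of_comm hM hcomm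
    set N : SpecialLinearGroup (Fin 5) (ZMod 2) := y⁻¹ with hN
    have hNc : (N : Matrix (Fin 5) (Fin 5) (ZMod 2)) * tvm = tvm * (N : Matrix (Fin 5) (Fin 5) (ZMod 2)) := by
      rw [← hs]
      exact congrArg (fun y : SpecialLinearGroup (Fin 5) (ZMod 2) => (y : Matrix (Fin 5) (Fin 5) (ZMod 2)))
        (Subgroup.mem_centralizer_singleton_iff.1 (inv_mem hx))
    obtain ⟨r', v', c', A', hNm⟩ := form_of_comm N.2 hNc
    have hone : M * (N : Matrix (Fin 5) (Fin 5) (ZMod 2)) = 1 := coe5_inv_right y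
    rw [hMm, hNm, mat_mul] at hone
    have hAA := (mat_block (hone.trans mat_one.symm)).2.2.2
    have h' : ∀ x y : ZMod 2, x * y = 1 → x = 1 := by decide
    have hdA : A.det = 1 := h' _ _ (by rw [← det_mul, hAA, det_one])
    set B : L3 := ⟨A, hdA⟩
    refine ⟨(vecMul r ((B⁻¹ : L3) : Matrix (Fin 3) (Fin 3) (ZMod 2)), v,
      c + vecMul r ((B⁻¹ : L3) : Matrix (Fin 3) (Fin 3) (ZMod 2)) ⬝ᵥ v, B), ?_⟩
    rw [model_T]
    apply Subtype.ext
    apply Subtype.ext
    show mat _ v _ A = M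
    rw [hMm]
    have h1 : vecMul (vecMul r ((B⁻¹ : L3) : Matrix (Fin 3) (Fin 3) (ZMod 2)))
        (B : Matrix (Fin 3) (Fin 3) (ZMod 2)) = r := by
      rw [vecMul_vecMul]
      exact (congrArg (vecMul r) (coe_inv_left B)).trans (vecMul_one r)
    have h2 : ∀ a b : ZMod 2, a + b + b = a := by decide
    rw [h1, h2]

end model

/-- A group with coordinates is isomorphic to the centraliser of the transvection. -/
noncomputable def Rels.toModel {C : Type u} [Group C] (R : Rels C) (hR : Function.Bijective R.T)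
    (s : SpecialLinearGroup (Fin 5) (ZMod 2)) (hs : (s : Matrix (Fin 5) (Fin 5) (ZMod 2)) = tvm) :
    C ≃* Subgroup.centralizer ({s} : Set (SpecialLinearGroup (Fin 5) (ZMod 2))) :=
  R.equiv (model s hs) hR (model_bijective s hs)

end Cfsg.Agent.H85.Held
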