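import Cfsg.Agent.H85.Held.Coord
import Cfsg.Agent.Linear.Generation

/-!
# Small facts on `SL(3, 2)` and on elementary groups of order sixteen
-/

set_option autoImplicit false

namespace Cfsg.Agent.H85.Held

open Matrix

/-- Matrices of size three over the field with two elements. -/
abbrev M3 : Type := Matrix (Fin 3) (Fin 3) (ZMod 2)

theorem eight_four_aux : ∀ a b c d e f g h i : ZMod 2,
    (!![a, b, c; d, e, f; g, h, i] : M3) * !![a, b, c; d, e, f; g, h, i] *
        (!![a, b, c; d, e, f; g, h, i] * !![a, b, c; d, e, f; g, h, i]) *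
      (!![a, b, c; d, e, f; g, h, i] * !![a, b, c; d, e, f; g, h, i] *
        (!![a, b, c; d, e, f; g, h, i] * !![a, b, c; d, e, f; g, h, i])) = 1 →
    (!![a, b, c; d, e, f; g, h, i] : M3) * !![a, b, c; d, e, f; g, h, i] *
        (!![a, b, c; d, e, f; g, h, i] * !![a, b, c; d, e, f; g, h, i]) = 1 := by
  decide +kernel

theorem norm_four_aux : ∀ a b c d e f g h i : ZMod 2,
    (!![a, b, c; d, e, f; g, h, i] : M3) * !![a, b, c; d, e, f; g, h, i] *
        (!![a, b, c; d, e, f; g, h, i] * !![a, b, c; d, e, f; g, h, i]) = 1 →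
    (1 + !![a, b, c; d, e, f; g, h, i] + !![a, b, c; d, e, f; g, h, i] * !![a, b, c; d, e, f; g, h, i] +
      !![a, b, c; d, e, f; g, h, i] * !![a, b, c; d, e, f; g, h, i] * !![a, b, c; d, e, f; g, h, i] : M3) = 0 := by
  decide +kernel

theorem fix_four_aux : ∀ a b c d e f g h i : ZMod 2,
    (!![a, b, c; d, e, f; g, h, i] : M3) * !![a, b, c; d, e, f; g, h, i] *
        (!![a, b, c; d, e, f; g, h, i] * !![a, b, c; d, e, f; g, h, i]) = 1 →
    ∃ x y w : ZMod 2, ![x, y, w] ≠ 0 ∧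
      vecMul ![x, y, w] (!![a, b, c; d, e, f; g, h, i] : M3) = ![x, y, w] := by
  decide +kernel

theorem pow_four (m : M3) : m ^ 4 = m * m * (m * m) := by
  simp [pow_succ, mul_assoc]

theorem eight_four (m : M3) (h : m ^ 8 = 1) : m ^ 4 = 1 := by
  rw [show 8 = 4 + 4 from rfl, pow_add, pow_four, Matrix.eta_fin_three m] at h
  rw [pow_four, Matrix.eta_fin_three m]
  exact eight_four_aux _ _ _ _ _ _ _ _ _ h

theorem norm_four (m : M3) (h : m ^ 4 = 1) : 1 + m + m * m + m * m * m = 0 := by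
  rw [pow_four, Matrix.eta_fin_three m] at h
  rw [Matrix.eta_fin_three m]
  exact norm_four_aux _ _ _ _ _ _ _ _ _ h

theorem fix_four (m : M3) (h : m ^ 4 = 1) : ∃ r : F3, r ≠ 0 ∧ vecMul r m = r := by
  rw [pow_four, Matrix.eta_fin_three m] at h
  obtain ⟨x, y, w, h1, h2⟩ := fix_four_aux _ _ _ _ _ _ _ _ _ h
  exact ⟨![x, y, w], h1, by rw [Matrix.eta_fin_three m]; exact h2⟩

theorem commutator_l3 : commutator L3 = ⊤ :=
  Cfsg.Agent.Linear.commutator_SL_eq_top (Or.inl (by simp))

theorem card_l3 : Nat.card L3 ≠ 0 := Nat.card_pos.ne'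

/-- The upper unitriangular element of order four. -/
def fourEl : L3 := ⟨!![1, 1, 0; 0, 1, 1; 0, 0, 1], by decide +kernel⟩

/-- An involution inverting `fourEl`. -/
def twoEl : L3 := ⟨!![1, 0, 0; 0, 1, 1; 0, 0, 1], by decide +kernel⟩

theorem fourEl_pow : fourEl ^ 4 = 1 ∧ fourEl ^ 2 ≠ 1 ∧ twoEl * twoEl = 1 ∧
    twoEl * fourEl * twoEl⁻¹ = fourEl⁻¹ := by
  decide +kernel

/-- The subgroup of upper unitriangular matrices. -/
def triang : Subgroup L3 where
  carrier := {x | (x : M3) 1 0 = 0 ∧ (x : M3) 2 0 = 0 ∧ (x : M3) 2 1 = 0}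
  one_mem' := ⟨rfl, rfl, rfl⟩
  mul_mem' {x y} hx hy := by
    obtain ⟨x1, x2, x3⟩ := hx
    obtain ⟨y1, y2, y3⟩ := hy
    refine ⟨?_, ?_, ?_⟩ <;>
      simp [Matrix.mul_apply, Fin.sum_univ_three, x1, x2, x3, y1, y2, y3]
  inv_mem' {x} hx := by
    obtain ⟨x1, x2, x3⟩ := hx
    refine ⟨?_, ?_, ?_⟩ <;>
      simp [Matrix.adjugate_fin_three, x1, x2, x3]

theorem triang_aux : ∀ a b c d f i : ZMod 2, a * d * i = 1 →
    ∃ k < 4, ∃ l < 2, (!![a, b, c; 0, d, f; 0, 0, i] : M3) = ((fourEl ^ k * twoEl ^ l : L3) : M3) := by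
  decide +kernel

theorem triang_mem {x : L3} (hx : x ∈ triang) : ∃ k l : ℕ, x = fourEl ^ k * twoEl ^ l := by
  obtain ⟨x1, x2, x3⟩ := hx
  have hd : (x : M3) 0 0 * (x : M3) 1 1 * (x : M3) 2 2 = 1 := by
    have := x.2
    rw [Matrix.det_fin_three] at this
    simpa [x1, x2, x3] using this
  obtain ⟨k, -, l, -, h⟩ := triang_aux _ ((x : M3) 0 1) ((x : M3) 0 2) _ ((x : M3) 1 2) _ hd
  refine ⟨k, l, Subtype.ext ?_⟩
  rw [← h]
  conv_lhs => rw [Matrix.eta_fin_three (x : M3)]
  rw [x1, x2, x3]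

theorem fourEl_mem : fourEl ∈ triang ∧ twoEl ∈ triang :=
  ⟨⟨rfl, rfl, rfl⟩, ⟨rfl, rfl, rfl⟩⟩

/-- The coordinates of the upper unitriangular matrices. -/
theorem card_triang : Nat.card triang = 8 := by
  have e : triang ≃ ZMod 2 × ZMod 2 × ZMod 2 :=
    { toFun := fun x => ((x.1 : M3) 0 1, (x.1 : M3) 0 2, (x.1 : M3) 1 2)
      invFun := fun p => ⟨⟨!![1, p.1, p.2.1; 0, 1, p.2.2; 0, 0, 1], by simp [Matrix.det_fin_three]⟩,
        rfl, rfl, rfl⟩
      left_inv := fun x => by
        obtain ⟨x, x1, x2, x3⟩ := x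
        have hd : (x : M3) 0 0 * (x : M3) 1 1 * (x : M3) 2 2 = 1 := by
          have := x.2
          rw [Matrix.det_fin_three] at this
          simpa [x1, x2, x3] using this
        have h1 : ∀ a b c : ZMod 2, a * b * c = 1 → a = 1 ∧ b = 1 ∧ c = 1 := by decide
        obtain ⟨d0, d1, d2⟩ := h1 _ _ _ hd
        refine Subtype.ext (Subtype.ext ?_)
        ext i j
        fin_cases i <;> fin_cases j
        all_goals first
          | rfl
          | exact d0.symm
          | exact d1.symm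
          | exact d2.symm
          | exact x1.symm
          | exact x2.symm
          | exact x3.symm
      right_inv := fun p => rfl }
  rw [Nat.card_congr e, Nat.card_prod, Nat.card_prod, Nat.card_zmod]

section elementary

universe u

variable {C : Type u} [Group C]

/-- The power of an element with exponent a bit. -/
def pw (x : C) (a : ZMod 2) : C := if a = 0 then 1 else x

theorem pw_zero (x : C) : pw x 0 = 1 := if_pos rfl

theorem pw_one (x : C) : pw x 1 = x := if_neg (by decide)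

theorem bit_cases (a : ZMod 2) : a = 0 ∨ a = 1 := by
  revert a
  decide

theorem pw_add (x : C) (hx : x * x = 1) (a b : ZMod 2) : pw x (a + b) = pw x a * pw x b := by
  rcases bit_cases a with rfl | rfl <;> rcases bit_cases b with rfl | rfl <;>
    simp [pw_zero, pw_one, hx, show (1 : ZMod 2) + 1 = 0 from rfl]

theorem pw_mem (E : Subgroup C) {x : C} (hx : x ∈ E) (a : ZMod 2) : pw x a ∈ E := by
  rcases bit_cases a with rfl | rfl
  · rw [pw_zero]; exact one_mem E
  · rw [pw_one]; exact hx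

/-- Three further generators of an elementary abelian group of order sixteen. -/
theorem exists_frame [Finite C] (E : Subgroup C) (h16 : Nat.card E = 16)
    (hsq : ∀ x ∈ E, x * x = 1) {z : C} (hz : z ∈ E) (hz1 : z ≠ 1) :
    ∃ U : F3 → C, (∀ v w, U (v + w) = U v * U w) ∧ (∀ v, U v ∈ E) ∧
      (∀ v a, U v * pw z a = 1 → v = 0 ∧ a = 0) ∧ ∀ x ∈ E, ∃ v a, x = U v * pw z a := by
  classical
  have hinv : ∀ x ∈ E, x⁻¹ = x := fun x hx => inv_eq_of_mul_eq_one_right (hsq x hx)
  have hcomm : ∀ x ∈ E, ∀ y ∈ E, x * y = y * x := fun x hx y hy => by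
    have h := hinv (x * y) (mul_mem hx hy)
    rw [_root_.mul_inv_rev, hinv x hx, hinv y hy] at h
    exact h.symm
  -- an element outside any small set
  have pick : ∀ S : Finset C, S.card < 16 → ∃ x ∈ E, x ∉ S := fun S hS => by
    by_contra h
    simp only [not_exists, not_and, not_not] at h
    have h' : (E : Set C) ⊆ (S : Set C) := fun x hx => h x hx
    have := Set.ncard_le_ncard h' (Finset.finite_toSet S)
    rw [Set.ncard_coe_finset, ← Nat.card_coe_set_eq] at this
    exact absurd (h16.symm.le.trans this) (by omega)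
  obtain ⟨w1, hw1, hn1⟩ := pick (Finset.univ.image fun a : ZMod 2 => pw z a)
    (lt_of_le_of_lt Finset.card_image_le (by simp))
  obtain ⟨w2, hw2, hn2⟩ := pick (Finset.univ.image fun p : ZMod 2 × ZMod 2 => pw w1 p.1 * pw z p.2)
    (lt_of_le_of_lt Finset.card_image_le (by simp))
  obtain ⟨w3, hw3, hn3⟩ := pick (Finset.univ.image fun p : ZMod 2 × ZMod 2 × ZMod 2 =>
    pw w1 p.1 * pw w2 p.2.1 * pw z p.2.2) (lt_of_le_of_lt Finset.card_image_le (by simp))
  set U : F3 → C := fun v => pw w1 (v 0) * pw w2 (v 1) * pw w3 (v 2) with hU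
  have hUE : ∀ v, U v ∈ E := fun v => mul_mem (mul_mem (pw_mem E hw1 _) (pw_mem E hw2 _)) (pw_mem E hw3 _)
  have hUadd : ∀ v w, U (v + w) = U v * U w := fun v w => by
    simp only [hU, Pi.add_apply, pw_add _ (hsq _ hw1), pw_add _ (hsq _ hw2), pw_add _ (hsq _ hw3)]
    have c1 : Commute (pw w2 (v 1)) (pw w1 (w 0)) := hcomm _ (pw_mem E hw2 _) _ (pw_mem E hw1 _)
    have c2 : Commute (pw w3 (v 2)) (pw w1 (w 0) * pw w2 (w 1)) :=
      hcomm _ (pw_mem E hw3 _) _ (mul_mem (pw_mem E hw1 _) (pw_mem E hw2 _))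
    rw [c2.mul_mul_mul_comm, c1.mul_mul_mul_comm]
  have hker : ∀ v a, U v * pw z a = 1 → v = 0 ∧ a = 0 := by
    intro v a h
    have h2 : v 2 = 0 := (bit_cases _).resolve_right fun e => by
      apply hn3
      refine Finset.mem_image.2 ⟨(v 0, v 1, a), Finset.mem_univ _, ?_⟩
      simp only [hU, e, pw_one] at h
      have h' := eq_inv_of_mul_eq_one_left h
      rw [hinv _ (pw_mem E hz a)] at h'
      rw [← h', ← mul_assoc, hsq _ (mul_mem (pw_mem E hw1 _) (pw_mem E hw2 _)), one_mul]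
    have h1 : v 1 = 0 := (bit_cases _).resolve_right fun e => by
      apply hn2
      refine Finset.mem_image.2 ⟨(v 0, a), Finset.mem_univ _, ?_⟩
      simp only [hU, h2, e, pw_one, pw_zero, mul_one] at h
      have h' := eq_inv_of_mul_eq_one_left h
      rw [hinv _ (pw_mem E hz a)] at h'
      rw [← h', ← mul_assoc, hsq _ (pw_mem E hw1 _), one_mul]
    have h0 : v 0 = 0 := (bit_cases _).resolve_right fun e => by
      apply hn1
      refine Finset.mem_image.2 ⟨a, Finset.mem_univ _, ?_⟩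
      simp only [hU, h2, h1, e, pw_one, pw_zero, mul_one] at h
      have h' := eq_inv_of_mul_eq_one_left h
      rw [hinv _ (pw_mem E hz a)] at h'
      exact h'.symm
    refine ⟨funext fun i => by fin_cases i <;> assumption, (bit_cases a).resolve_right fun e => hz1 ?_⟩
    simpa [hU, h2, h1, h0, e, pw_one, pw_zero] using h
  refine ⟨U, hUadd, hUE, hker, fun x hx => ?_⟩
  let f : F3 × ZMod 2 → E := fun p => ⟨U p.1 * pw z p.2, mul_mem (hUE _) (pw_mem E hz _)⟩
  have hinj : Function.Injective f := by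
    rintro ⟨v, a⟩ ⟨w, b⟩ h
    have h' : U v * pw z a = U w * pw z b := congrArg Subtype.val h
    have h2 : U (v + w) * pw z (a + b) = 1 := by
      rw [hUadd, pw_add _ (hsq _ hz),
        (show Commute (U w) (pw z a) from hcomm _ (hUE w) _ (pw_mem E hz a)).mul_mul_mul_comm, h']
      exact hsq _ (mul_mem (hUE w) (pw_mem E hz b))
    obtain ⟨e1, e2⟩ := hker _ _ h2
    have hd : ∀ s t : ZMod 2, s + t = 0 → s = t := by decide
    exact Prod.ext (funext fun i => hd _ _ (congrFun e1 i)) (hd _ _ e2)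
  have hcard : Nat.card (F3 × ZMod 2) = Nat.card E := by
    rw [h16, Nat.card_eq_fintype_card]; rfl
  obtain ⟨⟨v, a⟩, hva⟩ := (hinj.bijective_of_nat_card_le hcard.ge).2 ⟨x, hx⟩
  exact ⟨v, a, (congrArg Subtype.val hva).symm⟩

end elementary

end Cfsg.Agent.H85.Held
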