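import Cfsg.Agent.H85.Held.Facts
import Cfsg.Agent.Linear.Order

/-!
# Extensions of `SL(3, 2)` by an extraspecial group with two invariant elementary subgroups

A group `C` with a normal extraspecial subgroup `Q` of order `128`, quotient `SL(3, 2)`,
self-centralising `Q`, and two normal elementary abelian subgroups of order `16` of `Q` meeting in
the centre, either has coordinates as the centraliser of a transvection of `SL(5, 2)`, or contains
an element whose fourth power is the central involution and which centralises a non-central element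
of the first elementary subgroup.
-/

set_option autoImplicit false
set_option linter.unusedSectionVars false

namespace Cfsg.Agent.H85.Held

open Matrix

universe u

/-- The data, without the normality of the two elementary subgroups. -/
structure Cross (C : Type u) [Group C] where
  z : C
  Q : Subgroup C
  φ : C →* L3
  E₁ : Subgroup C
  E₂ : Subgroup C
  z_sq : z * z = 1
  z_ne : z ≠ 1
  z_comm : ∀ x, z * x = x * z
  z_mem₁ : z ∈ E₁
  z_mem₂ : z ∈ E₂
  ker : φ.ker = Q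
  surj : Function.Surjective φ
  card : Nat.card Q = 128
  comm : ∀ x ∈ Q, ∀ y ∈ Q, x * y = y * x ∨ x * y = y * x * z
  center : ∀ x ∈ Q, (∀ y ∈ Q, x * y = y * x) → x = 1 ∨ x = z
  cent : ∀ c, (∀ y ∈ Q, c * y = y * c) → c ∈ Q
  le₁ : E₁ ≤ Q
  le₂ : E₂ ≤ Q
  card₁ : Nat.card E₁ = 16
  card₂ : Nat.card E₂ = 16
  sq₁ : ∀ x ∈ E₁, x * x = 1
  sq₂ : ∀ x ∈ E₂, x * x = 1
  inter : ∀ x ∈ E₁, x ∈ E₂ → x = 1 ∨ x = z

/-- The data. -/
structure Frame (C : Type u) [Group C] extends Cross C where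
  normal₁ : E₁.Normal
  normal₂ : E₂.Normal

namespace Cross

variable {C : Type u} [Group C] [Finite C] (F : Cross C)

/-- The central bit. -/
def zp (a : ZMod 2) : C := pw F.z a

theorem zp_zero : F.zp 0 = 1 := pw_zero _

theorem zp_one : F.zp 1 = F.z := pw_one _

theorem zp_add (a b : ZMod 2) : F.zp (a + b) = F.zp a * F.zp b := pw_add _ F.z_sq a b

theorem zp_comm (a : ZMod 2) (x : C) : F.zp a * x = x * F.zp a := by
  rcases bit_cases a with rfl | rfl
  · rw [F.zp_zero, one_mul, mul_one]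
  · rw [F.zp_one, F.z_comm]

theorem zp_inj {a b : ZMod 2} (h : F.zp a = F.zp b) : a = b := by
  rcases bit_cases a with rfl | rfl <;> rcases bit_cases b with rfl | rfl
  · rfl
  · rw [F.zp_zero, F.zp_one] at h; exact absurd h.symm F.z_ne
  · rw [F.zp_zero, F.zp_one] at h; exact absurd h F.z_ne
  · rfl

theorem zp_mem₁ (a : ZMod 2) : F.zp a ∈ F.E₁ := pw_mem _ F.z_mem₁ a

theorem zp_mem₂ (a : ZMod 2) : F.zp a ∈ F.E₂ := pw_mem _ F.z_mem₂ a

theorem zp_cases {x : C} (h : x = 1 ∨ x = F.z) : ∃ a, x = F.zp a := by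
  rcases h with rfl | rfl
  · exact ⟨0, F.zp_zero.symm⟩
  · exact ⟨1, F.zp_one.symm⟩

theorem zp_eq_one_or (a : ZMod 2) : F.zp a = 1 ∨ F.zp a = F.z := by
  rcases bit_cases a with rfl | rfl
  · exact Or.inl F.zp_zero
  · exact Or.inr F.zp_one

theorem comm₁ {x y : C} (hx : x ∈ F.E₁) (hy : y ∈ F.E₁) : x * y = y * x := by
  have h := F.sq₁ _ (mul_mem hx hy)
  calc x * y = x * (x * y * (x * y)) * y := by rw [h, mul_one]
    _ = (x * x) * (y * x) * (y * y) := by group
    _ = y * x := by rw [F.sq₁ x hx, F.sq₁ y hy, one_mul, mul_one]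

theorem comm₂ {x y : C} (hx : x ∈ F.E₂) (hy : y ∈ F.E₂) : x * y = y * x := by
  have h := F.sq₂ _ (mul_mem hx hy)
  calc x * y = x * (x * y * (x * y)) * y := by rw [h, mul_one]
    _ = (x * x) * (y * x) * (y * y) := by group
    _ = y * x := by rw [F.sq₂ x hx, F.sq₂ y hy, one_mul, mul_one]

open Classical in
/-- The commutator bit. -/
noncomputable def pr (x y : C) : ZMod 2 := if x * y = y * x then 0 else 1

theorem pr_eq {x y : C} (hx : x ∈ F.Q) (hy : y ∈ F.Q) : x * y = y * x * F.zp (pr x y) := by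
  unfold pr
  split_ifs with h
  · rw [F.zp_zero, mul_one, h]
  · rw [F.zp_one]
    exact (F.comm x hx y hy).resolve_left h

theorem pr_unique {x y : C} {a : ZMod 2} (h : x * y = y * x * F.zp a) : pr x y = a := by
  unfold pr
  rcases bit_cases a with rfl | rfl
  · rw [F.zp_zero, mul_one] at h
    rw [if_pos h]
  · rw [F.zp_one] at h
    rw [if_neg fun e => F.z_ne ?_]
    rw [e] at h
    exact mul_eq_left.1 h.symm

theorem pr_left {x x' y : C} (hx : x ∈ F.Q) (hx' : x' ∈ F.Q) (hy : y ∈ F.Q) :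
    pr (x * x') y = pr x y + pr x' y := F.pr_unique (by
  rw [mul_assoc, F.pr_eq hx' hy, ← mul_assoc, ← mul_assoc, F.pr_eq hx hy, F.zp_add,
    mul_assoc (y * x) (F.zp _) x', F.zp_comm (pr x y) x']
  simp only [mul_assoc])

theorem pr_right {x y y' : C} (hx : x ∈ F.Q) (hy : y ∈ F.Q) (hy' : y' ∈ F.Q) :
    pr x (y * y') = pr x y + pr x y' := F.pr_unique (by
  rw [← mul_assoc, F.pr_eq hx hy, mul_assoc (y * x), F.zp_comm (pr x y), ← mul_assoc, mul_assoc y x y',
    F.pr_eq hx hy', F.zp_add, F.zp_comm (pr x y) (F.zp (pr x y'))]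
  simp only [mul_assoc])

theorem pr_conj (c : C) {x y : C} (hx : x ∈ F.Q) (hy : y ∈ F.Q) :
    pr (c * x * c⁻¹) (c * y * c⁻¹) = pr x y := F.pr_unique (by
  calc c * x * c⁻¹ * (c * y * c⁻¹) = c * (x * y) * c⁻¹ := by group
    _ = c * (y * x) * (F.zp (pr x y) * c⁻¹) := by rw [F.pr_eq hx hy]; group
    _ = c * (y * x) * (c⁻¹ * F.zp (pr x y)) := by rw [F.zp_comm]
    _ = c * y * c⁻¹ * (c * x * c⁻¹) * F.zp (pr x y) := by group)

theorem mem_Q₁ {x : C} (hx : x ∈ F.E₁) : x ∈ F.Q := F.le₁ hx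

theorem mem_Q₂ {x : C} (hx : x ∈ F.E₂) : x ∈ F.Q := F.le₂ hx

theorem linear (f : F3 → ZMod 2) (hf : ∀ v w, f (v + w) = f v + f w) :
    ∃ r : F3, ∀ v, f v = r ⬝ᵥ v := by
  have h0 : f 0 = 0 := by
    have := hf 0 0
    rw [add_zero] at this
    exact add_eq_left.1 this.symm
  refine ⟨![f ![1, 0, 0], f ![0, 1, 0], f ![0, 0, 1]], fun v => ?_⟩
  have hsm : ∀ (a : ZMod 2) (e : F3), f (a • e) = f e * a := fun a e => by
    rcases bit_cases a with rfl | rfl
    · rw [zero_smul, h0, mul_zero]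
    · rw [one_smul, mul_one]
  have hv : v = v 0 • ![1, 0, 0] + v 1 • ![0, 1, 0] + v 2 • ![0, 0, 1] := by
    funext i
    fin_cases i <;> simp
  conv_lhs => rw [hv]
  rw [hf, hf, hsm, hsm, hsm]
  simp [dotProduct, Fin.sum_univ_three]

/-- Coordinates on the first subgroup dual to given coordinates on the second. -/
theorem exists_W_of (V : F3 → C) (hVa : ∀ r s, V (r + s) = V r * V s) (hVm : ∀ v, V v ∈ F.E₂)
    (hVk : ∀ v a, V v * pw F.z a = 1 → v = 0 ∧ a = 0) (hVs : ∀ x ∈ F.E₂, ∃ v a, x = V v * F.zp a) :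
    ∃ W : F3 → C, (∀ r s, W (r + s) = W r * W s) ∧ (∀ r, W r ∈ F.E₁) ∧
    (∀ r v, pr (W r) (V v) = r ⬝ᵥ v) ∧ (∀ x ∈ F.E₁, ∃ r a, x = W r * F.zp a) := by
  obtain ⟨U, hUa, hUm, hUk, hUs⟩ := exists_frame F.E₁ F.card₁ F.sq₁ F.z_mem₁ F.z_ne
  have hlin : ∀ w, ∃ r : F3, ∀ v, pr (U w) (V v) = r ⬝ᵥ v := fun w => linear _ fun v v' => by
    rw [hVa, F.pr_right (F.mem_Q₁ (hUm w)) (F.mem_Q₂ (hVm v)) (F.mem_Q₂ (hVm v'))]
  choose ψ hψ using hlin
  have hψadd : ∀ w w', ψ (w + w') = ψ w + ψ w' := fun w w' => dotProduct_eq _ _ fun v => by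
    rw [← hψ, hUa, F.pr_left (F.mem_Q₁ (hUm w)) (F.mem_Q₁ (hUm w')) (F.mem_Q₂ (hVm v)), hψ, hψ,
      add_dotProduct]
  have hψinj : Function.Injective ψ := by
    intro w w' h
    have hd : ψ (w + w') = 0 := by
      rw [hψadd, h]
      funext i
      exact (by decide : ∀ t : ZMod 2, t + t = 0) _
    have hall : ∀ y ∈ F.E₂, U (w + w') * y = y * U (w + w') := by
      intro y hy
      obtain ⟨v, a, rfl⟩ := hVs y hy
      have h0 := hψ (w + w') v
      rw [hd, zero_dotProduct] at h0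
      have e := F.pr_eq (F.mem_Q₁ (hUm (w + w'))) (F.mem_Q₂ (hVm v))
      rw [h0, F.zp_zero, mul_one] at e
      show U (w + w') * (V v * F.zp a) = V v * F.zp a * U (w + w')
      rw [← mul_assoc, e, mul_assoc, ← F.zp_comm a, mul_assoc]
    have hx := F.mem_Q₁ (hUm (w + w'))
    -- products of the two subgroups give everything
    let f : (F3 × F3 × ZMod 2) → F.Q := fun p =>
      ⟨U p.1 * (V p.2.1 * F.zp p.2.2),
        mul_mem (F.mem_Q₁ (hUm _)) (F.mem_Q₂ (mul_mem (hVm _) (F.zp_mem₂ _)))⟩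
    have hfinj : Function.Injective f := by
      rintro ⟨w1, v1, a1⟩ ⟨w2, v2, a2⟩ he
      have he' : U w1 * (V v1 * F.zp a1) = U w2 * (V v2 * F.zp a2) := congrArg Subtype.val he
      have hU2 : ∀ u, U u * U u = 1 := fun u => F.sq₁ _ (hUm u)
      have hV2 : ∀ u, V u * V u = 1 := fun u => F.sq₂ _ (hVm u)
      have e1 : U (w1 + w2) = V (v1 + v2) * F.zp (a1 + a2) := by
        calc U (w1 + w2) = U w2 * (U w1 * (V v1 * F.zp a1)) * (V v1 * F.zp a1)⁻¹ := by
              rw [hUa, F.comm₁ (hUm w1) (hUm w2)]; group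
          _ = (U w2 * U w2) * (V v2 * F.zp a2 * (V v1 * F.zp a1)⁻¹) := by rw [he']; group
          _ = V v2 * F.zp a2 * (V v1 * F.zp a1) := by
              rw [hU2, one_mul, inv_eq_of_mul_eq_one_right (F.sq₂ _ (mul_mem (hVm v1) (F.zp_mem₂ a1)))]
          _ = V (v1 + v2) * F.zp (a1 + a2) := by
              rw [(show Commute (F.zp a2) (V v1) from F.zp_comm a2 (V v1)).mul_mul_mul_comm, ← hVa,
                ← F.zp_add, add_comm v2, add_comm a2]
      rcases F.inter _ (hUm (w1 + w2)) (e1 ▸ mul_mem (hVm _) (F.zp_mem₂ _)) with h1 | h1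
      · have hw : w1 + w2 = 0 := (hUk (w1 + w2) 0 (by rw [pw_zero, mul_one, h1])).1
        obtain ⟨hv, ha⟩ := hVk (v1 + v2) (a1 + a2) (e1.symm.trans h1)
        have hd : ∀ s t : ZMod 2, s + t = 0 → s = t := by decide
        rw [show w1 = w2 from funext fun i => hd _ _ (congrFun hw i),
          show v1 = v2 from funext fun i => hd _ _ (congrFun hv i), hd _ _ ha]
      · have := (hUk (w1 + w2) 1 (by rw [pw_one, h1, F.z_sq])).2
        exact absurd this (by decide)
    have hc : Nat.card (F3 × F3 × ZMod 2) = Nat.card F.Q := by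
      rw [F.card, Nat.card_eq_fintype_card]; rfl
    have hfb := hfinj.bijective_of_nat_card_le hc.ge
    have hcen := F.center _ hx fun y hy => by
      obtain ⟨⟨w1, v1, a1⟩, hp⟩ := hfb.2 ⟨y, hy⟩
      rw [← show U w1 * (V v1 * F.zp a1) = y from congrArg Subtype.val hp, ← mul_assoc,
        F.comm₁ (hUm _) (hUm _), mul_assoc, hall _ (mul_mem (hVm _) (F.zp_mem₂ _)), ← mul_assoc]
    have hd2 : ∀ s t : ZMod 2, s + t = 0 → s = t := by decide
    rcases hcen with h1 | h1
    · exact funext fun i => hd2 _ _ (congrFun ((hUk (w + w') 0 (by rw [pw_zero, mul_one, h1])).1) i)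
    · exact absurd (hUk (w + w') 1 (by rw [pw_one, h1, F.z_sq])).2 (by decide)
  have hψbij := hψinj.bijective_of_nat_card_le le_rfl
  let e := Equiv.ofBijective ψ hψbij
  refine ⟨fun r => U (e.symm r), fun r s => ?_, fun r => hUm _, fun r v => ?_,
    fun x hx => ?_⟩
  · rw [← hUa]
    refine congrArg U (hψbij.1 ?_)
    rw [hψadd, Equiv.ofBijective_apply_symm_apply ψ hψbij, Equiv.ofBijective_apply_symm_apply ψ hψbij,
      Equiv.ofBijective_apply_symm_apply ψ hψbij]
  · rw [hψ, Equiv.ofBijective_apply_symm_apply ψ hψbij]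
  · obtain ⟨w, a, h⟩ := hUs x hx
    refine ⟨ψ w, a, ?_⟩
    rw [h]
    congr 2
    exact (Equiv.ofBijective_symm_apply_apply ψ hψbij w).symm

/-- The coordinates on the two elementary subgroups. -/
theorem exists_WV : ∃ W V : F3 → C, (∀ r s, W (r + s) = W r * W s) ∧ (∀ r s, V (r + s) = V r * V s) ∧
    (∀ r, W r ∈ F.E₁) ∧ (∀ v, V v ∈ F.E₂) ∧ (∀ r v, pr (W r) (V v) = r ⬝ᵥ v) ∧
    (∀ x ∈ F.E₁, ∃ r a, x = W r * F.zp a) ∧ (∀ x ∈ F.E₂, ∃ v a, x = V v * F.zp a) := by
  obtain ⟨V, hVa, hVm, hVk, hVs⟩ := exists_frame F.E₂ F.card₂ F.sq₂ F.z_mem₂ F.z_ne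
  obtain ⟨W, h1, h2, h3, h4⟩ := F.exists_W_of V hVa hVm hVk hVs
  exact ⟨W, V, h1, hVa, h2, hVm, h3, h4, hVs⟩

end Cross

/-- Two complementary elementary subgroups with coordinates. -/
structure Duo (C : Type u) [Group C] extends Cross C where
  W : F3 → C
  V : F3 → C
  W_add : ∀ r s, W (r + s) = W r * W s
  V_add : ∀ r s, V (r + s) = V r * V s
  W_mem : ∀ r, W r ∈ E₁
  V_mem : ∀ v, V v ∈ E₂
  pr_WV : ∀ r v, Cross.pr (W r) (V v) = r ⬝ᵥ v
  span₁ : ∀ x ∈ E₁, ∃ r a, x = W r * Cross.zp toCross a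
  span₂ : ∀ x ∈ E₂, ∃ v a, x = V v * Cross.zp toCross a

/-- A frame with coordinates on its elementary subgroups. -/
structure Pair (C : Type u) [Group C] extends Duo C where
  normal₁ : E₁.Normal
  normal₂ : E₂.Normal

theorem Cross.exists_duo {C : Type u} [Group C] [Finite C] (F : Cross C) : ∃ P : Duo C, P.toCross = F :=
  let ⟨W, V, h1, h2, h3, h4, h5, h6, h7⟩ := F.exists_WV
  ⟨{ F with
      W := W
      V := V
      W_add := h1
      V_add := h2
      W_mem := h3
      V_mem := h4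
      pr_WV := h5
      span₁ := h6
      span₂ := h7 }, rfl⟩

/-- Choosing coordinates. -/
noncomputable def Frame.toPair {C : Type u} [Group C] [Finite C] (F : Frame C) : Pair C :=
  { F with
    W := F.exists_WV.choose
    V := F.exists_WV.choose_spec.choose
    W_add := F.exists_WV.choose_spec.choose_spec.1
    V_add := F.exists_WV.choose_spec.choose_spec.2.1
    W_mem := F.exists_WV.choose_spec.choose_spec.2.2.1
    V_mem := F.exists_WV.choose_spec.choose_spec.2.2.2.1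
    pr_WV := F.exists_WV.choose_spec.choose_spec.2.2.2.2.1
    span₁ := F.exists_WV.choose_spec.choose_spec.2.2.2.2.2.1
    span₂ := F.exists_WV.choose_spec.choose_spec.2.2.2.2.2.2 }

namespace Duo

variable {C : Type u} [Group C] [Finite C] (P : Duo C)

theorem W_zero : P.W 0 = 1 := by
  have h := P.W_add 0 0
  rw [add_zero] at h
  exact mul_eq_left.1 h.symm

theorem V_zero : P.V 0 = 1 := by
  have h := P.V_add 0 0
  rw [add_zero] at h
  exact mul_eq_left.1 h.symm

theorem W_inj {r r' : F3} (h : P.W r = P.W r') : r = r' :=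
  dotProduct_eq _ _ fun v => by rw [← P.pr_WV, h, P.pr_WV]

theorem V_inj {v v' : F3} (h : P.V v = P.V v') : v = v' :=
  dotProduct_eq _ _ fun r => by rw [dotProduct_comm, ← P.pr_WV, h, P.pr_WV, dotProduct_comm]

theorem W_mem_Q (r : F3) : P.W r ∈ P.Q := P.le₁ (P.W_mem r)

theorem V_mem_Q (v : F3) : P.V v ∈ P.Q := P.le₂ (P.V_mem v)

theorem WV (r v : F3) : P.W r * P.V v = P.V v * P.W r * P.zp (r ⬝ᵥ v) := by
  rw [← P.pr_WV]
  exact P.pr_eq (P.W_mem_Q r) (P.V_mem_Q v)

theorem VW (r v : F3) : P.V v * P.W r = P.W r * P.V v * P.zp (r ⬝ᵥ v) := by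
  rw [P.WV, mul_assoc, ← P.zp_add, (by decide : ∀ t : ZMod 2, t + t = 0), P.zp_zero, mul_one]

theorem W_ne {r : F3} (hr : r ≠ 0) : P.W r ≠ 1 ∧ P.W r ≠ P.z := by
  refine ⟨fun h => hr (P.W_inj (h.trans P.W_zero.symm)), fun h => hr (dotProduct_eq _ _ fun v => ?_)⟩
  rw [zero_dotProduct, ← P.pr_WV, h]
  exact P.pr_unique (by rw [P.zp_zero, mul_one, P.z_comm])

theorem W_mul_zp_eq {r r' : F3} {a b : ZMod 2} (h : P.W r * P.zp a = P.W r' * P.zp b) :
    r = r' ∧ a = b := by
  have hr : r = r' := dotProduct_eq _ _ fun v => by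
    rw [← P.pr_WV, ← P.pr_WV]
    have hz : ∀ c, Cross.pr (P.zp c) (P.V v) = 0 := fun c =>
      P.pr_unique (by rw [P.zp_zero, mul_one, P.zp_comm])
    calc Cross.pr (P.W r) (P.V v) = Cross.pr (P.W r * P.zp a) (P.V v) := by
          rw [P.pr_left (P.W_mem_Q r) (P.le₁ (P.zp_mem₁ a)) (P.V_mem_Q v), hz, add_zero]
      _ = Cross.pr (P.W r') (P.V v) := by
          rw [h, P.pr_left (P.W_mem_Q r') (P.le₁ (P.zp_mem₁ b)) (P.V_mem_Q v), hz, add_zero]
  subst hr
  exact ⟨rfl, P.zp_inj (mul_left_cancel h)⟩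

theorem V_mul_zp_eq {r r' : F3} {a b : ZMod 2} (h : P.V r * P.zp a = P.V r' * P.zp b) :
    r = r' ∧ a = b := by
  have hr : r = r' := dotProduct_eq _ _ fun v => by
    rw [dotProduct_comm, ← P.pr_WV, dotProduct_comm r', ← P.pr_WV]
    have hz : ∀ c, Cross.pr (P.W v) (P.zp c) = 0 := fun c =>
      P.pr_unique (by rw [P.zp_zero, mul_one, P.zp_comm])
    calc Cross.pr (P.W v) (P.V r) = Cross.pr (P.W v) (P.V r * P.zp a) := by
          rw [P.pr_right (P.W_mem_Q v) (P.V_mem_Q r) (P.le₂ (P.zp_mem₂ a)), hz, add_zero]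
      _ = Cross.pr (P.W v) (P.V r') := by
          rw [h, P.pr_right (P.W_mem_Q v) (P.V_mem_Q r') (P.le₂ (P.zp_mem₂ b)), hz, add_zero]
  subst hr
  exact ⟨rfl, P.zp_inj (mul_left_cancel h)⟩

theorem Q_form {q : C} (hq : q ∈ P.Q) : ∃ r v c, q = P.W r * P.V v * P.zp c := by
  let f : (F3 × F3 × ZMod 2) → P.Q := fun p =>
    ⟨P.W p.1 * P.V p.2.1 * P.zp p.2.2,
      mul_mem (mul_mem (P.W_mem_Q _) (P.V_mem_Q _)) (P.le₁ (P.zp_mem₁ _))⟩
  have hinj : Function.Injective f := by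
    rintro ⟨r, v, a⟩ ⟨r', v', b⟩ he
    have he' : P.W r * P.V v * P.zp a = P.W r' * P.V v' * P.zp b := congrArg Subtype.val he
    have h1 : P.W (r + r') = P.V (v' + v) * P.zp (b + a) := by
      have hW : P.W r' * P.W r' = 1 := P.sq₁ _ (P.W_mem r')
      calc P.W (r + r') = P.W r' * (P.W r * P.V v * P.zp a) * (P.V v * P.zp a)⁻¹ := by
            rw [P.W_add, P.comm₁ (P.W_mem r) (P.W_mem r')]; group
        _ = (P.W r' * P.W r') * (P.V v' * P.zp b * (P.V v * P.zp a)⁻¹) := by rw [he']; group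
        _ = P.V v' * P.zp b * (P.V v * P.zp a) := by
            rw [hW, one_mul, inv_eq_of_mul_eq_one_right (P.sq₂ _ (mul_mem (P.V_mem v) (P.zp_mem₂ a)))]
        _ = P.V (v' + v) * P.zp (b + a) := by
            rw [(show Commute (P.zp b) (P.V v) from P.zp_comm b (P.V v)).mul_mul_mul_comm, ← P.V_add,
              ← P.zp_add]
    have hd : ∀ s t : ZMod 2, s + t = 0 → s = t := by decide
    rcases P.inter _ (P.W_mem (r + r')) (h1 ▸ mul_mem (P.V_mem _) (P.zp_mem₂ _)) with h | h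
    · have hr : r + r' = 0 := P.W_inj (h.trans P.W_zero.symm)
      obtain ⟨hv, ha⟩ := P.V_mul_zp_eq (a := b + a) (b := 0) (r' := 0)
        (by rw [← h1, h, P.V_zero, P.zp_zero, one_mul])
      rw [show r = r' from funext fun i => hd _ _ (congrFun hr i),
        show v = v' from funext fun i => (hd _ _ (congrFun hv i)).symm, (hd _ _ ha).symm]
    · by_cases hr : r + r' = 0
      · rw [hr, P.W_zero] at h
        exact absurd h.symm P.z_ne
      · exact absurd h (P.W_ne hr).2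
  have hc : Nat.card (F3 × F3 × ZMod 2) = Nat.card P.Q := by
    rw [P.card, Nat.card_eq_fintype_card]; rfl
  obtain ⟨⟨r, v, c⟩, h⟩ := (hinj.bijective_of_nat_card_le hc.ge).2 ⟨q, hq⟩
  exact ⟨r, v, c, (congrArg Subtype.val h).symm⟩

theorem sq_form (r v : F3) (c : ZMod 2) :
    P.W r * P.V v * P.zp c * (P.W r * P.V v * P.zp c) = P.zp (r ⬝ᵥ v) := by
  have hc : P.zp c * P.zp c = 1 := by
    rw [← P.zp_add, (by decide : ∀ t : ZMod 2, t + t = 0), P.zp_zero]
  rw [(show Commute (P.zp c) (P.W r * P.V v) from P.zp_comm c _).mul_mul_mul_comm, hc, mul_one,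
    mul_assoc, ← mul_assoc (P.V v), P.VW]
  calc P.W r * (P.W r * P.V v * P.zp (r ⬝ᵥ v) * P.V v)
      = P.W r * P.W r * (P.V v * (P.zp (r ⬝ᵥ v) * P.V v)) := by group
    _ = P.zp (r ⬝ᵥ v) := by
        rw [P.sq₁ _ (P.W_mem r), one_mul, P.zp_comm, ← mul_assoc, P.sq₂ _ (P.V_mem v), one_mul]

theorem form_inj {r v r' v' : F3} {c c' : ZMod 2}
    (h : P.W r * P.V v * P.zp c = P.W r' * P.V v' * P.zp c') : r = r' ∧ v = v' ∧ c = c' := by
  let f : (F3 × F3 × ZMod 2) → P.Q := fun p =>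
    ⟨P.W p.1 * P.V p.2.1 * P.zp p.2.2,
      mul_mem (mul_mem (P.W_mem_Q _) (P.V_mem_Q _)) (P.le₁ (P.zp_mem₁ _))⟩
  have hsurj : Function.Surjective f := fun q => by
    obtain ⟨r, v, c, e⟩ := P.Q_form q.2
    exact ⟨(r, v, c), Subtype.ext e.symm⟩
  have hc : Nat.card (F3 × F3 × ZMod 2) = Nat.card P.Q := by
    rw [P.card, Nat.card_eq_fintype_card]; rfl
  have := (hsurj.bijective_of_nat_card_le hc.le).1 (a₁ := (r, v, c)) (a₂ := (r', v', c')) (Subtype.ext h)
  exact ⟨congrArg Prod.fst this, congrArg (fun p => p.2.1) this, congrArg (fun p => p.2.2) this⟩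

end Duo

namespace Pair

variable {C : Type u} [Group C] [Finite C] (P : Pair C)

/-- The range of `W`. -/
def W1 : Subgroup C where
  carrier := Set.range P.W
  one_mem' := ⟨0, P.W_zero⟩
  mul_mem' := by
    rintro _ _ ⟨r, rfl⟩ ⟨s, rfl⟩
    exact ⟨r + s, P.W_add r s⟩
  inv_mem' := by
    rintro _ ⟨r, rfl⟩
    exact ⟨r, (inv_eq_of_mul_eq_one_right (P.sq₁ _ (P.W_mem r))).symm⟩

/-- The range of `V`. -/
def W2 : Subgroup C where
  carrier := Set.range P.V
  one_mem' := ⟨0, P.V_zero⟩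
  mul_mem' := by
    rintro _ _ ⟨r, rfl⟩ ⟨s, rfl⟩
    exact ⟨r + s, P.V_add r s⟩
  inv_mem' := by
    rintro _ ⟨r, rfl⟩
    exact ⟨r, (inv_eq_of_mul_eq_one_right (P.sq₂ _ (P.V_mem r))).symm⟩

/-- The common normaliser of the two complements. -/
def H : Subgroup C := Subgroup.normalizer (P.W1 : Set C) ⊓ Subgroup.normalizer (P.W2 : Set C)

theorem mem_normalizer_iff_range {U : Subgroup C} {c : C} :
    c ∈ Subgroup.normalizer (U : Set C) ↔ ∀ x ∈ U, c * x * c⁻¹ ∈ U := by
  refine ⟨fun h x hx => (Subgroup.mem_normalizer_iff.1 h x).1 hx, fun h => ?_⟩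
  refine Subgroup.mem_normalizer_iff_map_conj_eq.2 (Subgroup.eq_of_le_of_card_ge ?_
    (Subgroup.card_map_of_injective (MulEquiv.injective _)).ge)
  rintro _ ⟨x, hx, rfl⟩
  exact h x hx

theorem mem_H {c : C} : c ∈ P.H ↔
    (∀ r, ∃ r', c * P.W r * c⁻¹ = P.W r') ∧ ∀ v, ∃ v', c * P.V v * c⁻¹ = P.V v' := by
  simp only [H, Subgroup.mem_inf, mem_normalizer_iff_range]
  constructor
  · rintro ⟨h1, h2⟩
    exact ⟨fun r => (h1 _ ⟨r, rfl⟩).imp fun _ h => h.symm, fun v => (h2 _ ⟨v, rfl⟩).imp fun _ h => h.symm⟩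
  · rintro ⟨h1, h2⟩
    refine ⟨?_, ?_⟩
    · rintro _ ⟨r, rfl⟩
      exact (h1 r).imp fun _ h => h.symm
    · rintro _ ⟨r, rfl⟩
      exact (h2 r).imp fun _ h => h.symm

theorem z_mem_H : P.z ∈ P.H :=
  P.mem_H.2 ⟨fun r => ⟨r, by rw [P.z_comm, mul_inv_cancel_right]⟩,
    fun r => ⟨r, by rw [P.z_comm, mul_inv_cancel_right]⟩⟩

theorem zp_mem_H (a : ZMod 2) : P.zp a ∈ P.H := pw_mem _ P.z_mem_H a

theorem H_inf_Q {q : C} (hH : q ∈ P.H) (hq : q ∈ P.Q) : q = 1 ∨ q = P.z := by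
  obtain ⟨r, v, c, rfl⟩ := P.Q_form hq
  have h1 : v = 0 := dotProduct_eq _ _ fun r0 => by
    rw [zero_dotProduct]
    obtain ⟨r', hr'⟩ := (P.mem_H.1 hH).1 r0
    have e : P.W r * P.V v * P.zp c * P.W r0 * (P.W r * P.V v * P.zp c)⁻¹ =
        P.W r0 * P.zp (r0 ⬝ᵥ v) := by
      rw [mul_inv_eq_iff_eq_mul]
      calc P.W r * P.V v * P.zp c * P.W r0 = P.W r * (P.V v * P.W r0) * P.zp c := by
            rw [mul_assoc _ (P.zp c), P.zp_comm]; group
        _ = P.W r0 * P.zp (r0 ⬝ᵥ v) * (P.W r * P.V v * P.zp c) := by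
            rw [P.VW, mul_assoc (P.W r0) (P.zp _), P.zp_comm]
            simp only [← mul_assoc]
            rw [P.comm₁ (P.W_mem r) (P.W_mem r0), mul_assoc _ (P.zp c), mul_assoc _ (P.zp (r0 ⬝ᵥ v)),
              P.zp_comm c]
    rw [hr'] at e
    have := (P.W_mul_zp_eq (a := 0) (b := r0 ⬝ᵥ v) (r := r') (r' := r0)
      (by rw [P.zp_zero, mul_one, e])).2
    rw [dotProduct_comm]
    exact this.symm
  subst h1
  have h2 : r = 0 := dotProduct_eq _ _ fun v0 => by
    rw [zero_dotProduct]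
    obtain ⟨v', hv'⟩ := (P.mem_H.1 hH).2 v0
    have e : P.W r * P.V 0 * P.zp c * P.V v0 * (P.W r * P.V 0 * P.zp c)⁻¹ =
        P.V v0 * P.zp (r ⬝ᵥ v0) := by
      rw [mul_inv_eq_iff_eq_mul, P.V_zero, mul_one, mul_assoc _ (P.zp c), P.zp_comm, ← mul_assoc, P.WV,
        mul_assoc (P.V v0) (P.zp _) (P.W r * P.zp c), P.zp_comm (r ⬝ᵥ v0)]
      simp only [mul_assoc]
      rw [P.zp_comm c]
    rw [hv'] at e
    exact ((P.V_mul_zp_eq (a := 0) (b := r ⬝ᵥ v0) (r := v') (r' := v0)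
      (by rw [P.zp_zero, mul_one, e])).2).symm
  subst h2
  rw [P.W_zero, P.V_zero, one_mul, one_mul]
  exact P.zp_eq_one_or c

theorem W_conj (c : C) (r : F3) : ∃ r' a, c * P.W r * c⁻¹ = P.W r' * P.zp a :=
  P.span₁ _ (P.normal₁.conj_mem _ (P.W_mem r) c)

theorem V_conj (c : C) (r : F3) : ∃ r' a, c * P.V r * c⁻¹ = P.V r' * P.zp a :=
  P.span₂ _ (P.normal₂.conj_mem _ (P.V_mem r) c)

theorem decomp (c : C) : ∃ r v, ∃ h ∈ P.H, c = P.W r * P.V v * h := by
  choose g χ hg using fun r => P.W_conj c r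
  have hgadd : ∀ r s, g (r + s) = g r + g s ∧ χ (r + s) = χ r + χ s := fun r s => P.W_mul_zp_eq (by
    rw [← hg, P.W_add, P.W_add, P.zp_add]
    calc c * (P.W r * P.W s) * c⁻¹ = c * P.W r * c⁻¹ * (c * P.W s * c⁻¹) := by group
      _ = P.W (g r) * P.zp (χ r) * (P.W (g s) * P.zp (χ s)) := by rw [hg, hg]
      _ = _ := (show Commute (P.zp (χ r)) (P.W (g s)) from P.zp_comm _ _).mul_mul_mul_comm _ _)
  have hginj : Function.Injective g := fun r s h => by
    have e : c * P.W r * c⁻¹ = c * P.W s * c⁻¹ * P.zp (χ r + χ s) := by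
      rw [hg, hg, h, mul_assoc, ← P.zp_add, ← add_assoc, add_comm (χ s) (χ r), add_assoc,
        (by decide : ∀ t : ZMod 2, t + t = 0), add_zero]
    have e' : P.W r * P.zp 0 = P.W s * P.zp (χ r + χ s) := by
      rw [P.zp_zero, mul_one]
      calc P.W r = c⁻¹ * (c * P.W r * c⁻¹) * c := by group
        _ = c⁻¹ * (c * P.W s * c⁻¹) * (P.zp (χ r + χ s) * c) := by rw [e]; group
        _ = c⁻¹ * (c * P.W s * c⁻¹) * (c * P.zp (χ r + χ s)) := by rw [P.zp_comm]
        _ = P.W s * P.zp (χ r + χ s) := by group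
    exact (P.W_mul_zp_eq e').1
  have hgb := hginj.bijective_of_nat_card_le le_rfl
  let e := Equiv.ofBijective g hgb
  obtain ⟨v, hv⟩ := Cross.linear (fun r' => χ (e.symm r')) fun r s => by
    rw [← (hgadd _ _).2]
    refine congrArg χ (hgb.1 ?_)
    rw [(hgadd _ _).1, Equiv.ofBijective_apply_symm_apply g hgb,
      Equiv.ofBijective_apply_symm_apply g hgb, Equiv.ofBijective_apply_symm_apply g hgb]
  set c1 := P.V v * c with hc1
  have hc1W : ∀ r, c1 * P.W r * c1⁻¹ = P.W (g r) := fun r => by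
    have hv' : g r ⬝ᵥ v = χ r := by
      rw [dotProduct_comm, ← hv]
      exact congrArg χ (Equiv.ofBijective_symm_apply_apply g hgb r)
    calc c1 * P.W r * c1⁻¹ = P.V v * (c * P.W r * c⁻¹) * (P.V v)⁻¹ := by rw [hc1]; group
      _ = P.V v * P.W (g r) * (P.zp (χ r) * (P.V v)⁻¹) := by rw [hg]; group
      _ = P.W (g r) * P.V v * P.zp (g r ⬝ᵥ v) * (P.zp (χ r) * (P.V v)⁻¹) := by rw [P.VW]
      _ = P.W (g r) * P.V v * (P.zp (g r ⬝ᵥ v) * P.zp (χ r)) * (P.V v)⁻¹ := by group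
      _ = P.W (g r) := by
          rw [← P.zp_add, hv', (by decide : ∀ t : ZMod 2, t + t = 0), P.zp_zero, mul_one,
            mul_inv_cancel_right]
  choose g2 χ2 hg2 using fun r => P.V_conj c1 r
  have hgadd2 : ∀ r s, g2 (r + s) = g2 r + g2 s ∧ χ2 (r + s) = χ2 r + χ2 s := fun r s =>
    P.V_mul_zp_eq (by
    rw [← hg2, P.V_add, P.V_add, P.zp_add]
    calc c1 * (P.V r * P.V s) * c1⁻¹ = c1 * P.V r * c1⁻¹ * (c1 * P.V s * c1⁻¹) := by group
      _ = P.V (g2 r) * P.zp (χ2 r) * (P.V (g2 s) * P.zp (χ2 s)) := by rw [hg2, hg2]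
      _ = _ := (show Commute (P.zp (χ2 r)) (P.V (g2 s)) from P.zp_comm _ _).mul_mul_mul_comm _ _)
  have hg2inj : Function.Injective g2 := fun r s h => by
    have e' : P.V r * P.zp 0 = P.V s * P.zp (χ2 r + χ2 s) := by
      rw [P.zp_zero, mul_one]
      calc P.V r = c1⁻¹ * (c1 * P.V r * c1⁻¹) * c1 := by group
        _ = c1⁻¹ * (P.V (g2 s) * P.zp (χ2 r)) * c1 := by rw [hg2, h]
        _ = c1⁻¹ * (c1 * P.V s * c1⁻¹ * P.zp (χ2 r + χ2 s)) * c1 := by
            rw [hg2, mul_assoc (P.V _), ← P.zp_add, ← add_assoc, add_comm (χ2 s) (χ2 r), add_assoc,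
              (by decide : ∀ t : ZMod 2, t + t = 0), add_zero]
        _ = c1⁻¹ * (c1 * P.V s * c1⁻¹) * (P.zp (χ2 r + χ2 s) * c1) := by group
        _ = c1⁻¹ * (c1 * P.V s * c1⁻¹) * (c1 * P.zp (χ2 r + χ2 s)) := by rw [P.zp_comm]
        _ = P.V s * P.zp (χ2 r + χ2 s) := by group
    exact (P.V_mul_zp_eq e').1
  have hg2b := hg2inj.bijective_of_nat_card_le le_rfl
  let e2 := Equiv.ofBijective g2 hg2b
  obtain ⟨r, hr⟩ := Cross.linear (fun r' => χ2 (e2.symm r')) fun r s => by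
    rw [← (hgadd2 _ _).2]
    refine congrArg χ2 (hg2b.1 ?_)
    rw [(hgadd2 _ _).1, Equiv.ofBijective_apply_symm_apply g2 hg2b,
      Equiv.ofBijective_apply_symm_apply g2 hg2b, Equiv.ofBijective_apply_symm_apply g2 hg2b]
  set c2 := P.W r * c1 with hc2
  have hc2V : ∀ u, c2 * P.V u * c2⁻¹ = P.V (g2 u) := fun u => by
    have hr' : r ⬝ᵥ g2 u = χ2 u := by
      rw [← hr]
      exact congrArg χ2 (Equiv.ofBijective_symm_apply_apply g2 hg2b u)
    calc c2 * P.V u * c2⁻¹ = P.W r * (c1 * P.V u * c1⁻¹) * (P.W r)⁻¹ := by rw [hc2]; group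
      _ = P.W r * P.V (g2 u) * (P.zp (χ2 u) * (P.W r)⁻¹) := by rw [hg2]; group
      _ = P.V (g2 u) * P.W r * P.zp (r ⬝ᵥ g2 u) * (P.zp (χ2 u) * (P.W r)⁻¹) := by rw [P.WV]
      _ = P.V (g2 u) * P.W r * (P.zp (r ⬝ᵥ g2 u) * P.zp (χ2 u)) * (P.W r)⁻¹ := by group
      _ = P.V (g2 u) := by
          rw [← P.zp_add, hr', (by decide : ∀ t : ZMod 2, t + t = 0), P.zp_zero, mul_one,
            mul_inv_cancel_right]
  have hc2W : ∀ u, c2 * P.W u * c2⁻¹ = P.W (g u) := fun u => by
    calc c2 * P.W u * c2⁻¹ = P.W r * (c1 * P.W u * c1⁻¹) * (P.W r)⁻¹ := by rw [hc2]; group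
      _ = P.W (g u) := by rw [hc1W, P.comm₁ (P.W_mem r) (P.W_mem _), mul_inv_cancel_right]
  refine ⟨r, v, P.zp (r ⬝ᵥ v) * c2,
    mul_mem (P.zp_mem_H _) (P.mem_H.2 ⟨fun u => ⟨_, hc2W u⟩, fun u => ⟨_, hc2V u⟩⟩), ?_⟩
  rw [← mul_assoc, ← P.VW, hc2, hc1]
  simp only [← mul_assoc]
  rw [mul_assoc (P.V v) (P.W r) (P.W r), P.sq₁ _ (P.W_mem r), mul_one, P.sq₂ _ (P.V_mem v), one_mul]

/-- The action of the common normaliser on the second complement. -/
noncomputable def act (h : P.H) (v : F3) : F3 := ((P.mem_H.1 h.2).2 v).choose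

theorem act_spec (h : P.H) (v : F3) : (h : C) * P.V v * (h : C)⁻¹ = P.V (P.act h v) :=
  ((P.mem_H.1 h.2).2 v).choose_spec

theorem act_add (h : P.H) (v w : F3) : P.act h (v + w) = P.act h v + P.act h w := P.V_inj (by
  rw [P.V_add (P.act h v), ← act_spec, ← act_spec, ← act_spec, P.V_add]; group)

/-- The action as a linear map. -/
noncomputable def actLin (h : P.H) : F3 →ₗ[ZMod 2] F3 where
  toFun := P.act h
  map_add' := P.act_add h
  map_smul' a v := by
    rcases bit_cases a with rfl | rfl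
    · simp only [zero_smul, RingHom.id_apply]
      exact P.V_inj (by rw [← act_spec, P.V_zero]; group)
    · simp only [one_smul, RingHom.id_apply]

/-- The matrix of the action. -/
noncomputable def mtx (h : P.H) : M3 := LinearMap.toMatrix' (P.actLin h)

theorem mtx_mulVec (h : P.H) (v : F3) : P.mtx h *ᵥ v = P.act h v := by
  rw [mtx, ← Matrix.toLin'_apply, Matrix.toLin'_toMatrix']; rfl

theorem mtx_mul (g h : P.H) : P.mtx (g * h) = P.mtx g * P.mtx h := by
  apply Matrix.toLin'.injective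
  apply LinearMap.ext
  intro v
  rw [Matrix.toLin'_apply, Matrix.toLin'_apply, ← mulVec_mulVec, mtx_mulVec, mtx_mulVec, mtx_mulVec]
  refine P.V_inj ?_
  rw [← act_spec, ← act_spec, ← act_spec, Subgroup.coe_mul]
  group

theorem mtx_one : P.mtx 1 = 1 := by
  apply Matrix.toLin'.injective
  apply LinearMap.ext
  intro v
  rw [Matrix.toLin'_apply, Matrix.toLin'_apply, mtx_mulVec, one_mulVec]
  refine P.V_inj ?_
  rw [← act_spec, Subgroup.coe_one]
  group

theorem mtx_det (h : P.H) : (P.mtx h).det = 1 := by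
  have h' : ∀ x y : ZMod 2, x * y = 1 → x = 1 := by decide
  exact h' _ _ (by rw [← det_mul, ← mtx_mul, mul_inv_cancel, mtx_one, det_one])

/-- The action homomorphism. -/
noncomputable def rho : P.H →* L3 where
  toFun h := ⟨P.mtx h, P.mtx_det h⟩
  map_one' := Subtype.ext P.mtx_one
  map_mul' g h := Subtype.ext (P.mtx_mul g h)

theorem rho_V (h : P.H) (v : F3) :
    (h : C) * P.V v = P.V ((P.rho h : M3) *ᵥ v) * (h : C) := by
  show (h : C) * P.V v = P.V (P.mtx h *ᵥ v) * (h : C)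
  rw [mtx_mulVec, ← act_spec, inv_mul_cancel_right]

theorem rho_W (h : P.H) (r : F3) :
    (h : C) * P.W (vecMul r (P.rho h : M3)) = P.W r * (h : C) := by
  obtain ⟨r', hr'⟩ := (P.mem_H.1 h.2).1 (vecMul r (P.rho h : M3))
  have hrr : r' = r := dotProduct_eq _ _ fun v => by
    have h1 : (P.rho h : M3) *ᵥ ((P.rho h⁻¹ : M3) *ᵥ v) = v := by
      show P.mtx h *ᵥ (P.mtx h⁻¹ *ᵥ v) = v
      rw [mulVec_mulVec, ← mtx_mul, mul_inv_cancel, mtx_one, one_mulVec]
    have h2 : (h : C) * P.V ((P.rho h⁻¹ : M3) *ᵥ v) * (h : C)⁻¹ = P.V v := by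
      rw [rho_V, h1, mul_inv_cancel_right]
    rw [← P.pr_WV, ← hr', ← h2, P.pr_conj _ (P.W_mem_Q _) (P.V_mem_Q _), P.pr_WV,
      ← dotProduct_mulVec, h1]
  rw [← hrr, ← hr', inv_mul_cancel_right, hrr]

theorem rho_ker {h : P.H} (hh : P.rho h = 1) : (h : C) = 1 ∨ (h : C) = P.z := by
  refine P.H_inf_Q h.2 (P.cent _ fun q hq => ?_)
  obtain ⟨r, v, c, rfl⟩ := P.Q_form hq
  have hV := P.rho_V h v
  have hW := P.rho_W h r
  rw [hh] at hV hW
  rw [show ((1 : L3) : M3) = 1 from rfl] at hV hW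
  rw [one_mulVec] at hV
  rw [vecMul_one] at hW
  calc (h : C) * (P.W r * P.V v * P.zp c) = ((h : C) * P.W r) * P.V v * P.zp c := by group
    _ = P.W r * ((h : C) * P.V v) * P.zp c := by rw [hW]; group
    _ = P.W r * P.V v * ((h : C) * P.zp c) := by rw [hV]; group
    _ = P.W r * P.V v * P.zp c * (h : C) := by rw [← P.zp_comm]; group

theorem rho_zp (a : ZMod 2) : P.rho ⟨P.zp a, P.zp_mem_H a⟩ = 1 := by
  apply Subtype.ext
  show P.mtx _ = 1
  apply Matrix.toLin'.injective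
  apply LinearMap.ext
  intro v
  rw [Matrix.toLin'_apply, Matrix.toLin'_apply, mtx_mulVec, one_mulVec]
  refine P.V_inj ?_
  rw [← act_spec]
  show P.zp a * P.V v * (P.zp a)⁻¹ = _
  rw [P.zp_comm, mul_inv_cancel_right]

theorem phi_surj : Function.Surjective (P.φ.comp P.H.subtype) := fun x => by
  obtain ⟨c, rfl⟩ := P.surj x
  obtain ⟨r, v, h, hh, rfl⟩ := P.decomp c
  refine ⟨⟨h, hh⟩, ?_⟩
  have hW : P.φ (P.W r * P.V v) = 1 := by
    rw [← MonoidHom.mem_ker, P.ker]
    exact mul_mem (P.W_mem_Q r) (P.V_mem_Q v)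
  rw [map_mul, hW, one_mul]
  rfl

theorem phi_ker {h : P.H} : P.φ (h : C) = 1 ↔ (h : C) = 1 ∨ (h : C) = P.z := by
  rw [← MonoidHom.mem_ker, P.ker]
  refine ⟨P.H_inf_Q h.2, fun e => ?_⟩
  rcases e with e | e <;> rw [e]
  · exact one_mem _
  · exact P.le₁ P.z_mem₁

theorem rho_ker_eq : P.rho.ker = (P.φ.comp P.H.subtype).ker := by
  ext h
  rw [MonoidHom.mem_ker, MonoidHom.mem_ker]
  show P.rho h = 1 ↔ P.φ (h : C) = 1
  rw [P.phi_ker]
  refine ⟨P.rho_ker, fun e => ?_⟩
  obtain ⟨a, ha⟩ := P.zp_cases e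
  rw [show h = ⟨P.zp a, P.zp_mem_H a⟩ from Subtype.ext ha]
  exact P.rho_zp a

theorem rho_surj : Function.Surjective P.rho := by
  rw [← MonoidHom.range_eq_top]
  refine Subgroup.eq_top_of_card_eq _ ?_
  rw [← Subgroup.index_ker, P.rho_ker_eq, Subgroup.index_ker, MonoidHom.range_eq_top.2 P.phi_surj,
    Subgroup.card_top]

theorem step {h : P.H} (r v r' v' : F3) (c : ZMod 2) (g : C) :
    P.W r * P.V v * (h : C) * (P.W r' * P.V v' * P.zp c * g) =
      P.W (r + vecMul r' (P.rho h⁻¹ : M3)) * P.V (v + (P.rho h : M3) *ᵥ v') *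
        P.zp (c + vecMul r' (P.rho h⁻¹ : M3) ⬝ᵥ v) * ((h : C) * g) := by
  set r'' := vecMul r' (P.rho h⁻¹ : M3) with hr
  set v'' := (P.rho h : M3) *ᵥ v' with hv
  have hW : (h : C) * P.W r' = P.W r'' * (h : C) := by
    have e := P.rho_W h r''
    rwa [hr, vecMul_vecMul, show (P.rho h⁻¹ : M3) * (P.rho h : M3) = 1 from by
      show P.mtx h⁻¹ * P.mtx h = 1
      rw [← mtx_mul, inv_mul_cancel, mtx_one], vecMul_one] at e
  calc P.W r * P.V v * (h : C) * (P.W r' * P.V v' * P.zp c * g)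
      = P.W r * P.V v * ((h : C) * P.W r') * P.V v' * P.zp c * g := by group
    _ = P.W r * (P.V v * P.W r'') * ((h : C) * P.V v') * P.zp c * g := by rw [hW]; group
    _ = P.W r * P.W r'' * P.V v * (P.zp (r'' ⬝ᵥ v) * P.V v'') * ((h : C) * P.zp c) * g := by
        rw [P.VW, P.rho_V, ← hv]; group
    _ = P.W r * P.W r'' * P.V v * (P.V v'' * P.zp (r'' ⬝ᵥ v)) * (P.zp c * (h : C)) * g := by
        rw [P.zp_comm, P.zp_comm c]
    _ = (P.W r * P.W r'') * (P.V v * P.V v'') * (P.zp (r'' ⬝ᵥ v) * P.zp c) * ((h : C) * g) := by group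
    _ = _ := by rw [← P.W_add, ← P.V_add, ← P.zp_add, add_comm (r'' ⬝ᵥ v)]

theorem fourth {y : C} (hy : y ^ 8 = 1) : y ^ 4 = 1 ∨ y ^ 4 = P.z := by
  obtain ⟨r, v, h, hh, rfl⟩ := P.decomp y
  set k : P.H := ⟨h, hh⟩ with hk
  have hφy : P.φ (P.W r * P.V v * h) = P.φ h := by
    have hW : P.φ (P.W r * P.V v) = 1 := by
      rw [← MonoidHom.mem_ker, P.ker]
      exact mul_mem (P.W_mem_Q r) (P.V_mem_Q v)
    rw [map_mul, hW, one_mul]
  have hφ8 : ((P.φ h : L3) : M3) ^ 8 = 1 := by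
    rw [← Matrix.SpecialLinearGroup.coe_pow, ← hφy, ← map_pow, hy, map_one]
    rfl
  have hφ4 : P.φ h ^ 4 = 1 := Subtype.ext (by
    rw [Matrix.SpecialLinearGroup.coe_pow, eight_four _ hφ8]
    rfl)
  have h4 : h ^ 4 = 1 ∨ h ^ 4 = P.z := by
    refine P.H_inf_Q (pow_mem hh 4) ?_
    rw [← P.ker, MonoidHom.mem_ker, map_pow, hφ4]
  have hr4 : P.rho (k ^ 4) = 1 := by
    obtain ⟨a, ha⟩ := P.zp_cases h4
    rw [show k ^ 4 = ⟨P.zp a, P.zp_mem_H a⟩ from Subtype.ext (by rw [SubgroupClass.coe_pow]; exact ha)]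
    exact P.rho_zp a
  have hA : (P.rho k : M3) ^ 4 = 1 := by
    rw [← Matrix.SpecialLinearGroup.coe_pow, ← map_pow, hr4]; rfl
  have hB : (P.rho k⁻¹ : M3) ^ 4 = 1 := by
    rw [← Matrix.SpecialLinearGroup.coe_pow, ← map_pow, inv_pow, map_inv, hr4, inv_one]; rfl
  set A := (P.rho k : M3)
  set B := (P.rho k⁻¹ : M3)
  have e1 : P.W r * P.V v * h = P.W r * P.V v * P.zp 0 * (k : C) := by rw [P.zp_zero, mul_one]
  have e2 := P.step (h := k) r v r v 0 (k : C)
  rw [← e1] at e2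
  have e3 := P.step (h := k) r v (r + vecMul r B) (v + A *ᵥ v) (0 + vecMul r B ⬝ᵥ v) ((k : C) * k)
  rw [← e2] at e3
  have e4 := P.step (h := k) r v (r + vecMul (r + vecMul r B) B) (v + A *ᵥ (v + A *ᵥ v))
    (0 + vecMul r B ⬝ᵥ v + vecMul (r + vecMul r B) B ⬝ᵥ v) ((k : C) * ((k : C) * k))
  rw [← e3] at e4
  set c4 := 0 + vecMul r B ⬝ᵥ v + vecMul (r + vecMul r B) B ⬝ᵥ v +
    vecMul (r + vecMul (r + vecMul r B) B) B ⬝ᵥ v
  have hr0 : r + vecMul (r + vecMul (r + vecMul r B) B) B = 0 := by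
    have h0 := congrArg (vecMul r) (norm_four B hB)
    rw [vecMul_zero] at h0
    rw [← h0]
    simp only [vecMul_add, add_vecMul, vecMul_one, vecMul_vecMul, Matrix.mul_assoc]
    abel
  have hv0 : v + A *ᵥ (v + A *ᵥ (v + A *ᵥ v)) = 0 := by
    have h0 := congrArg (fun m : M3 => m *ᵥ v) (norm_four A hA)
    simp only [zero_mulVec] at h0
    rw [← h0]
    simp only [mulVec_add, add_mulVec, one_mulVec, mulVec_mulVec, Matrix.mul_assoc]
    abel
  rw [hr0, hv0, P.W_zero, P.V_zero, one_mul, one_mul] at e4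
  have e : (P.W r * P.V v * h) ^ 4 = P.zp c4 * h ^ 4 := by
    rw [pow_succ, pow_succ, pow_succ, pow_one]
    simp only [mul_assoc] at e4 ⊢
    rw [e4]
    simp [pow_succ, mul_assoc, hk]
  obtain ⟨b, hb⟩ := P.zp_cases h4
  rw [e, hb, ← P.zp_add]
  exact P.zp_eq_one_or _

theorem coords_of_split (K : L3 →* P.H) (hK : ∀ A, P.rho (K A) = A) :
    ∃ R : Rels C, Function.Bijective R.T := by
  refine ⟨{ W := P.W
            V := P.V
            Z := P.zp
            K := P.H.subtype.comp K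
            W_add := P.W_add
            V_add := P.V_add
            Z_add := P.zp_add
            Z_comm := P.zp_comm
            WV := P.WV
            KW := fun A r => by
              have h := P.rho_W (K A) r
              rwa [hK] at h
            KV := fun A v => by
              have h := P.rho_V (K A) v
              rwa [hK] at h }, ?_, ?_⟩
  · rintro ⟨r, v, c, A⟩ ⟨r', v', c', A'⟩ h
    have h' : P.W r * P.V v * P.zp c * (K A : C) = P.W r' * P.V v' * P.zp c' * (K A' : C) := h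
    have hQ : ∀ r v c, P.φ (P.W r * P.V v * P.zp c) = 1 := fun r v c => by
      rw [← MonoidHom.mem_ker, P.ker]
      exact mul_mem (mul_mem (P.W_mem_Q r) (P.V_mem_Q v)) (P.le₁ (P.zp_mem₁ c))
    have hA : A = A' := by
      have e := congrArg P.φ h'
      rw [map_mul, map_mul P.φ _ (K A' : C), hQ, hQ, one_mul, one_mul] at e
      have e1 : P.φ ((K A : C)⁻¹ * K A') = 1 := by rw [map_mul, map_inv, e, inv_mul_cancel]
      have hm : (K A)⁻¹ * K A' ∈ P.rho.ker := by
        rw [P.rho_ker_eq, MonoidHom.mem_ker]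
        exact e1
      rw [MonoidHom.mem_ker, map_mul, map_inv, hK, hK, inv_mul_eq_one] at hm
      exact hm
    subst hA
    have e := mul_right_cancel h'
    have hr : r = r' := dotProduct_eq _ _ fun u => by
      have hz : ∀ c, Cross.pr (P.zp c) (P.V u) = 0 := fun c =>
        P.pr_unique (by rw [P.zp_zero, mul_one, P.zp_comm])
      have hVV : ∀ w, Cross.pr (P.V w) (P.V u) = 0 := fun w =>
        P.pr_unique (by rw [P.zp_zero, mul_one, P.comm₂ (P.V_mem w) (P.V_mem u)])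
      have := congrArg (fun x => Cross.pr x (P.V u)) e
      simp only [P.pr_left (mul_mem (P.W_mem_Q _) (P.V_mem_Q _)) (P.le₁ (P.zp_mem₁ _)) (P.V_mem_Q u),
        P.pr_left (P.W_mem_Q _) (P.V_mem_Q _) (P.V_mem_Q u), hz, hVV, add_zero, P.pr_WV] at this
      exact this
    subst hr
    rw [mul_assoc, mul_assoc] at e
    obtain ⟨hv, hc⟩ := P.V_mul_zp_eq (mul_left_cancel e)
    rw [hv, hc]
  · intro c
    obtain ⟨r, v, h, hh, rfl⟩ := P.decomp c
    set A := P.rho ⟨h, hh⟩ with hA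
    obtain ⟨a, ha⟩ := P.zp_cases (P.rho_ker (h := ⟨h, hh⟩ * (K A)⁻¹) (by
      rw [map_mul, map_inv, hK, ← hA, mul_inv_cancel]))
    refine ⟨(r, v, a, A), ?_⟩
    show P.W r * P.V v * P.zp a * (K A : C) = _
    rw [mul_assoc _ (P.zp a), ← ha]
    simp [mul_assoc]

theorem twisted_or_split : (∃ R : Rels C, Function.Bijective R.T) ∨
    ∀ a : P.H, P.rho a = fourEl → (a : C) ^ 4 = P.z := by
  set D := commutator P.H
  have htop : D.map P.rho = ⊤ := by
    rw [map_commutator_eq, MonoidHom.range_eq_top.2 P.rho_surj, ← commutator_def, commutator_l3]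
  by_cases hz : (⟨P.z, P.z_mem_H⟩ : P.H) ∈ D
  swap
  · left
    let f : D →* L3 := P.rho.comp D.subtype
    have hinj : Function.Injective f := (injective_iff_map_eq_one f).2 fun d hd => by
      rcases P.rho_ker (h := (d : P.H)) hd with e | e
      · exact Subtype.ext (Subtype.ext e)
      · exact absurd ((Subtype.ext e : (d : P.H) = ⟨P.z, P.z_mem_H⟩) ▸ d.2) hz
    have hsurj : Function.Surjective f := fun x => by
      obtain ⟨d, hd, rfl⟩ := htop.ge (Subgroup.mem_top x)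
      exact ⟨⟨d, hd⟩, rfl⟩
    let e := MulEquiv.ofBijective f ⟨hinj, hsurj⟩
    exact P.coords_of_split (D.subtype.comp e.symm.toMonoidHom) fun A => e.apply_symm_apply A
  · right
    intro a ha
    obtain ⟨t, ht⟩ := P.rho_surj twoEl
    obtain ⟨hf4, hf2, ht2, htft⟩ := fourEl_pow
    have hzc : ∀ x : P.H, (⟨P.z, P.z_mem_H⟩ : P.H) * x = x * ⟨P.z, P.z_mem_H⟩ := fun x =>
      Subtype.ext (P.z_comm x)
    have hz1 : (⟨P.z, P.z_mem_H⟩ : P.H) ≠ 1 := fun e => P.z_ne (congrArg Subtype.val e)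
    have hker : ∀ x : P.H, P.rho x = 1 → x = 1 ∨ x = ⟨P.z, P.z_mem_H⟩ := fun x hx =>
      (P.rho_ker hx).imp Subtype.ext Subtype.ext
    set zH : P.H := ⟨P.z, P.z_mem_H⟩
    have ha4 : a ^ 4 = zH := by
      refine (hker (a ^ 4) (by rw [map_pow, ha, hf4])).resolve_left fun h4 => ?_
      -- otherwise the transfer into the preimage of the triangular subgroup separates `z`
      set S := Subgroup.comap P.rho triang
      have haS : a ∈ S := by show P.rho a ∈ triang; rw [ha]; exact fourEl_mem.1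
      have htS : t ∈ S := by show P.rho t ∈ triang; rw [ht]; exact fourEl_mem.2
      have hzS : zH ∈ S := by
        show P.rho zH ∈ triang
        have : P.rho zH = 1 := by
          rw [show zH = ⟨P.zp 1, P.zp_mem_H 1⟩ from Subtype.ext P.zp_one.symm]
          exact P.rho_zp 1
        rw [this]; exact one_mem _
      set k : P.H := t * a * t⁻¹ * a⁻¹ with hkdef
      have hkρ : P.rho k = fourEl⁻¹ * fourEl⁻¹ := by
        rw [hkdef, map_mul, map_mul, map_mul, map_inv, map_inv, ha, ht, htft]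
      -- `k` is `a ^ 2` up to the centre
      obtain ⟨u, hu, hku⟩ : ∃ u : P.H, (u = 1 ∨ u = zH) ∧ k = a ^ 2 * u := by
        refine ⟨(a ^ 2)⁻¹ * k, hker _ ?_, by group⟩
        rw [map_mul, map_inv, map_pow, ha, hkρ, ← _root_.mul_inv_rev, ← _root_.mul_inv_rev, inv_eq_one,
          ← pow_two, ← pow_add]
        exact hf4
      have hu1 : ∀ x : P.H, u * x = x * u := fun x => by
        rcases hu with rfl | rfl
        · rw [one_mul, mul_one]
        · exact hzc x
      have hu2 : u * u = 1 := by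
        rcases hu with rfl | rfl
        · rw [one_mul]
        · exact Subtype.ext P.z_sq
      have hk2 : k * k = 1 := by
        rw [hku, mul_assoc, ← mul_assoc u, hu1, mul_assoc, hu2, mul_one, ← pow_add, h4]
      have hk1 : k ≠ 1 := fun e => hf2 (by
        rw [e, map_one] at hkρ
        rw [pow_two, ← inv_eq_one, _root_.mul_inv_rev, ← hkρ])
      have hkz : k ≠ zH := fun e => hf2 (by
        have hzρ : P.rho zH = 1 := by
          rw [show zH = ⟨P.zp 1, P.zp_mem_H 1⟩ from Subtype.ext P.zp_one.symm]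
          exact P.rho_zp 1
        rw [e, hzρ] at hkρ
        rw [pow_two, ← inv_eq_one, _root_.mul_inv_rev, ← hkρ])
      have hka : k * a = a * k := by
        rw [hku, mul_assoc, hu1, ← mul_assoc, ← mul_assoc, ← pow_succ, ← pow_succ']
      have hkt : k * t = t * k := by
        have htat : t * a * t⁻¹ = k * a := by rw [hkdef]; group
        have h2' : t * a ^ 2 * t⁻¹ = a ^ 2 := by
          rw [← conj_pow, htat, (show Commute k a from hka).mul_pow, pow_two k, hk2, one_mul]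
        rw [hku]
        calc a ^ 2 * u * t = a ^ 2 * (u * t) := mul_assoc _ _ _
          _ = (t * a ^ 2 * t⁻¹) * (t * u) := by rw [h2', hu1]
          _ = t * (a ^ 2 * u) := by group
      -- the preimage of the triangular subgroup
      have hgen : ∀ x ∈ S, ∃ i j : ℕ, ∃ w, (w = 1 ∨ w = zH) ∧ x = a ^ i * t ^ j * w := by
        intro x hx
        obtain ⟨i, j, hij⟩ := triang_mem (show P.rho x ∈ triang from hx)
        refine ⟨i, j, (a ^ i * t ^ j)⁻¹ * x, hker _ ?_, by group⟩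
        rw [map_mul, map_inv, map_mul, map_pow, map_pow, ha, ht, hij, inv_mul_cancel]
      have hSc : ∀ x ∈ S, k * x = x * k := by
        intro x hx
        obtain ⟨i, j, w, hw, rfl⟩ := hgen x hx
        have hc : Commute k (a ^ i * t ^ j * w) := by
          refine ((Commute.pow_right hka i).mul_right (Commute.pow_right hkt j)).mul_right ?_
          rcases hw with rfl | rfl
          · exact Commute.one_right k
          · exact (hzc k).symm
        exact hc
      have hkS : k ∈ S := mul_mem (mul_mem (mul_mem htS haS) (inv_mem htS)) (inv_mem haS)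
      set N : Subgroup S := Subgroup.zpowers ⟨k, hkS⟩
      have : N.Normal := ⟨fun n hn x => by
        obtain ⟨i, rfl⟩ := Subgroup.mem_zpowers_iff.1 hn
        refine Subgroup.mem_zpowers_iff.2 ⟨i, ?_⟩
        have hc : Commute (⟨k, hkS⟩ : S) x := Subtype.ext (hSc x x.2)
        rw [← (hc.zpow_left i).eq, mul_inv_cancel_right]⟩
      have hgc : (QuotientGroup.mk (s := N) ⟨t, htS⟩) * QuotientGroup.mk ⟨a, haS⟩ =
          QuotientGroup.mk ⟨a, haS⟩ * QuotientGroup.mk ⟨t, htS⟩ := by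
        rw [← QuotientGroup.mk_mul, ← QuotientGroup.mk_mul, QuotientGroup.eq]
        refine Subgroup.mem_zpowers_iff.2 ⟨1, ?_⟩
        rw [zpow_one]
        apply Subtype.ext
        show k = (t * a)⁻¹ * (a * t)
        have e : k * (t * a) = a * t := by
          rw [hkdef]
          calc t * a * t⁻¹ * a⁻¹ * (t * a) = (t * a * t⁻¹ * a⁻¹) * t * a := by group
            _ = t * (t * a * t⁻¹ * a⁻¹) * a := by rw [← hkdef, hkt]
            _ = (t * t) * (a * t⁻¹) := by group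
            _ = a * t := by
              rcases hker (t * t) (by rw [map_mul, ht, ht2]) with e | e
              · rw [e, one_mul, inv_eq_of_mul_eq_one_right e]
              · rw [e, hzc, mul_assoc]
                refine congrArg (a * ·) ?_
                rw [inv_mul_eq_iff_eq_mul, e]
        calc k = (t * a)⁻¹ * (k * (t * a)) := by
              rw [(show Commute k (t * a) from hSc _ (mul_mem htS haS)).eq, inv_mul_cancel_left]
          _ = _ := by rw [e]
      have hgc' : Commute (QuotientGroup.mk (s := N) ⟨a, haS⟩) (QuotientGroup.mk ⟨t, htS⟩) := hgc.symm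
      have hform : ∀ x : S, ∃ i j : ℕ, ∃ w : S, ((w : P.H) = 1 ∨ (w : P.H) = zH) ∧
          x = (⟨a, haS⟩ : S) ^ i * (⟨t, htS⟩ : S) ^ j * w := fun x => by
        obtain ⟨i, j, w, hw, e⟩ := hgen x x.2
        have hwS : w ∈ S := by
          rcases hw with rfl | rfl
          · exact one_mem _
          · exact hzS
        exact ⟨i, j, ⟨w, hwS⟩, hw, Subtype.ext e⟩
      have hwc : ∀ w : S, ((w : P.H) = 1 ∨ (w : P.H) = zH) → ∀ y : S,
          Commute (QuotientGroup.mk (s := N) w) (QuotientGroup.mk y) := fun w hw y => by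
        show _ = _
        rw [← QuotientGroup.mk_mul, ← QuotientGroup.mk_mul]
        refine congrArg _ (Subtype.ext ?_)
        show (w : P.H) * y = y * w
        rcases hw with e | e <;> rw [e]
        · rw [one_mul, mul_one]
        · exact hzc y
      have hcomm : ∀ x y : S ⧸ N, x * y = y * x := by
        intro x y
        obtain ⟨x, rfl⟩ := QuotientGroup.mk_surjective x
        obtain ⟨y, rfl⟩ := QuotientGroup.mk_surjective y
        obtain ⟨i, j, w, hw, rfl⟩ := hform x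
        have hay : Commute (QuotientGroup.mk (s := N) ⟨a, haS⟩) (QuotientGroup.mk y) := by
          obtain ⟨i', j', w', hw', rfl⟩ := hform y
          rw [QuotientGroup.mk_mul, QuotientGroup.mk_mul, QuotientGroup.mk_pow, QuotientGroup.mk_pow]
          exact (((Commute.refl _).pow_right _).mul_right (hgc'.pow_right _)).mul_right
            (hwc w' hw' _).symm
        have hty : Commute (QuotientGroup.mk (s := N) ⟨t, htS⟩) (QuotientGroup.mk y) := by
          obtain ⟨i', j', w', hw', rfl⟩ := hform y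
          rw [QuotientGroup.mk_mul, QuotientGroup.mk_mul, QuotientGroup.mk_pow, QuotientGroup.mk_pow]
          exact ((hgc'.symm.pow_right _).mul_right ((Commute.refl _).pow_right _)).mul_right
            (hwc w' hw' _).symm
        rw [QuotientGroup.mk_mul, QuotientGroup.mk_mul, QuotientGroup.mk_pow, QuotientGroup.mk_pow]
        exact (((hay.pow_left _).mul_left (hty.pow_left _)).mul_left (hwc w hw y)).eq
      let : CommGroup (S ⧸ N) := { (inferInstance : Group (S ⧸ N)) with mul_comm := hcomm }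
      let ϕ : S →* (S ⧸ N) := QuotientGroup.mk' N
      have hT := MonoidHom.transfer_eq_pow ϕ zH fun n g₀ _ => by
        rw [mul_assoc, (show Commute (zH ^ n) g₀ from (show Commute zH g₀ from hzc g₀).pow_left n).eq,
          inv_mul_cancel_left]
      have hT1 : MonoidHom.transfer ϕ zH = 1 := by
        have hle : D ≤ (MonoidHom.transfer ϕ).ker := Abelianization.commutator_subset_ker _
        exact MonoidHom.mem_ker.1 (hle hz)
      rw [hT] at hT1
      have hidx : S.index = 21 := by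
        show (Subgroup.comap P.rho triang).index = 21
        rw [Subgroup.index_comap_of_surjective _ P.rho_surj]
        have h1 := triang.card_mul_index
        rw [card_triang, Cfsg.Agent.Linear.card_SL_three, ZMod.card] at h1
        omega
      have hzpow : zH ^ S.index = zH := by
        rw [hidx, show 21 = 2 * 10 + 1 from rfl, pow_succ, pow_mul, pow_two,
          show zH * zH = 1 from Subtype.ext P.z_sq, one_pow, one_mul]
      have hmem : (⟨zH, hzS⟩ : S) ∈ N := by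
        have e : (QuotientGroup.mk' N) ⟨zH, hzS⟩ = 1 := by
          rw [← hT1]
          exact congrArg ϕ (Subtype.ext hzpow.symm)
        rwa [QuotientGroup.mk'_apply, QuotientGroup.eq_one_iff] at e
      obtain ⟨i, hi⟩ := Subgroup.mem_zpowers_iff.1 hmem
      have hi' : k ^ i = zH := by
        have := congrArg Subtype.val hi
        rwa [Subgroup.coe_zpow] at this
      rcases Int.even_or_odd i with ⟨m, rfl⟩ | ⟨m, rfl⟩
      · rw [← two_mul, _root_.zpow_mul, zpow_two, hk2, _root_.one_zpow] at hi'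
        exact hz1 hi'.symm
      · rw [_root_.zpow_add, _root_.zpow_mul, zpow_two, hk2, _root_.one_zpow, one_mul, zpow_one] at hi'
        exact hkz hi'
    rw [← SubgroupClass.coe_pow, ha4]

theorem dichotomy : (∃ R : Rels C, Function.Bijective R.T) ∨
    ∃ h : C, h ^ 4 = P.z ∧ ∃ w ∈ P.E₁, w ≠ 1 ∧ w ≠ P.z ∧ h * w = w * h := by
  refine P.twisted_or_split.imp_right fun hall => ?_
  obtain ⟨a, ha⟩ := P.rho_surj fourEl
  have hf4 := fourEl_pow.1
  refine ⟨(a : C), hall a ha, ?_⟩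
  have hm4 : ((P.rho a : L3) : M3) ^ 4 = 1 := by
    rw [← Matrix.SpecialLinearGroup.coe_pow, ha, hf4]; rfl
  obtain ⟨r, hr, hfix⟩ := fix_four _ hm4
  refine ⟨P.W r, P.W_mem r, (P.W_ne hr).1, (P.W_ne hr).2, ?_⟩
  have e := P.rho_W a r
  rwa [hfix] at e


end Pair

end Cfsg.Agent.H85.Held
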