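import Cfsg.Agent.H85.Held.Module
import Cfsg.Agent.H92.LargeSimple
import Cfsg.Agent.S5422
import Cfsg.Agent.Compute.J2.Cent
import Cfsg.Agent.Cores.GlaubermanZStar

/-!
# Fusion of the involution into its centraliser
-/

set_option autoImplicit false
set_option linter.unusedSectionVars false

namespace Cfsg.Agent.H85.Held

open Matrix

universe u

variable {G : Type u} [Group G] [Finite G]

/-- The centraliser as an extension, inside the whole group. -/
structure Amb (z₀ : G) extends Base ↥(Subgroup.centralizer ({z₀} : Set G)) where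
  hz : (toBase.z : G) = z₀
  hQ : Cfsg.IsExtraspecial 2 toBase.Q

namespace Amb

variable {z : G} (A : Amb z)
include A

theorem z_sqG : z * z = 1 := by
  have h := congrArg Subtype.val A.z_sq
  rwa [Subgroup.coe_mul, A.hz, Subgroup.coe_one] at h

theorem z_neG : z ≠ 1 := fun h => A.z_ne (Subtype.ext (by rw [A.hz, h]; rfl))

/-- The group `Q` inside the whole group. -/
def P : Subgroup G := A.Q.map (Subgroup.centralizer ({z} : Set G)).subtype

theorem z_memP : z ∈ A.P := ⟨A.z, A.z_mem, A.hz⟩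

theorem center_P : (Subgroup.center A.P).map A.P.subtype = Subgroup.zpowers z := by
  have hex : Cfsg.IsExtraspecial 2 A.P :=
    Compute.J2.extraspecial_congr (A.Q.equivMapOfInjective _ Subtype.val_injective) A.hQ
  have hz : z ∈ (Subgroup.center A.P).map A.P.subtype := by
    refine ⟨⟨z, A.z_memP⟩, Subgroup.mem_center_iff.2 fun q => Subtype.ext ?_, rfl⟩
    obtain ⟨w, hw, e⟩ := q.2
    show (q : G) * z = z * q
    have h := congrArg Subtype.val (A.z_comm w)
    rw [Subgroup.coe_mul, Subgroup.coe_mul, A.hz] at h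
    rw [← e]
    exact h.symm
  refine le_antisymm (fun x hx => ?_) (Subgroup.zpowers_le.2 hz)
  rcases H92.eq_one_or_center hex hz A.z_neG hx with e | e <;> rw [e]
  · exact one_mem _
  · exact Subgroup.mem_zpowers z

theorem mem_zpowers_zG {x : G} : x ∈ Subgroup.zpowers z ↔ x = 1 ∨ x = z := by
  refine ⟨fun h => ?_, fun h => ?_⟩
  · rw [← A.center_P] at h
    obtain ⟨w, hw, rfl⟩ := h
    obtain ⟨v, hv, e⟩ := w.2
    rcases A.center v hv (fun y hy => Subtype.ext (by
      have := congrArg Subtype.val (Subgroup.mem_center_iff.1 hw ⟨(y : G), y, hy, rfl⟩)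
      show (v : G) * y = y * v
      rw [show (v : G) = w from e]
      exact this.symm)) with e' | e' <;> rw [e'] at e
    · exact Or.inl e.symm
    · exact Or.inr (e.symm.trans A.hz)
  · rcases h with rfl | rfl
    · exact one_mem _
    · exact Subgroup.mem_zpowers _

/-- A conjugate of `z` lying in `Q` is matched by one moved the other way. -/
theorem sym {g : G} {x : ↥(Subgroup.centralizer ({z} : Set G))} (hx : x ∈ A.Q) (hg : g * z * g⁻¹ = x)
    (hne : x ≠ A.z) : ∃ y ∈ A.Q, g⁻¹ * z * g = (y : G) := by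
  have hex : Cfsg.IsExtraspecial 2 A.P :=
    Compute.J2.extraspecial_congr (A.Q.equivMapOfInjective _ Subtype.val_injective) A.hQ
  have hcen : Subgroup.centralizer (A.P : Set G) = (Subgroup.center A.P).map A.P.subtype := by
    rw [A.center_P]
    refine le_antisymm (fun c hc => ?_) (Subgroup.zpowers_le.2 (Subgroup.mem_centralizer_iff.2 ?_))
    · have hcz : c ∈ Subgroup.centralizer ({z} : Set G) :=
        Subgroup.mem_centralizer_singleton_iff.2 (Subgroup.mem_centralizer_iff.1 hc z A.z_memP).symm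
      have hcQ : (⟨c, hcz⟩ : ↥(Subgroup.centralizer ({z} : Set G))) ∈ A.Q := A.cent _ fun q hq =>
        Subtype.ext (Subgroup.mem_centralizer_iff.1 hc (q : G) ⟨q, hq, rfl⟩).symm
      rw [A.mem_zpowers_zG]
      rcases A.center _ hcQ (fun q hq => Subtype.ext
        (Subgroup.mem_centralizer_iff.1 hc (q : G) ⟨q, hq, rfl⟩).symm) with e | e
      · exact Or.inl (congrArg Subtype.val e)
      · exact Or.inr ((congrArg Subtype.val e).trans A.hz)
    · rintro _ ⟨w, hw, rfl⟩
      have h := congrArg Subtype.val (A.z_comm w)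
      rw [Subgroup.coe_mul, Subgroup.coe_mul, A.hz] at h
      exact h.symm
  have hnorm : Subgroup.centralizer (((Subgroup.center A.P).map A.P.subtype : Subgroup G) : Set G) ≤
      Subgroup.normalizer (A.P : Set G) := by
    rw [A.center_P]
    intro c hc
    have hcz : c ∈ Subgroup.centralizer ({z} : Set G) := Subgroup.mem_centralizer_singleton_iff.2
      (Subgroup.mem_centralizer_iff.1 hc z (Subgroup.mem_zpowers z)).symm
    refine Subgroup.mem_normalizer_iff.2 fun y => ⟨?_, fun h => ?_⟩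
    · rintro ⟨w, hw, rfl⟩
      exact ⟨⟨c, hcz⟩ * w * (⟨c, hcz⟩)⁻¹, A.conj_mem _ hw, rfl⟩
    · obtain ⟨w, hw, e⟩ := h
      refine ⟨(⟨c, hcz⟩)⁻¹ * w * ((⟨c, hcz⟩ : ↥(Subgroup.centralizer ({z} : Set G)))⁻¹)⁻¹, A.conj_mem _ hw, ?_⟩
      show c⁻¹ * (w : G) * (c⁻¹)⁻¹ = y
      rw [show (w : G) = c * y * c⁻¹ from e]; group
  have hgN : g ∉ Subgroup.normalizer (((Subgroup.center A.P).map A.P.subtype : Subgroup G) : Set G) := by
    rw [A.center_P]
    intro h
    rcases A.mem_zpowers_zG.1 ((Subgroup.mem_normalizer_iff.1 h z).1 (Subgroup.mem_zpowers z)) with e | e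
    · exact A.z_neG (conj_eq_one_iff.1 e)
    · exact hne (Subtype.ext (by rw [← hg, e, A.hz]))
  have hZg : ((Subgroup.center A.P).map A.P.subtype).map (MulAut.conj g).toMonoidHom ≤ A.P := by
    rw [A.center_P]
    rintro _ ⟨w, hw, rfl⟩
    rcases A.mem_zpowers_zG.1 hw with rfl | rfl
    · simp [one_mem]
    · show g * w * g⁻¹ ∈ A.P
      rw [hg]
      exact ⟨x, hx, rfl⟩
  have hPc : Nat.card A.P = 2 ^ (2 * 3 + 1) := by
    rw [P, Subgroup.card_map_of_injective Subtype.val_injective, A.card]; norm_num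
  obtain ⟨h1, -, -⟩ := S5422.result A.P hex hcen hnorm 3 (by norm_num) hPc g hgN hZg
  rw [A.center_P] at h1
  obtain ⟨q, ⟨y, hy, rfl⟩, e⟩ := h1 (Subgroup.mem_zpowers z)
  refine ⟨y, hy, ?_⟩
  have e' : g * (y : G) * g⁻¹ = z := e
  calc g⁻¹ * z * g = g⁻¹ * (g * (y : G) * g⁻¹) * g := by rw [e']
    _ = y := by group

/-- The other conjugate of a fused element. -/
theorem other {g : G} {x : ↥(Subgroup.centralizer ({z} : Set G))} (hg : g * z * g⁻¹ = x) (hne : x ≠ A.z) :
    ∃ y : ↥(Subgroup.centralizer ({z} : Set G)), g⁻¹ * z * g = (y : G) ∧ y * y = 1 ∧ y ≠ 1 ∧ y ≠ A.z := by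
  have hc := Subgroup.mem_centralizer_singleton_iff.1 x.2
  have hy : g⁻¹ * z * g ∈ Subgroup.centralizer ({z} : Set G) := Subgroup.mem_centralizer_singleton_iff.2 (by
    rw [← hg] at hc
    calc g⁻¹ * z * g * z = g⁻¹ * (z * (g * z * g⁻¹)) * g := by group
      _ = g⁻¹ * (g * z * g⁻¹ * z) * g := by rw [hc]
      _ = z * (g⁻¹ * z * g) := by group)
  refine ⟨⟨_, hy⟩, rfl, Subtype.ext ?_, fun h => A.z_neG ?_, fun h => hne (Subtype.ext ?_)⟩
  · show g⁻¹ * z * g * (g⁻¹ * z * g) = 1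
    rw [show g⁻¹ * z * g * (g⁻¹ * z * g) = g⁻¹ * (z * z) * g by group, A.z_sqG]; group
  · have h' : g⁻¹ * z * g = 1 := congrArg Subtype.val h
    calc z = g * (g⁻¹ * z * g) * g⁻¹ := by group
      _ = 1 := by rw [h']; group
  · have h' : g⁻¹ * z * g = z := (congrArg Subtype.val h).trans A.hz
    rw [A.hz, ← hg]
    calc g * z * g⁻¹ = g * (g⁻¹ * z * g) * g⁻¹ := by rw [h']
      _ = z := by group

/-- No fused element centralised by an element whose fourth power is `z`. -/
theorem no_four (hfour : ∀ y : ↥(Subgroup.centralizer ({z} : Set G)), y ^ 8 = 1 → y ^ 4 = 1 ∨ y ^ 4 = A.z)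
    {g : G} {x h : ↥(Subgroup.centralizer ({z} : Set G))} (hg : g * z * g⁻¹ = x) (hne : x ≠ A.z)
    (hc : h * x = x * h) (h4 : h ^ 4 = A.z) : False := by
  have hy : g⁻¹ * (h : G) * g ∈ Subgroup.centralizer ({z} : Set G) := Subgroup.mem_centralizer_singleton_iff.2 (by
    have hc' : (h : G) * x = x * h := congrArg Subtype.val hc
    rw [← hg] at hc'
    calc g⁻¹ * (h : G) * g * z = g⁻¹ * ((h : G) * (g * z * g⁻¹)) * g := by group
      _ = g⁻¹ * ((g * z * g⁻¹) * h) * g := by rw [hc']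
      _ = z * (g⁻¹ * (h : G) * g) := by group)
  have hpow : ∀ n : ℕ, ((⟨g⁻¹ * (h : G) * g, hy⟩ : ↥(Subgroup.centralizer ({z} : Set G))) ^ n :
      ↥(Subgroup.centralizer ({z} : Set G))).val = g⁻¹ * (h : G) ^ n * g := fun n => by
    rw [SubgroupClass.coe_pow]
    have := conj_pow (i := n) (a := g⁻¹) (b := (h : G))
    rwa [inv_inv] at this
  have h4' : (h : G) ^ 4 = z := by
    have := congrArg Subtype.val h4
    rwa [SubgroupClass.coe_pow, A.hz] at this
  rcases hfour _ (Subtype.ext (by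
      rw [hpow, show 8 = 4 * 2 from rfl, pow_mul, h4', pow_two, A.z_sqG, mul_one, inv_mul_cancel]; rfl) :
      (⟨g⁻¹ * (h : G) * g, hy⟩ : ↥(Subgroup.centralizer ({z} : Set G))) ^ 8 = 1) with e | e
  · have := congrArg Subtype.val e
    rw [hpow, h4', Subgroup.coe_one] at this
    exact A.z_neG ((conj_eq_one_iff (a := g⁻¹)).1 (by rwa [inv_inv]))
  · have := congrArg Subtype.val e
    rw [hpow, h4', A.hz] at this
    refine hne (Subtype.ext ?_)
    rw [A.hz, ← hg]
    calc g * z * g⁻¹ = g * (g⁻¹ * z * g) * g⁻¹ := by rw [this]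
      _ = z := by group

/-- No fused element outside `Q`. -/
theorem no_outer (H : ∀ u : ↥(Subgroup.centralizer ({z} : Set G)), u * u = 1 → u ∉ A.Q →
      (∃ a ∈ A.Q, a * a = A.z ∧ a * u = u * a) ∧
      ∀ y, y * y = u → ∃ x ∈ A.Q, x * u = u * x ∧
        (y * x * y⁻¹ * x⁻¹ = A.z ∨ (y * x * y⁻¹ * x⁻¹) * (y * x * y⁻¹ * x⁻¹) = A.z))
    {g : G} {u : ↥(Subgroup.centralizer ({z} : Set G))} (hg : g * z * g⁻¹ = u) (hne : u ≠ A.z) : u ∈ A.Q := by
  by_contra huQ
  obtain ⟨u', hu', hu'2, -, hu'z⟩ := A.other hg hne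
  have hu'Q : u' ∉ A.Q := fun h => by
    obtain ⟨y, hy, e⟩ := A.sym (g := g⁻¹) h (by rw [inv_inv]; exact hu') hu'z
    rw [inv_inv, hg] at e
    exact huQ (Subtype.ext e ▸ hy)
  obtain ⟨⟨a, ha, ha2, hau⟩, -⟩ := H u' hu'2 hu'Q
  have hu2 : u * u = 1 := Subtype.ext (by
    show (u : G) * u = 1
    rw [← hg, show g * z * g⁻¹ * (g * z * g⁻¹) = g * (z * z) * g⁻¹ by group, A.z_sqG]; group)
  have hb : g * (a : G) * g⁻¹ ∈ Subgroup.centralizer ({z} : Set G) := Subgroup.mem_centralizer_singleton_iff.2 (by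
    have hau' : (a : G) * u' = u' * a := congrArg Subtype.val hau
    rw [← hu'] at hau'
    calc g * (a : G) * g⁻¹ * z = g * ((a : G) * (g⁻¹ * z * g)) * g⁻¹ := by group
      _ = g * ((g⁻¹ * z * g) * a) * g⁻¹ := by rw [hau']
      _ = z * (g * (a : G) * g⁻¹) := by group)
  set b : ↥(Subgroup.centralizer ({z} : Set G)) := ⟨g * (a : G) * g⁻¹, hb⟩ with hbdef
  have hbu : b * b = u := Subtype.ext (by
    show g * (a : G) * g⁻¹ * (g * (a : G) * g⁻¹) = u
    have ha2' : (a : G) * a = z := by rw [← Subgroup.coe_mul, ha2, A.hz]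
    rw [← hg, show g * (a : G) * g⁻¹ * (g * (a : G) * g⁻¹) = g * ((a : G) * a) * g⁻¹ by group, ha2'])
  obtain ⟨x, hx, hxu, hor⟩ := (H u hu2 huQ).2 b hbu
  set k := b * x * b⁻¹ * x⁻¹ with hk
  have hkQ : k ∈ A.Q := mul_mem (A.conj_mem b hx) (inv_mem hx)
  have hxc : g⁻¹ * (x : G) * g ∈ Subgroup.centralizer ({z} : Set G) := Subgroup.mem_centralizer_singleton_iff.2 (by
    have hxu' : (x : G) * u = u * x := congrArg Subtype.val hxu
    rw [← hg] at hxu'
    calc g⁻¹ * (x : G) * g * z = g⁻¹ * ((x : G) * (g * z * g⁻¹)) * g := by group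
      _ = g⁻¹ * ((g * z * g⁻¹) * x) * g := by rw [hxu']
      _ = z * (g⁻¹ * (x : G) * g) := by group)
  set x' : ↥(Subgroup.centralizer ({z} : Set G)) := ⟨g⁻¹ * (x : G) * g, hxc⟩ with hx'
  set k' := a * (x' * a⁻¹ * x'⁻¹) with hk'
  have hk'Q : k' ∈ A.Q := mul_mem ha (A.conj_mem x' (inv_mem ha))
  have hkk : g⁻¹ * (k : G) * g = (k' : G) := by
    rw [hk, hk', hbdef, hx']
    push_cast
    group
  rcases hor with e | e
  · refine hu'Q ?_
    rw [e, A.hz, hu'] at hkk
    exact Subtype.ext hkk ▸ hk'Q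
  · have e' : (k' : G) * k' = g⁻¹ * z * g := by
      rw [← hkk, show g⁻¹ * (k : G) * g * (g⁻¹ * (k : G) * g) = g⁻¹ * ((k : G) * k) * g by group,
        show (k : G) * k = z from (congrArg Subtype.val e).trans A.hz]
    obtain ⟨t, ht⟩ : ∃ t, k' * k' = A.zp t := by
      refine A.zp_cases (A.center _ (mul_mem hk'Q hk'Q) fun y hy => ?_)
      have ee := A.pr_eq (mul_mem hk'Q hk'Q) hy
      rwa [A.pr_left hk'Q hk'Q hy, (by decide : ∀ t : ZMod 2, t + t = 0), A.zp_zero, mul_one] at ee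
    refine hu'Q (?_ : u' ∈ A.Q)
    have : k' * k' = u' := Subtype.ext (by rw [Subgroup.coe_mul, e', hu'])
    rw [← this]
    exact mul_mem hk'Q hk'Q

/-- In a simple group the involution has a further conjugate in its centraliser. -/
theorem exists_fused [IsSimpleGroup G] :
    ∃ (g : G) (x : ↥(Subgroup.centralizer ({z} : Set G))), g * z * g⁻¹ = x ∧ x ≠ A.z := by
  by_contra h
  simp only [not_exists, not_and, not_not] at h
  have : Fact (Nat.Prime 2) := ⟨Nat.prime_two⟩
  have hord : orderOf z = 2 := orderOf_eq_prime (by rw [pow_two]; exact A.z_sqG) A.z_neG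
  obtain ⟨S, hS⟩ := (IsPGroup.of_card (p := 2) (n := 7) (G := A.P) (by
    rw [P, Subgroup.card_map_of_injective Subtype.val_injective, A.card]; norm_num)).exists_le_sylow
  have hzS : z ∈ S := hS A.z_memP
  have hcentral : ∀ s ∈ S, s * z = z * s := by
    have hnt : Nontrivial S := ⟨⟨⟨z, hzS⟩, 1, fun e => A.z_neG (congrArg Subtype.val e)⟩⟩
    obtain ⟨⟨w, hw⟩, hw1⟩ := Subgroup.ne_bot_iff_exists_ne_one.1 (ne_of_gt S.isPGroup'.bot_lt_center)
    have hwc : ∀ s ∈ S, s * (w : G) = w * s := fun s hs =>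
      congrArg Subtype.val (Subgroup.mem_center_iff.1 hw ⟨s, hs⟩)
    have hwz : (w : G) ∈ Subgroup.centralizer ({z} : Set G) :=
      Subgroup.mem_centralizer_singleton_iff.2 (hwc z hzS).symm
    have hwP : ∀ q ∈ A.Q, (⟨(w : G), hwz⟩ : ↥(Subgroup.centralizer ({z} : Set G))) * q = q * ⟨w, hwz⟩ :=
      fun q hq => Subtype.ext (hwc (q : G) (hS ⟨q, hq, rfl⟩)).symm
    rcases A.center _ (A.cent _ hwP) hwP with e | e
    · have e1 : (w : G) = 1 := congrArg Subtype.val e
      exact absurd (Subtype.ext (Subtype.ext e1)) hw1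
    · have hwz' : (w : G) = z := (congrArg Subtype.val e).trans A.hz
      intro s hs
      rw [← hwz']
      exact hwc s hs
  have hiso : ∀ g : G, g * z * g⁻¹ ∈ S → g * z * g⁻¹ = z := fun g hg =>
    (congrArg Subtype.val (h g ⟨_, Subgroup.mem_centralizer_singleton_iff.2 (hcentral _ hg)⟩ rfl)).trans A.hz
  have hcom := Cores.glaubermanZStar S hord (hS A.z_memP) hiso
  have hodd : Odd (Nat.card (Cfsg.oddCore G)) := Cores.odd_card_oddCore
  have : (Cfsg.oddCore G).Characteristic := Cores.pPrimeCore_characteristic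
  have hNn : (Cfsg.oddCore G).Normal := inferInstance
  have hbot : Cfsg.oddCore G = ⊥ := hNn.eq_bot_or_eq_top.resolve_right fun e => by
    rw [e, Subgroup.card_top] at hodd
    have h2 : orderOf z ∣ Nat.card G := orderOf_dvd_natCard z
    rw [hord] at h2
    exact (Nat.not_even_iff_odd.mpr hodd) (even_iff_two_dvd.mpr h2)
  have hzc : ∀ g : G, g * z = z * g := fun g => by
    have h' := hcom g
    rw [hbot, Subgroup.mem_bot] at h'
    calc g * z = (z * g * z⁻¹ * g⁻¹) * (g * z) := by rw [h', one_mul]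
      _ = z * g := by group
  have hn : (Subgroup.zpowers z).Normal := ⟨fun x hx g => by
    obtain ⟨i, rfl⟩ := Subgroup.mem_zpowers_iff.1 hx
    rw [((show Commute g z from hzc g).zpow_right i).eq, mul_inv_cancel_right]
    exact Subgroup.mem_zpowers_iff.2 ⟨i, rfl⟩⟩
  rcases hn.eq_bot_or_eq_top with e | e
  · exact A.z_neG (Subgroup.zpowers_eq_bot.1 e)
  · have h128 := Subgroup.card_dvd_of_le (e ▸ le_top : A.P ≤ Subgroup.zpowers z)
    rw [Nat.card_zpowers, hord, P, Subgroup.card_map_of_injective Subtype.val_injective, A.card] at h128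
    norm_num at h128

end Amb

end Cfsg.Agent.H85.Held
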