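import Cfsg.Agent.H85.Held.Build

/-!
# The two halves of `Q` under an element of order seven

An element of order seven acting without fixed points on `Q` modulo its centre preserves two
complementary elementary abelian subgroups of order `16`, so `Q` has seventy non-central involutions.
-/

set_option autoImplicit false
set_option linter.unusedSectionVars false

namespace Cfsg.Agent.H85.Held

open Matrix

universe u

/-- The decomposition of a module of characteristic two under a fixed-point-free map of order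
seven. -/
theorem split_halves {V : Type u} [AddCommGroup V] [Finite V] (h2 : ∀ v : V, v + v = 0) (σ : V →+ V)
    (h7 : ∀ v, σ (σ (σ (σ (σ (σ (σ v)))))) = v) (hf : ∀ v, σ v = v → v = 0) :
    (∀ v, σ (σ (σ v)) + σ v + v = 0 → σ (σ (σ v)) + σ (σ v) + v = 0 → v = 0) ∧
    (∀ v, σ (σ (σ v)) + σ v + v = 0 → ∃ w, v = σ (σ (σ w)) + σ (σ w) + w) ∧
    (∀ v, σ (σ (σ v)) + σ (σ v) + v = 0 → ∃ w, v = σ (σ (σ w)) + σ w + w) ∧
    (∀ v, ∃ a c, σ (σ (σ a)) + σ a + a = 0 ∧ σ (σ (σ c)) + σ (σ c) + c = 0 ∧ v = a + c) := by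
  have hinj : Function.Injective fun v => σ (σ v) + σ v := by
    intro v w e
    have e' : σ (σ (v - w) + (v - w)) = 0 := by
      simp only [map_add, map_sub]
      calc σ (σ v) - σ (σ w) + (σ v - σ w) = (σ (σ v) + σ v) - (σ (σ w) + σ w) := by abel
        _ = 0 := sub_eq_zero.2 e
    have e'' : σ (v - w) + (v - w) = 0 := by
      rw [← h7 (σ (v - w) + (v - w)), e']
      simp only [map_zero]
    refine sub_eq_zero.1 (hf _ ?_)
    calc σ (v - w) = σ (v - w) + ((v - w) + (v - w)) := by rw [h2, add_zero]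
      _ = (σ (v - w) + (v - w)) + (v - w) := by abel
      _ = v - w := by rw [e'', zero_add]
  have hsum : ∀ v, σ (σ (σ (σ (σ (σ v))))) + σ (σ (σ (σ (σ v)))) + σ (σ (σ (σ v))) + σ (σ (σ v)) +
      σ (σ v) + σ v + v = 0 := fun v => hf _ (by simp only [map_add, h7]; abel)
  have hzero : ∀ v, σ (σ (σ (σ (σ (σ v))))) + σ (σ (σ (σ (σ v)))) + σ (σ (σ (σ v))) +
      (σ (σ (σ v)) + (σ (σ (σ v)) + σ (σ (σ v)))) + σ (σ v) + σ v + v = 0 := fun v => by
    rw [h2 (σ (σ (σ v))), add_zero]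
    exact hsum v
  have hboth : ∀ v, σ (σ (σ v)) + σ v + v = 0 → σ (σ (σ v)) + σ (σ v) + v = 0 → v = 0 := fun v e1 e2 => by
    refine hinj ?_
    show σ (σ v) + σ v = σ (σ 0) + σ 0
    rw [map_zero, map_zero, add_zero]
    calc σ (σ v) + σ v = σ (σ v) + σ v + ((σ (σ (σ v)) + σ (σ (σ v))) + (v + v)) := by
          rw [h2, h2, add_zero, add_zero]
      _ = (σ (σ (σ v)) + σ v + v) + (σ (σ (σ v)) + σ (σ v) + v) := by abel
      _ = 0 := by rw [e1, e2, add_zero]
  have hall : ∀ v, ∃ w, v = (σ (σ (σ w)) + σ (σ w) + w) + (σ (σ (σ w)) + σ w + w) ∧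
      σ (σ (σ (σ (σ (σ w)) + σ (σ w) + w))) + σ (σ (σ (σ w)) + σ (σ w) + w) +
        (σ (σ (σ w)) + σ (σ w) + w) = 0 ∧
      σ (σ (σ (σ (σ (σ w)) + σ w + w))) + σ (σ (σ (σ (σ w)) + σ w + w)) +
        (σ (σ (σ w)) + σ w + w) = 0 := by
    intro v
    obtain ⟨w, hw⟩ := Finite.injective_iff_surjective.1 hinj v
    refine ⟨w, ?_, ?_, ?_⟩
    · rw [← hw]
      calc σ (σ w) + σ w = σ (σ w) + σ w + ((σ (σ (σ w)) + σ (σ (σ w))) + (w + w)) := by
            rw [h2, h2, add_zero, add_zero]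
        _ = _ := by abel
    · simp only [map_add]
      refine Eq.trans ?_ (hzero w)
      abel
    · simp only [map_add]
      refine Eq.trans ?_ (hzero w)
      abel
  refine ⟨hboth, fun v hv => ?_, fun v hv => ?_, fun v => ?_⟩
  · obtain ⟨w, hw, ha, hc⟩ := hall v
    set a := σ (σ (σ w)) + σ (σ w) + w with hadef
    set c := σ (σ (σ w)) + σ w + w
    refine ⟨w, ?_⟩
    have hc0 : c = 0 := by
      refine hboth c ?_ hc
      rw [show c = v + a by rw [hw, add_comm, ← add_assoc, h2, zero_add]]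
      simp only [map_add]
      calc σ (σ (σ v)) + σ (σ (σ a)) + (σ v + σ a) + (v + a)
          = (σ (σ (σ v)) + σ v + v) + (σ (σ (σ a)) + σ a + a) := by abel
        _ = 0 := by rw [hv, ha, add_zero]
    rw [← hadef, hw, hc0, add_zero]
  · obtain ⟨w, hw, ha, hc⟩ := hall v
    set a := σ (σ (σ w)) + σ (σ w) + w
    set c := σ (σ (σ w)) + σ w + w with hcdef
    refine ⟨w, ?_⟩
    have ha0 : a = 0 := by
      refine hboth a ha ?_
      rw [show a = v + c by rw [hw, add_assoc, h2, add_zero]]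
      simp only [map_add]
      calc σ (σ (σ v)) + σ (σ (σ c)) + (σ (σ v) + σ (σ c)) + (v + c)
          = (σ (σ (σ v)) + σ (σ v) + v) + (σ (σ (σ c)) + σ (σ c) + c) := by abel
        _ = 0 := by rw [hv, hc, add_zero]
    rw [← hcdef, hw, ha0, zero_add]
  · obtain ⟨w, hw, ha, hc⟩ := hall v
    exact ⟨_, _, ha, hc, hw⟩

namespace Base

variable {C : Type u} [Group C] [Finite C] (D : Base C)

/-- The hypothesis on an element of order seven. -/
def Free (b : C) : Prop := b ^ 7 = 1 ∧ ∀ x ∈ D.Q, b * x * b⁻¹ = x → x = 1 ∨ x = D.z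

instance zpowers_normal : (Subgroup.zpowers D.z).Normal := ⟨fun n hn x => by
  obtain ⟨i, rfl⟩ := Subgroup.mem_zpowers_iff.1 hn
  rw [← ((show Commute D.z x from D.z_comm x).zpow_left i).eq, mul_inv_cancel_right]
  exact Subgroup.mem_zpowers_iff.2 ⟨i, rfl⟩⟩

theorem mem_zpowers_z {x : C} : x ∈ Subgroup.zpowers D.z ↔ x = 1 ∨ x = D.z := by
  refine ⟨fun h => ?_, fun h => ?_⟩
  · obtain ⟨i, rfl⟩ := Subgroup.mem_zpowers_iff.1 h
    rcases Int.even_or_odd i with ⟨m, rfl⟩ | ⟨m, rfl⟩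
    · left
      rw [← two_mul, _root_.zpow_mul, zpow_two, D.z_sq, _root_.one_zpow]
    · right
      rw [_root_.zpow_add, _root_.zpow_mul, zpow_two, D.z_sq, _root_.one_zpow, one_mul, zpow_one]
  · rcases h with rfl | rfl
    · exact one_mem _
    · exact Subgroup.mem_zpowers _

/-- The quotient of `Q` by its centre. -/
abbrev Vq : Type u := ↥(D.Q.map (QuotientGroup.mk' (Subgroup.zpowers D.z)))

theorem vq_comm (x y : D.Vq) : x * y = y * x := by
  obtain ⟨_, x', hx, rfl⟩ := x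
  obtain ⟨_, y', hy, rfl⟩ := y
  apply Subtype.ext
  show QuotientGroup.mk' _ x' * QuotientGroup.mk' _ y' = QuotientGroup.mk' _ y' * QuotientGroup.mk' _ x'
  have h1 : QuotientGroup.mk' (Subgroup.zpowers D.z) (D.zp (Cross.pr x' y')) = 1 :=
    (QuotientGroup.eq_one_iff _).2 (D.mem_zpowers_z.2 (D.zp_eq_one_or _))
  rw [← map_mul, ← map_mul, D.pr_eq hx hy, map_mul, h1, mul_one]

noncomputable instance vqCommGroup : CommGroup D.Vq :=
  { (inferInstance : Group D.Vq) with mul_comm := D.vq_comm }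

/-- The class of an element. -/
def cl {x : C} (hx : x ∈ D.Q) : Additive D.Vq :=
  Additive.ofMul ⟨QuotientGroup.mk' _ x, x, hx, rfl⟩

theorem cl_eq_zero {x : C} (hx : x ∈ D.Q) : D.cl hx = 0 ↔ x = 1 ∨ x = D.z := by
  rw [← D.mem_zpowers_z, ← QuotientGroup.eq_one_iff]
  exact ⟨fun h => congrArg (fun p : Additive D.Vq => (p.toMul : C ⧸ Subgroup.zpowers D.z)) h,
    fun h => Additive.toMul.injective (Subtype.ext h)⟩

theorem cl_mul {x y : C} (hx : x ∈ D.Q) (hy : y ∈ D.Q) : D.cl (mul_mem hx hy) = D.cl hx + D.cl hy := rfl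

theorem cl_surj (v : Additive D.Vq) : ∃ (x : C) (hx : x ∈ D.Q), D.cl hx = v := by
  obtain ⟨_, x, hx, rfl⟩ := v
  exact ⟨x, hx, rfl⟩

/-- Conjugation on the quotient. -/
noncomputable def conjHom (c : C) : Additive D.Vq →+ Additive D.Vq :=
  MonoidHom.toAdditive (((MulAut.conj (QuotientGroup.mk' (Subgroup.zpowers D.z) c)).toMonoidHom.comp
    (D.Q.map (QuotientGroup.mk' (Subgroup.zpowers D.z))).subtype).codRestrict _ fun v => by
      obtain ⟨x, hx, e⟩ := v.2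
      exact ⟨c * x * c⁻¹, D.conj_mem c hx, by simp [← e]⟩)

theorem conjHom_cl (c : C) {x : C} (hx : x ∈ D.Q) : D.conjHom c (D.cl hx) = D.cl (D.conj_mem c hx) :=
  Additive.toMul.injective (Subtype.ext (by
    show QuotientGroup.mk' (Subgroup.zpowers D.z) c * QuotientGroup.mk' _ x *
      (QuotientGroup.mk' _ c)⁻¹ = QuotientGroup.mk' _ (c * x * c⁻¹)
    rw [map_mul, map_mul, map_inv]))

theorem cl_congr {x y : C} (hx : x ∈ D.Q) (hy : y ∈ D.Q) (e : x = y) : D.cl hx = D.cl hy := by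
  subst e; rfl

theorem conjHom_cj (b : C) {x : C} (hx : x ∈ D.Q) (n : ℕ) :
    D.conjHom b (D.cl (D.conj_mem (b ^ n) hx)) = D.cl (D.conj_mem (b ^ (n + 1)) hx) := by
  rw [conjHom_cl]
  exact D.cl_congr _ _ (by rw [pow_succ']; group)

/-- A number of elements of order seven fixing only the centre. -/
theorem card_modEq_two {b : C} (hb : D.Free b) {E : Subgroup C} (hE : E ≤ D.Q) (hz : D.z ∈ E)
    (hbE : ∀ x ∈ E, b * x * b⁻¹ ∈ E) : Nat.card E ≡ 2 [MOD 7] := by
  have : Fact (Nat.Prime 7) := ⟨by norm_num⟩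
  by_cases hb1 : b = 1
  · have hQ : ∀ x ∈ D.Q, x = 1 ∨ x = D.z := fun x hx => hb.2 x hx (by rw [hb1]; group)
    exfalso
    have hsub : (D.Q : Set C) ⊆ {1, D.z} := hQ
    have h := Set.ncard_le_ncard hsub (Set.toFinite _)
    rw [← Nat.card_coe_set_eq] at h
    exact absurd (D.card.symm.trans_le (h.trans ((Set.ncard_insert_le _ _).trans
      (by rw [Set.ncard_singleton])))) (by decide)
  have hob : orderOf b = 7 := orderOf_eq_prime hb.1 hb1
  have hN : Subgroup.zpowers b ≤ Subgroup.normalizer (E : Set C) :=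
    Subgroup.zpowers_le.2 (Pair.mem_normalizer_iff_range.2 hbE)
  let act : Subgroup.zpowers b →* Equiv.Perm E :=
    { toFun := fun g => ⟨fun q => ⟨(g : C) * q * (g : C)⁻¹,
          (Pair.mem_normalizer_iff_range.1 (hN g.2)) _ q.2⟩,
        fun q => ⟨(g : C)⁻¹ * q * ((g : C)⁻¹)⁻¹,
          (Pair.mem_normalizer_iff_range.1 (hN (inv_mem g.2))) _ q.2⟩,
        fun q => Subtype.ext (by simp [mul_assoc]), fun q => Subtype.ext (by simp [mul_assoc])⟩
      map_one' := Equiv.ext fun q => Subtype.ext (by simp)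
      map_mul' := fun g g' => Equiv.ext fun q => Subtype.ext (by simp [mul_assoc]) }
  let _ : MulAction (Subgroup.zpowers b) E := MulAction.compHom _ act
  have hP : IsPGroup 7 (Subgroup.zpowers b) :=
    IsPGroup.of_card (n := 1) (by rw [Nat.card_zpowers, hob, pow_one])
  refine (hP.card_modEq_card_fixedPoints E).trans
    (?_ : Nat.card (MulAction.fixedPoints (Subgroup.zpowers b) E) ≡ 2 [MOD 7])
  have hfp : MulAction.fixedPoints (Subgroup.zpowers b) E = {1, ⟨D.z, hz⟩} := by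
    ext q
    constructor
    · intro hq
      have h := congrArg Subtype.val (hq ⟨b, Subgroup.mem_zpowers b⟩)
      exact (hb.2 _ (hE q.2) h).imp (fun e => Subtype.ext e) (fun e => Subtype.ext e)
    · intro hq g
      apply Subtype.ext
      show (g : C) * q * (g : C)⁻¹ = q
      rcases hq with rfl | rfl
      · simp
      · rw [← D.z_comm, mul_inv_cancel_right]
  rw [Nat.card_coe_set_eq, hfp, Set.ncard_pair fun e => D.z_ne (congrArg Subtype.val e).symm]

theorem card_cases {b : C} (hb : D.Free b) {E : Subgroup C} (hE : E ≤ D.Q) (hz : D.z ∈ E)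
    (hbE : ∀ x ∈ E, b * x * b⁻¹ ∈ E) : Nat.card E = 2 ∨ Nat.card E = 16 ∨ Nat.card E = 128 := by
  have hdvd : Nat.card E ∣ 2 ^ 7 := by
    have := Subgroup.card_dvd_of_le hE
    rwa [D.card] at this
  obtain ⟨k, hk, hkE⟩ := (Nat.dvd_prime_pow Nat.prime_two).1 hdvd
  have h := D.card_modEq_two hb hE hz hbE
  rw [hkE] at h ⊢
  rcases ((by decide : ∀ k : Fin 8, 2 ^ (k : ℕ) % 7 = 2 % 7 → (k : ℕ) = 1 ∨ (k : ℕ) = 4 ∨ (k : ℕ) = 7)
    ⟨k, by omega⟩ h) with e | e | e <;> simp only [] at e <;> subst e <;> norm_num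

theorem pr_right' {x y y' : C} (hx : x ∈ D.Q) (hy : y ∈ D.Q) (hy' : y' ∈ D.Q) :
    Cross.pr x (y * y') = Cross.pr x y + Cross.pr x y' := by
  rw [pr_symm, D.pr_left hy hy' hx, pr_symm, pr_symm (x := y')]

theorem pr_eq_zero {x y : C} (h : x = 1 ∨ x = D.z) : Cross.pr x y = 0 :=
  if_pos (by rcases h with rfl | rfl
             · rw [one_mul, mul_one]
             · exact D.z_comm y)

/-- The pairing of conjugates. -/
theorem pr_shift {b : C} (hb : D.Free b) {x w : C} (hx : x ∈ D.Q) (hw : w ∈ D.Q) {i j : ℕ} (h : i + j = 7) :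
    Cross.pr x (cj b w i) = Cross.pr (cj b x j) w := by
  have e := D.pr_conj (b ^ j) hx (show cj b w i ∈ D.Q from D.conj_mem _ hw)
  rw [← e]
  show Cross.pr (cj b x j) (cj b (cj b w i) j) = _
  rw [cj_cj, add_comm, h, cj_def b w 7, hb.1, one_mul, inv_one, mul_one]

/-- Equal classes differ by the centre. -/
theorem eq_mul_zp {x y : C} {hx : x ∈ D.Q} {hy : y ∈ D.Q} (h : D.cl hx = D.cl hy) :
    ∃ a, x = y * D.zp a := by
  have hm := congrArg (fun p : Additive D.Vq => ((p.toMul : D.Vq) : C ⧸ Subgroup.zpowers D.z)) h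
  obtain ⟨a, ha⟩ := D.zp_cases (D.mem_zpowers_z.1 (QuotientGroup.eq.1 hm.symm))
  exact ⟨a, by rw [← ha]; group⟩

theorem sq_mem {x : C} (hx : x ∈ D.Q) : x * x = 1 ∨ x * x = D.z := by
  refine D.center (x * x) (mul_mem hx hx) fun y hy => ?_
  have e := D.pr_eq (mul_mem hx hx) hy
  rwa [D.pr_left hx hx hy, (by decide : ∀ t : ZMod 2, t + t = 0), D.zp_zero, mul_one] at e

theorem conjHom_pow (b : C) {x : C} (hx : x ∈ D.Q) :
    D.conjHom b (D.cl hx) = D.cl (D.conj_mem (b ^ 1) hx) ∧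
    D.conjHom b (D.conjHom b (D.cl hx)) = D.cl (D.conj_mem (b ^ 2) hx) ∧
    D.conjHom b (D.conjHom b (D.conjHom b (D.cl hx))) = D.cl (D.conj_mem (b ^ 3) hx) ∧
    D.conjHom b (D.conjHom b (D.conjHom b (D.conjHom b (D.cl hx)))) = D.cl (D.conj_mem (b ^ 4) hx) ∧
    D.conjHom b (D.conjHom b (D.conjHom b (D.conjHom b (D.conjHom b (D.cl hx))))) =
      D.cl (D.conj_mem (b ^ 5) hx) ∧
    D.conjHom b (D.conjHom b (D.conjHom b (D.conjHom b (D.conjHom b (D.conjHom b (D.cl hx)))))) =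
      D.cl (D.conj_mem (b ^ 6) hx) ∧
    D.conjHom b (D.conjHom b (D.conjHom b (D.conjHom b (D.conjHom b (D.conjHom b (D.conjHom b (D.cl hx))))))) =
      D.cl (D.conj_mem (b ^ 7) hx) := by
  have h0 : D.cl (D.conj_mem (b ^ 0) hx) = D.cl hx := D.cl_congr _ _ (by rw [pow_zero]; group)
  refine ⟨?_, ?_, ?_, ?_, ?_, ?_, ?_⟩ <;> rw [← h0] <;> simp only [D.conjHom_cj b hx]

/-- The subgroup of a kernel. -/
def kerSub (m : Additive D.Vq →+ Additive D.Vq) : Subgroup C where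
  carrier := {x | ∃ hx : x ∈ D.Q, m (D.cl hx) = 0}
  mul_mem' := by
    rintro x y ⟨hx, ex⟩ ⟨hy, ey⟩
    exact ⟨mul_mem hx hy, by rw [D.cl_mul hx hy, map_add, ex, ey, add_zero]⟩
  one_mem' := ⟨one_mem _, by rw [(D.cl_eq_zero _).2 (Or.inl rfl), map_zero]⟩
  inv_mem' := by
    rintro x ⟨hx, ex⟩
    refine ⟨inv_mem hx, ?_⟩
    rw [show D.cl (inv_mem hx) = -D.cl hx from rfl, map_neg, ex, neg_zero]

/-- The first of the two operators. -/
noncomputable def opOne (b : C) : Additive D.Vq →+ Additive D.Vq :=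
  (D.conjHom b).comp ((D.conjHom b).comp (D.conjHom b)) + D.conjHom b + AddMonoidHom.id _

/-- The second of the two operators. -/
noncomputable def opTwo (b : C) : Additive D.Vq →+ Additive D.Vq :=
  (D.conjHom b).comp ((D.conjHom b).comp (D.conjHom b)) + (D.conjHom b).comp (D.conjHom b) +
    AddMonoidHom.id _

theorem opOne_cl (b : C) {x : C} (hx : x ∈ D.Q) : D.opOne b (D.cl hx) =
    D.cl (mul_mem (mul_mem (D.conj_mem (b ^ 3) hx) (D.conj_mem (b ^ 1) hx)) hx) := by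
  obtain ⟨e1, e2, e3, -⟩ := D.conjHom_pow b hx
  simp only [opOne, AddMonoidHom.add_apply, AddMonoidHom.coe_comp, Function.comp_apply,
    AddMonoidHom.id_apply]
  rw [e3, e1]; rfl

theorem opTwo_cl (b : C) {x : C} (hx : x ∈ D.Q) : D.opTwo b (D.cl hx) =
    D.cl (mul_mem (mul_mem (D.conj_mem (b ^ 3) hx) (D.conj_mem (b ^ 2) hx)) hx) := by
  obtain ⟨e1, e2, e3, -⟩ := D.conjHom_pow b hx
  simp only [opTwo, AddMonoidHom.add_apply, AddMonoidHom.coe_comp, Function.comp_apply,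
    AddMonoidHom.id_apply]
  rw [e3, e2]; rfl

theorem shift_mem {b : C} (hb : D.Free b) (k l : ℕ) (hl : k + 4 = l) {x : C} (hx : x ∈ D.Q)
    (h : D.cl (mul_mem (mul_mem (D.conj_mem (b ^ 3) hx) (D.conj_mem (b ^ k) hx)) hx) = 0) :
    cj b x 4 * cj b x l * x = 1 ∨ cj b x 4 * cj b x l * x = D.z := by
  have hQ : ∀ n, cj b x n ∈ D.Q := fun n => D.conj_mem _ hx
  rw [← D.cl_eq_zero (mul_mem (mul_mem (hQ 4) (hQ l)) hx)]
  rw [D.cl_eq_zero] at h
  have hP : cj b (cj b x 3 * cj b x k * x) 4 = 1 ∨ cj b (cj b x 3 * cj b x k * x) 4 = D.z := by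
    change cj b x 3 * cj b x k * x = 1 ∨ cj b x 3 * cj b x k * x = D.z at h
    rcases h with e | e <;> rw [e, cj_def]
    · left; group
    · right; rw [← D.z_comm, mul_inv_cancel_right]
  have e : cj b (cj b x 3 * cj b x k * x) 4 = cj b x 7 * cj b x l * cj b x 4 := by
    rw [show (7 : ℕ) = 4 + 3 from rfl, ← hl, add_comm k 4, ← cj_cj b x 3 4, ← cj_cj b x k 4, cj_def b _ 4,
      cj_def b _ 4, cj_def b _ 4, cj_def b x 4]
    group
  have h7 : cj b x 7 = x := by rw [cj_def, hb.1, one_mul, inv_one, mul_one]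
  rw [e, h7] at hP
  have hz := (D.cl_eq_zero (mul_mem (mul_mem hx (hQ l)) (hQ 4))).2 hP
  rw [← hz, D.cl_mul (mul_mem (hQ 4) (hQ l)) hx, D.cl_mul (hQ 4) (hQ l), D.cl_mul (mul_mem hx (hQ l)) (hQ 4),
    D.cl_mul hx (hQ l)]
  abel

/-- A kernel is commutative. -/
theorem comm_of_image {b : C} (hb : D.Free b) (k k' l : ℕ) (hk : k + l = 7) (hl : k' + 4 = l)
    {x y w : C} (hx : x ∈ D.Q) (hy : y ∈ D.Q) (hw : w ∈ D.Q)
    (hy' : D.cl hy = D.cl (mul_mem (mul_mem (D.conj_mem (b ^ 3) hw) (D.conj_mem (b ^ k) hw)) hw))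
    (hx' : D.cl (mul_mem (mul_mem (D.conj_mem (b ^ 3) hx) (D.conj_mem (b ^ k') hx)) hx) = 0) :
    x * y = y * x := by
  obtain ⟨a, ha⟩ := D.eq_mul_zp hy'
  have hq : ∀ v ∈ D.Q, ∀ n, cj b v n ∈ D.Q := fun v hv n => D.conj_mem _ hv
  have hP : cj b w 3 * cj b w k * w ∈ D.Q := mul_mem (mul_mem (hq w hw 3) (hq w hw k)) hw
  have h0 : Cross.pr x (cj b w 3 * cj b w k * w) = 0 := by
    rw [D.pr_right' hx (mul_mem (hq w hw 3) (hq w hw k)) hw, D.pr_right' hx (hq w hw 3) (hq w hw k),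
      D.pr_shift hb hx hw (show 3 + 4 = 7 from rfl), D.pr_shift hb hx hw hk, ← D.pr_left (hq x hx 4) (hq x hx l) hw,
      ← D.pr_left (mul_mem (hq x hx 4) (hq x hx l)) hx hw]
    exact D.pr_eq_zero (D.shift_mem hb k' l hl hx hx')
  have hy2 : y = cj b w 3 * cj b w k * w * D.zp a := ha
  have e := D.pr_eq hx hy
  rw [hy2, pr_symm, D.pr_zp hP hx, pr_symm, h0, ← hy2, D.zp_zero, mul_one] at e
  exact e

theorem kerSub_sq {b : C} (k : ℕ) {E : Subgroup C} (hE : E ≤ D.Q)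
    (hcomm : ∀ x ∈ E, ∀ y ∈ E, x * y = y * x) (hinv : ∀ x ∈ E, b * x * b⁻¹ ∈ E)
    (hk : ∀ x (hx : x ∈ E), D.cl (mul_mem (mul_mem (D.conj_mem (b ^ 3) (hE hx)) (D.conj_mem (b ^ k) (hE hx))) (hE hx)) = 0) :
    ∀ x ∈ E, x * x = 1 := by
  intro x hx
  have hn : ∀ n, cj b x n ∈ E := fun n => by
    induction n with
    | zero => rwa [cj_zero]
    | succ n ih => rw [← cj_succ]; exact hinv _ ih
  obtain ⟨s, hs⟩ := D.zp_cases (D.sq_mem (hE hx))
  have hsn : ∀ n, cj b x n * cj b x n = D.zp s := fun n => by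
    rw [cj_def, show b ^ n * x * (b ^ n)⁻¹ * (b ^ n * x * (b ^ n)⁻¹) = b ^ n * (x * x) * (b ^ n)⁻¹ by group, hs,
      ← D.zp_comm, mul_inv_cancel_right]
  have h := (D.cl_eq_zero _).1 (hk x hx)
  have e : cj b x 3 * cj b x k * x * (cj b x 3 * cj b x k * x) = D.zp s := by
    rw [(show Commute x (cj b x 3 * cj b x k) from
        (show Commute x (cj b x 3) from hcomm x hx _ (hn 3)).mul_right (hcomm x hx _ (hn k))).mul_mul_mul_comm,
      (show Commute (cj b x k) (cj b x 3) from hcomm _ (hn k) _ (hn 3)).mul_mul_mul_comm, hsn, hsn, hs,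
      ← D.zp_add, (by decide : ∀ t : ZMod 2, t + t = 0), D.zp_zero, one_mul]
  have h1 : cj b x 3 * cj b x k * x * (cj b x 3 * cj b x k * x) = 1 := by
    change cj b x 3 * cj b x k * x = 1 ∨ cj b x 3 * cj b x k * x = D.z at h
    rcases h with e' | e' <;> rw [e']
    · rw [one_mul]
    · exact D.z_sq
  rw [hs, ← e, h1]

theorem not_comm_all : ¬ ∀ x ∈ D.Q, ∀ y ∈ D.Q, x * y = y * x := by
  intro h
  have hsub : (D.Q : Set C) ⊆ {1, D.z} := fun x hx => D.center x hx (h x hx)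
  have hc := Set.ncard_le_ncard hsub (Set.toFinite _)
  rw [← Nat.card_coe_set_eq] at hc
  exact absurd (D.card.symm.trans_le (hc.trans ((Set.ncard_insert_le _ _).trans
    (by rw [Set.ncard_singleton])))) (by decide)

/-- Two invariant elementary subgroups complementary to each other. -/
theorem exists_halves {b : C} (hb : D.Free b) : ∃ F : Cross C, F.z = D.z ∧ F.Q = D.Q ∧ F.φ = D.φ ∧
    (∀ x ∈ F.E₁, b * x * b⁻¹ ∈ F.E₁) ∧ (∀ x ∈ F.E₂, b * x * b⁻¹ ∈ F.E₂) := by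
  classical
  obtain ⟨h0, himg1, himg2, hsplit⟩ := split_halves (V := Additive D.Vq) (fun v => by
      obtain ⟨x, hx, rfl⟩ := D.cl_surj v
      rw [← D.cl_mul hx hx, D.cl_eq_zero]
      exact D.sq_mem hx) (D.conjHom b)
    (fun v => by
      obtain ⟨x, hx, rfl⟩ := D.cl_surj v
      rw [(D.conjHom_pow b hx).2.2.2.2.2.2]
      exact D.cl_congr _ _ (by rw [hb.1]; group))
    (fun v hv => by
      obtain ⟨x, hx, rfl⟩ := D.cl_surj v
      rw [conjHom_cl] at hv
      obtain ⟨a, ha⟩ := D.eq_mul_zp hv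
      exact (D.cl_eq_zero hx).2 (hb.2 x hx (D.fixed_of_mod hb.1 ha)))
  set E₁ := D.kerSub (D.opOne b) with hE₁
  set E₂ := D.kerSub (D.opTwo b) with hE₂
  have hle₁ : E₁ ≤ D.Q := fun x hx => hx.1
  have hle₂ : E₂ ≤ D.Q := fun x hx => hx.1
  have hz : ∀ m, D.z ∈ D.kerSub m := fun m =>
    ⟨D.z_mem, by rw [(D.cl_eq_zero _).2 (Or.inr rfl), map_zero]⟩
  have hinv₁ : ∀ x ∈ E₁, b * x * b⁻¹ ∈ E₁ := by
    rintro x ⟨hx, ex⟩
    refine ⟨D.conj_mem b hx, ?_⟩
    rw [← D.conjHom_cl b hx]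
    have : D.opOne b (D.conjHom b (D.cl hx)) = D.conjHom b (D.opOne b (D.cl hx)) := by
      simp [opOne, map_add]
    rw [this, ex, map_zero]
  have hinv₂ : ∀ x ∈ E₂, b * x * b⁻¹ ∈ E₂ := by
    rintro x ⟨hx, ex⟩
    refine ⟨D.conj_mem b hx, ?_⟩
    rw [← D.conjHom_cl b hx]
    have : D.opTwo b (D.conjHom b (D.cl hx)) = D.conjHom b (D.opTwo b (D.cl hx)) := by
      simp [opTwo, map_add]
    rw [this, ex, map_zero]
  have hcomm₁ : ∀ x ∈ E₁, ∀ y ∈ E₁, x * y = y * x := by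
    rintro x ⟨hx, ex⟩ y ⟨hy, ey⟩
    rw [opOne_cl] at ex
    obtain ⟨v, hv⟩ := himg1 (D.cl hy) (by simpa [opOne] using ey)
    obtain ⟨w, hw, rfl⟩ := D.cl_surj v
    exact D.comm_of_image hb 2 1 5 rfl rfl hx hy hw (hv.trans (D.opTwo_cl b hw)) ex
  have hcomm₂ : ∀ x ∈ E₂, ∀ y ∈ E₂, x * y = y * x := by
    rintro x ⟨hx, ex⟩ y ⟨hy, ey⟩
    rw [opTwo_cl] at ex
    obtain ⟨v, hv⟩ := himg2 (D.cl hy) (by simpa [opTwo] using ey)
    obtain ⟨w, hw, rfl⟩ := D.cl_surj v
    exact D.comm_of_image hb 1 2 6 rfl rfl hx hy hw (hv.trans (D.opOne_cl b hw)) ex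
  have hsq₁ : ∀ x ∈ E₁, x * x = 1 := D.kerSub_sq 1 hle₁ hcomm₁ hinv₁ fun x hx => by
    have h := hx.2
    rwa [opOne_cl] at h
  have hsq₂ : ∀ x ∈ E₂, x * x = 1 := D.kerSub_sq 2 hle₂ hcomm₂ hinv₂ fun x hx => by
    have h := hx.2
    rwa [opTwo_cl] at h
  have hinter : ∀ x ∈ E₁, x ∈ E₂ → x = 1 ∨ x = D.z := by
    rintro x ⟨hx, e1⟩ ⟨_, e2⟩
    rw [← D.cl_eq_zero hx]
    exact h0 _ (by simpa [opOne] using e1) (by simpa [opTwo] using e2)
  -- sizes
  have hprod : ∀ q ∈ D.Q, ∃ x ∈ E₁, ∃ y ∈ E₂, q = x * y := by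
    intro q hq
    obtain ⟨a, c, ha, hc, hac⟩ := hsplit (D.cl hq)
    obtain ⟨x, hx, rfl⟩ := D.cl_surj a
    obtain ⟨y, hy, rfl⟩ := D.cl_surj c
    rw [← D.cl_mul hx hy] at hac
    obtain ⟨t, ht⟩ := D.eq_mul_zp hac
    refine ⟨x, ⟨hx, by simpa [opOne] using ha⟩, y * D.zp t, ?_, by rw [ht, mul_assoc]⟩
    refine mul_mem ⟨hy, by simpa [opTwo] using hc⟩ ?_
    rcases D.zp_eq_one_or t with e | e <;> rw [e]
    · exact one_mem _
    · exact hz _
  have h128 : 128 ≤ Nat.card E₁ * Nat.card E₂ := by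
    rw [← Nat.card_prod, ← D.card]
    refine Nat.card_le_card_of_surjective
      (fun p : E₁ × E₂ => (⟨(p.1 : C) * p.2, mul_mem (hle₁ p.1.2) (hle₂ p.2.2)⟩ : D.Q)) fun q => ?_
    obtain ⟨x, hx, y, hy, e⟩ := hprod q q.2
    exact ⟨(⟨x, hx⟩, ⟨y, hy⟩), Subtype.ext e.symm⟩
  have hne : ∀ E : Subgroup C, E ≤ D.Q → (∀ x ∈ E, ∀ y ∈ E, x * y = y * x) → Nat.card E ≠ 128 :=
    fun E hE hc e => D.not_comm_all fun x hx y hy => by
      have := Subgroup.eq_of_le_of_card_ge hE (by rw [e, D.card])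
      exact hc x (this.ge hx) y (this.ge hy)
  have h16 : Nat.card E₁ = 16 ∧ Nat.card E₂ = 16 := by
    rcases D.card_cases hb hle₁ (hz _) hinv₁ with e1 | e1 | e1
    · rcases D.card_cases hb hle₂ (hz _) hinv₂ with e2 | e2 | e2
      · rw [e1, e2] at h128; omega
      · rw [e1, e2] at h128; omega
      · exact absurd e2 (hne _ hle₂ hcomm₂)
    · rcases D.card_cases hb hle₂ (hz _) hinv₂ with e2 | e2 | e2
      · rw [e1, e2] at h128; omega
      · exact ⟨e1, e2⟩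
      · exact absurd e2 (hne _ hle₂ hcomm₂)
    · exact absurd e1 (hne _ hle₁ hcomm₁)
  exact ⟨{ z := D.z
           Q := D.Q
           φ := D.φ
           E₁ := E₁
           E₂ := E₂
           z_sq := D.z_sq
           z_ne := D.z_ne
           z_comm := D.z_comm
           z_mem₁ := hz _
           z_mem₂ := hz _
           ker := D.ker
           surj := D.surj
           card := D.card
           comm := D.comm
           center := D.center
           cent := D.cent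
           le₁ := hle₁
           le₂ := hle₂
           card₁ := h16.1
           card₂ := h16.2
           sq₁ := hsq₁
           sq₂ := hsq₂
           inter := hinter }, rfl, rfl, rfl, hinv₁, hinv₂⟩

end Base

end Cfsg.Agent.H85.Held
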