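import Cfsg.Agent.H85.Held.Frame

/-!
# Two invariant elementary subgroups from a set of twenty-eight involutions

In an extension of `SL(3, 2)` by an extraspecial group `Q` of order `128`, an invariant set of `28`
non-central involutions of `Q` is the union of the non-central elements of two normal elementary
abelian subgroups of order `16`.
-/

set_option autoImplicit false
set_option linter.unusedSectionVars false

namespace Cfsg.Agent.H85.Held

open Matrix

universe u

/-- The data of the extension. -/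
structure Base (C : Type u) [Group C] where
  z : C
  Q : Subgroup C
  φ : C →* L3
  z_sq : z * z = 1
  z_ne : z ≠ 1
  z_comm : ∀ x, z * x = x * z
  z_mem : z ∈ Q
  ker : φ.ker = Q
  surj : Function.Surjective φ
  card : Nat.card Q = 128
  comm : ∀ x ∈ Q, ∀ y ∈ Q, x * y = y * x ∨ x * y = y * x * z
  center : ∀ x ∈ Q, (∀ y ∈ Q, x * y = y * x) → x = 1 ∨ x = z
  cent : ∀ c, (∀ y ∈ Q, c * y = y * c) → c ∈ Q

/-- The extension with an invariant set of non-central involutions of `Q`. -/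
structure Sys (C : Type u) [Group C] extends Base C where
  X : Set C
  X_sub : ∀ x ∈ X, x ∈ Q
  X_sq : ∀ x ∈ X, x * x = 1
  X_ne : ∀ x ∈ X, x ≠ 1 ∧ x ≠ z
  X_inv : ∀ (c : C), ∀ x ∈ X, c * x * c⁻¹ ∈ X

/-- The extension with an invariant set of twenty-eight involutions. -/
structure Raw (C : Type u) [Group C] extends Sys C where
  X_card : X.ncard = 28

/-- A diagonal-free element of order seven. -/
def sevenEl : L3 := ⟨!![0, 0, 1; 1, 0, 1; 0, 1, 0], by decide +kernel⟩

/-- An element squaring `sevenEl` by conjugation. -/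
def threeEl : L3 := ⟨!![1, 0, 0; 0, 0, 1; 0, 1, 1], by decide +kernel⟩

theorem sevenEl_facts : sevenEl ^ 7 = 1 ∧ sevenEl ≠ 1 ∧ threeEl ^ 3 = 1 ∧
    threeEl * sevenEl * threeEl⁻¹ = sevenEl ^ 2 := by
  decide +kernel

theorem mod_seven_cases (k : ℕ) (hk : k ≤ 7) (h : 128 ≡ 2 ^ k [MOD 7]) : k = 1 ∨ k = 4 ∨ k = 7 :=
  (by decide : ∀ k : Fin 8, 128 % 7 = 2 ^ (k : ℕ) % 7 → (k : ℕ) = 1 ∨ (k : ℕ) = 4 ∨ (k : ℕ) = 7)
    ⟨k, by omega⟩ h

namespace Base

variable {C : Type u} [Group C] [Finite C] (D : Base C)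

/-- The central bit. -/
def zp (a : ZMod 2) : C := pw D.z a

theorem zp_zero : D.zp 0 = 1 := pw_zero _

theorem zp_one : D.zp 1 = D.z := pw_one _

theorem zp_add (a b : ZMod 2) : D.zp (a + b) = D.zp a * D.zp b := pw_add _ D.z_sq a b

theorem zp_comm (a : ZMod 2) (x : C) : D.zp a * x = x * D.zp a := by
  rcases bit_cases a with rfl | rfl
  · rw [D.zp_zero, one_mul, mul_one]
  · rw [D.zp_one, D.z_comm]

theorem zp_mem (a : ZMod 2) : D.zp a ∈ D.Q := pw_mem _ D.z_mem a

theorem zp_eq_one_or (a : ZMod 2) : D.zp a = 1 ∨ D.zp a = D.z := by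
  rcases bit_cases a with rfl | rfl
  · exact Or.inl D.zp_zero
  · exact Or.inr D.zp_one

theorem zp_cases {x : C} (h : x = 1 ∨ x = D.z) : ∃ a, x = D.zp a := by
  rcases h with rfl | rfl
  · exact ⟨0, D.zp_zero.symm⟩
  · exact ⟨1, D.zp_one.symm⟩

theorem zp_eq_one {a : ZMod 2} (h : D.zp a = 1) : a = 0 := by
  rcases bit_cases a with rfl | rfl
  · rfl
  · rw [D.zp_one] at h; exact absurd h D.z_ne

theorem pr_eq {x y : C} (hx : x ∈ D.Q) (hy : y ∈ D.Q) : x * y = y * x * D.zp (Cross.pr x y) := by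
  unfold Cross.pr
  split_ifs with h
  · rw [D.zp_zero, mul_one, h]
  · rw [D.zp_one]
    exact (D.comm x hx y hy).resolve_left h

theorem pr_unique {x y : C} {a : ZMod 2} (h : x * y = y * x * D.zp a) : Cross.pr x y = a := by
  unfold Cross.pr
  rcases bit_cases a with rfl | rfl
  · rw [D.zp_zero, mul_one] at h
    rw [if_pos h]
  · rw [D.zp_one] at h
    rw [if_neg fun e => D.z_ne ?_]
    rw [e] at h
    exact mul_eq_left.1 h.symm

theorem pr_left {x x' y : C} (hx : x ∈ D.Q) (hx' : x' ∈ D.Q) (hy : y ∈ D.Q) :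
    Cross.pr (x * x') y = Cross.pr x y + Cross.pr x' y := D.pr_unique (by
  rw [mul_assoc, D.pr_eq hx' hy, ← mul_assoc, ← mul_assoc, D.pr_eq hx hy, D.zp_add,
    mul_assoc (y * x) (D.zp _) x', D.zp_comm (Cross.pr x y) x']
  simp only [mul_assoc])

theorem pr_conj (c : C) {x y : C} (hx : x ∈ D.Q) (hy : y ∈ D.Q) :
    Cross.pr (c * x * c⁻¹) (c * y * c⁻¹) = Cross.pr x y := D.pr_unique (by
  calc c * x * c⁻¹ * (c * y * c⁻¹) = c * (x * y) * c⁻¹ := by group
    _ = c * (y * x) * (D.zp (Cross.pr x y) * c⁻¹) := by rw [D.pr_eq hx hy]; group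
    _ = c * (y * x) * (c⁻¹ * D.zp (Cross.pr x y)) := by rw [D.zp_comm]
    _ = c * y * c⁻¹ * (c * x * c⁻¹) * D.zp (Cross.pr x y) := by group)

theorem pr_symm {x y : C} : Cross.pr x y = Cross.pr y x := by
  unfold Cross.pr
  by_cases h : x * y = y * x
  · rw [if_pos h, if_pos h.symm]
  · rw [if_neg h, if_neg fun e => h e.symm]

theorem pr_zp {x y : C} (hx : x ∈ D.Q) (hy : y ∈ D.Q) (a : ZMod 2) :
    Cross.pr (x * D.zp a) y = Cross.pr x y := by
  rw [D.pr_left hx (D.zp_mem a) hy,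
    D.pr_unique (x := D.zp a) (y := y) (a := 0) (by rw [D.zp_zero, mul_one, D.zp_comm]), add_zero]

theorem conj_mem (c : C) {x : C} (hx : x ∈ D.Q) : c * x * c⁻¹ ∈ D.Q := by
  rw [← D.ker, MonoidHom.mem_ker] at hx ⊢
  rw [map_mul, map_mul, hx, mul_one, map_inv, mul_inv_cancel]

theorem conj_inner {q x : C} (hq : q ∈ D.Q) (hx : x ∈ D.Q) :
    q * x * q⁻¹ = x * D.zp (Cross.pr q x) := by
  rw [D.pr_eq hq hx, mul_assoc _ (D.zp _), D.zp_comm]
  group

theorem exists_seven : ∃ b a : C, b ^ 7 = 1 ∧ D.φ b = sevenEl ∧ D.φ a = threeEl := by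
  obtain ⟨y, hy⟩ := D.surj (sevenEl ^ 4)
  obtain ⟨a, ha⟩ := D.surj threeEl
  have hy7 : y ^ 7 ∈ D.Q := by
    rw [← D.ker, MonoidHom.mem_ker, map_pow, hy, ← pow_mul, mul_comm, pow_mul, sevenEl_facts.1, one_pow]
  refine ⟨y ^ 128, a, ?_, ?_, ha⟩
  · have h : (⟨y ^ 7, hy7⟩ : D.Q) ^ Nat.card D.Q = 1 := pow_card_eq_one'
    have h' := congrArg Subtype.val h
    rw [SubgroupClass.coe_pow, D.card, Subgroup.coe_one] at h'
    rw [← pow_mul, mul_comm, pow_mul]
    exact h'
  · rw [map_pow, hy, ← pow_mul, show 4 * 128 = 7 * 73 + 1 from rfl, pow_succ, pow_mul, sevenEl_facts.1,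
      one_pow, one_mul]

theorem fixed_of_mod {b x : C} (hb : b ^ 7 = 1) {a : ZMod 2} (h : b * x * b⁻¹ = x * D.zp a) :
    b * x * b⁻¹ = x := by
  have hk : ∀ n : ℕ, b ^ n * x * (b ^ n)⁻¹ = x * D.zp (n * a) := by
    intro n
    induction n with
    | zero => rw [Nat.cast_zero, zero_mul, D.zp_zero, mul_one, pow_zero]; group
    | succ n ih =>
      calc b ^ (n + 1) * x * (b ^ (n + 1))⁻¹ = b * (b ^ n * x * (b ^ n)⁻¹) * b⁻¹ := by
            rw [pow_succ']; group
        _ = b * x * (D.zp (n * a) * b⁻¹) := by rw [ih]; group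
        _ = b * x * b⁻¹ * D.zp (n * a) := by rw [D.zp_comm]; group
        _ = x * D.zp ((n + 1 : ℕ) * a) := by
            rw [h, mul_assoc, ← D.zp_add, Nat.cast_succ, add_mul, one_mul, add_comm]
  have h7 := hk 7
  rw [hb, one_mul, inv_one, mul_one, show ((7 : ℕ) : ZMod 2) = 1 by decide, one_mul, eq_comm,
    mul_eq_left] at h7
  rw [h, h7, mul_one]

/-- The product of the first `n` conjugates by powers of `b`. -/
def orbProd (_D : Base C) (b q : C) : ℕ → C
  | 0 => 1
  | n + 1 => orbProd _D b q n * (b ^ n * q * (b ^ n)⁻¹)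

theorem orbProd_zero (b q : C) : D.orbProd b q 0 = 1 := rfl

theorem orbProd_succ (b q : C) (n : ℕ) :
    D.orbProd b q (n + 1) = D.orbProd b q n * (b ^ n * q * (b ^ n)⁻¹) := rfl

theorem orbProd_mem (b : C) {q : C} (hq : q ∈ D.Q) : ∀ n, D.orbProd b q n ∈ D.Q
  | 0 => one_mem _
  | n + 1 => mul_mem (orbProd_mem b hq n) (D.conj_mem _ hq)

theorem orbProd_shift (b : C) {q : C} (hq : q ∈ D.Q) (n : ℕ) :
    ∃ a, b * D.orbProd b q n * b⁻¹ * q = D.orbProd b q (n + 1) * D.zp a := by
  induction n with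
  | zero =>
    refine ⟨0, ?_⟩
    rw [D.zp_zero, mul_one, orbProd_succ, orbProd_zero, pow_zero]
    group
  | succ n ih =>
    obtain ⟨a, ha⟩ := ih
    have hvQ : b ^ (n + 1) * q * (b ^ (n + 1))⁻¹ ∈ D.Q := D.conj_mem _ hq
    refine ⟨a + Cross.pr (b ^ (n + 1) * q * (b ^ (n + 1))⁻¹) q, ?_⟩
    rw [D.orbProd_succ b q (n + 1)]
    have e : b * D.orbProd b q (n + 1) * b⁻¹ =
        b * D.orbProd b q n * b⁻¹ * (b ^ (n + 1) * q * (b ^ (n + 1))⁻¹) := by
      rw [orbProd_succ, pow_succ']; group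
    rw [e]
    generalize b ^ (n + 1) * q * (b ^ (n + 1))⁻¹ = v at hvQ ⊢
    rw [mul_assoc (b * D.orbProd b q n * b⁻¹), D.pr_eq hvQ hq, D.zp_add]
    simp only [← mul_assoc]
    rw [ha, mul_assoc _ (D.zp a), D.zp_comm]
    simp only [mul_assoc]

theorem orbProd_fixed {b q : C} (hb : b ^ 7 = 1) (hq : q ∈ D.Q) :
    b * D.orbProd b q 7 * b⁻¹ = D.orbProd b q 7 := by
  obtain ⟨a, ha⟩ := D.orbProd_shift b hq 7
  rw [D.orbProd_succ b q 7, hb, one_mul, inv_one, mul_one, mul_assoc (D.orbProd b q 7) q,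
    ← D.zp_comm a q, ← mul_assoc (D.orbProd b q 7)] at ha
  exact D.fixed_of_mod hb (mul_right_cancel ha)

set_option maxHeartbeats 800000 in
theorem seven_fixed {b : C} (hb : b ^ 7 = 1) (hφ : D.φ b ≠ 1) :
    ∀ x ∈ D.Q, b * x * b⁻¹ = x → x = 1 ∨ x = D.z := by
  classical
  set Y := D.Q ⊓ Subgroup.centralizer ({b} : Set C) with hY
  have hYmem : ∀ x, x ∈ Y ↔ x ∈ D.Q ∧ b * x * b⁻¹ = x := fun x => by
    rw [hY, Subgroup.mem_inf, Subgroup.mem_centralizer_singleton_iff, mul_inv_eq_iff_eq_mul]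
    exact and_congr_right' eq_comm
  have hzY : D.z ∈ Y := (hYmem _).2 ⟨D.z_mem, by rw [← D.z_comm, mul_inv_cancel_right]⟩
  suffices hle : Nat.card Y ≤ 2 by
    intro x hx hxb
    have hsub : ({1, D.z, x} : Set C) ⊆ (Y : Set C) := by
      rintro y (rfl | rfl | rfl)
      · exact one_mem Y
      · exact hzY
      · exact (hYmem _).2 ⟨hx, hxb⟩
    by_contra hne
    rw [not_or] at hne
    have h := Set.ncard_le_ncard hsub (Set.toFinite _)
    rw [← Nat.card_coe_set_eq (Y : Set C), Set.ncard_insert_of_notMem (by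
        rintro (e | e)
        · exact D.z_ne e.symm
        · exact hne.1 e.symm),
      Set.ncard_pair (Ne.symm hne.2)] at h
    exact absurd (h.trans hle) (by decide)
  -- every element of `Q` is a fixed element times one commuting with the fixed elements
  have hbQ : ∀ x ∈ D.Q, b * x * b⁻¹ ∈ D.Q := fun x hx => D.conj_mem b hx
  have hker : ∀ y ∈ Y, ∀ q ∈ D.Q, Cross.pr (b * q * b⁻¹) y = Cross.pr q y := by
    intro y hy q hq
    conv_lhs => rw [← ((hYmem y).1 hy).2]
    exact D.pr_conj b hq ((hYmem y).1 hy).1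
  have hsplit : ∀ q ∈ D.Q, ∃ w ∈ Y, ∀ y ∈ Y, Cross.pr q y = Cross.pr w y := by
    intro q hq
    have hfix := D.orbProd_fixed hb hq
    refine ⟨D.orbProd b q 7, (hYmem _).2 ⟨D.orbProd_mem b hq 7, hfix⟩, fun y hy => ?_⟩
    have hyQ := ((hYmem y).1 hy).1
    have hi : ∀ i : ℕ, Cross.pr (b ^ i * q * (b ^ i)⁻¹) y = Cross.pr q y := by
      intro i
      induction i with
      | zero => rw [pow_zero, one_mul, inv_one, mul_one]
      | succ i ih =>
        rw [show b ^ (i + 1) * q * (b ^ (i + 1))⁻¹ = b * (b ^ i * q * (b ^ i)⁻¹) * b⁻¹ by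
          rw [pow_succ']; group, hker y hy _ (D.conj_mem _ hq), ih]
    have hn : ∀ n : ℕ, Cross.pr (D.orbProd b q n) y = n * Cross.pr q y := by
      intro n
      induction n with
      | zero =>
        rw [Nat.cast_zero, zero_mul]
        exact D.pr_unique (by rw [D.zp_zero, mul_one, orbProd_zero, one_mul, mul_one])
      | succ n ih =>
        rw [orbProd_succ, D.pr_left (D.orbProd_mem b hq n) (D.conj_mem _ hq) hyQ, ih, hi, Nat.cast_succ,
          add_mul, one_mul]
    rw [hn 7, show ((7 : ℕ) : ZMod 2) = 1 by decide, one_mul]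
  -- so the fixed subgroup has centre of order two
  have hYQ : ∀ y ∈ Y, y ∈ D.Q := fun y hy => ((hYmem y).1 hy).1
  have hcenY : ∀ y ∈ Y, (∀ w ∈ Y, w * y = y * w) → y = 1 ∨ y = D.z := by
    intro y hy h
    refine D.center y (hYQ y hy) fun q hq => ?_
    obtain ⟨w, hw, hwy⟩ := hsplit q hq
    have hprw : Cross.pr w y = 0 := if_pos (h w hw)
    have e := D.pr_eq hq (hYQ y hy)
    rw [hwy y hy, hprw, D.zp_zero, mul_one] at e
    exact e.symm
  by_cases hab : ∀ x ∈ Y, ∀ w ∈ Y, w * x = x * w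
  · have hsub : (Y : Set C) ⊆ {1, D.z} := fun x hx => hcenY x hx (hab x hx)
    have := Set.ncard_le_ncard hsub (Set.toFinite _)
    rw [← Nat.card_coe_set_eq (Y : Set C)] at this
    exact this.trans ((Set.ncard_insert_le _ _).trans (by rw [Set.ncard_singleton]))
  exfalso
  simp only [not_forall] at hab
  obtain ⟨y1, hy1, y2, hy2, h12⟩ := hab
  have h7 : ¬ (7 : ℕ) ∣ 1 := by decide
  -- the order of the fixed subgroup
  have hcY : Nat.card Y = 16 := by
    have hob : orderOf b = 7 := by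
      have : Fact (Nat.Prime 7) := ⟨by norm_num⟩
      exact orderOf_eq_prime hb fun e => hφ (by rw [e, map_one])
    have hact : Nat.card D.Q ≡ Nat.card Y [MOD 7] := by
      have : Fact (Nat.Prime 7) := ⟨by norm_num⟩
      let act : Subgroup.zpowers b →* Equiv.Perm D.Q :=
        { toFun := fun g => ⟨fun q => ⟨(g : C) * q * (g : C)⁻¹, D.conj_mem _ q.2⟩,
            fun q => ⟨(g : C)⁻¹ * q * ((g : C)⁻¹)⁻¹, D.conj_mem _ q.2⟩,
            fun q => Subtype.ext (by simp [mul_assoc]), fun q => Subtype.ext (by simp [mul_assoc])⟩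
          map_one' := Equiv.ext fun q => Subtype.ext (by simp)
          map_mul' := fun g g' => Equiv.ext fun q => Subtype.ext (by simp [mul_assoc]) }
      let _ : MulAction (Subgroup.zpowers b) D.Q := MulAction.compHom _ act
      have hP : IsPGroup 7 (Subgroup.zpowers b) :=
        IsPGroup.of_card (n := 1) (by rw [Nat.card_zpowers, hob, pow_one])
      have := hP.card_modEq_card_fixedPoints D.Q
      rw [Nat.card_congr (?_ : ↥(MulAction.fixedPoints (Subgroup.zpowers b) D.Q) ≃ ↥Y)] at this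
      · exact this
      exact
        { toFun := fun q => ⟨(q.1 : C), (hYmem _).2 ⟨q.1.2,
            congrArg Subtype.val (q.2 ⟨b, Subgroup.mem_zpowers b⟩)⟩⟩
          invFun := fun y => ⟨⟨y.1, hYQ _ y.2⟩, fun g => Subtype.ext (by
            obtain ⟨n, hn⟩ := Subgroup.mem_zpowers_iff.1 g.2
            show (g : C) * y * (g : C)⁻¹ = y
            have hc : Commute b (y : C) := mul_inv_eq_iff_eq_mul.1 ((hYmem _).1 y.2).2
            rw [← hn, (hc.zpow_left n).eq, mul_inv_cancel_right])⟩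
          left_inv := fun q => rfl
          right_inv := fun y => rfl }
    have hdvd : Nat.card Y ∣ 128 := D.card ▸ Subgroup.card_dvd_of_le inf_le_left
    have h4 : 4 < Nat.card Y ∨ Nat.card Y ≤ 4 := lt_or_ge _ _
    obtain ⟨k, hk, hkY⟩ := (Nat.dvd_prime_pow Nat.prime_two).1 (show Nat.card Y ∣ 2 ^ 7 from hdvd)
    rw [D.card, hkY] at hact
    have hne : k ≠ 7 := fun e => hφ (by
      have hYall : Y = D.Q := Subgroup.eq_of_le_of_card_ge inf_le_left (by rw [hkY, e, D.card]; norm_num)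
      rw [← MonoidHom.mem_ker, D.ker]
      refine D.cent b fun q hq => ?_
      exact mul_inv_eq_iff_eq_mul.1 ((hYmem q).1 (hYall.ge hq)).2)
    have hne1 : k ≠ 1 := fun e => h12 (by
      have h3 : ∀ x ∈ Y, x = 1 ∨ x = D.z := fun x hx => by
        by_contra hx'
        rw [not_or] at hx'
        have hsub : ({1, D.z, x} : Set C) ⊆ (Y : Set C) := by
          rintro y (rfl | rfl | rfl)
          · exact one_mem Y
          · exact hzY
          · exact hx
        have h := Set.ncard_le_ncard hsub (Set.toFinite _)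
        rw [← Nat.card_coe_set_eq (Y : Set C), Set.ncard_insert_of_notMem (by
            rintro (e' | e')
            · exact D.z_ne e'.symm
            · exact hx'.1 e'.symm),
          Set.ncard_pair (Ne.symm hx'.2)] at h
        exact absurd (h.trans_eq (hkY.trans (by rw [e]))) (by decide)
      rcases h3 y1 hy1 with e' | e' <;> rw [e']
      · rw [one_mul, mul_one]
      · exact (D.z_comm y2).symm)
    have hk4 : k = 4 := ((mod_seven_cases k hk hact).resolve_left hne1).resolve_right hne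
    rw [hkY, hk4]; norm_num
  let f : Y → ZMod 2 × ZMod 2 := fun y => (Cross.pr (y : C) y1, Cross.pr (y : C) y2)
  set W := {w : Y | f w = 0} with hW
  have hpr12 : Cross.pr y2 y1 = 1 := if_neg h12
  have hpr21 : Cross.pr y1 y2 = 1 := if_neg fun e => h12 e.symm
  have hpr11 : ∀ y : C, Cross.pr y y = 0 := fun y => if_pos rfl
  have hfadd : ∀ x y : Y, f (x * y) = f x + f y := fun x y => Prod.ext
    (D.pr_left (hYQ _ x.2) (hYQ _ y.2) (hYQ _ hy1)) (D.pr_left (hYQ _ x.2) (hYQ _ y.2) (hYQ _ hy2))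
  have hf1 : f ⟨y1, hy1⟩ = (0, 1) := Prod.ext (hpr11 y1) hpr21
  have hf2 : f ⟨y2, hy2⟩ = (1, 0) := Prod.ext hpr12 (hpr11 y2)
  have hsurj : Function.Surjective f := by
    intro p
    obtain ⟨p1, p2⟩ := p
    rcases bit_cases p1 with rfl | rfl <;> rcases bit_cases p2 with rfl | rfl
    · refine ⟨1, ?_⟩
      have := hfadd 1 1
      rw [one_mul] at this
      exact add_eq_left.1 this.symm
    · exact ⟨⟨y1, hy1⟩, hf1⟩
    · exact ⟨⟨y2, hy2⟩, hf2⟩
    · exact ⟨⟨y1, hy1⟩ * ⟨y2, hy2⟩, by rw [hfadd, hf1, hf2]; rfl⟩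
  let fh : Additive Y →+ ZMod 2 × ZMod 2 := AddMonoidHom.mk' (fun y => f y.toMul) fun x y => hfadd _ _
  have hcard : Nat.card fh.ker = 4 := by
    have h1 := fh.ker.card_mul_index
    rw [AddSubgroup.index_ker, AddMonoidHom.range_eq_top.2 (fun p => (hsurj p).imp fun _ h => h),
      AddSubgroup.card_top, Nat.card_congr (Additive.toMul (α := Y)), hcY, Nat.card_prod, Nat.card_zmod] at h1
    omega
  obtain ⟨w, hw, hwz⟩ : ∃ w : Y, f w = 0 ∧ ¬ ((w : C) = 1 ∨ (w : C) = D.z) := by
    by_contra h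
    simp only [not_exists, not_and, not_not] at h
    have hsub : Function.Injective fun w : fh.ker => ((w.1.toMul : Y) : C) :=
      fun x y e => Subtype.ext (Additive.toMul.injective (Subtype.ext e))
    have h2 := Set.ncard_le_ncard (s := Set.range fun w : fh.ker => ((w.1.toMul : Y) : C))
      (t := ({1, D.z} : Set C)) (by rintro _ ⟨w, rfl⟩; exact h _ w.2) (Set.toFinite _)
    rw [Set.ncard_range_of_injective hsub, hcard] at h2
    exact absurd (h2.trans ((Set.ncard_insert_le _ _).trans (by rw [Set.ncard_singleton]))) (by decide)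
  refine hwz (hcenY w w.2 fun x hx => ?_)
  -- `w` commutes with the kernel and with the two chosen elements
  set p := f ⟨x, hx⟩
  obtain ⟨g, hg, hgw⟩ : ∃ g : Y, f g = p ∧ Commute (g : C) w := by
    have hw1 : Commute y1 (w : C) := by
      by_contra h
      have e : Cross.pr (w : C) y1 = 1 := if_neg fun e => h e.symm
      exact absurd (e.symm.trans (congrArg Prod.fst hw)) (by decide)
    have hw2 : Commute y2 (w : C) := by
      by_contra h
      have e : Cross.pr (w : C) y2 = 1 := if_neg fun e => h e.symm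
      exact absurd (e.symm.trans (congrArg Prod.snd hw)) (by decide)
    obtain ⟨p1, p2⟩ := p
    rcases bit_cases p1 with rfl | rfl <;> rcases bit_cases p2 with rfl | rfl
    · refine ⟨1, ?_, Commute.one_left _⟩
      have := hfadd 1 1
      rw [one_mul] at this
      exact add_eq_left.1 this.symm
    · exact ⟨⟨y1, hy1⟩, hf1, hw1⟩
    · exact ⟨⟨y2, hy2⟩, hf2, hw2⟩
    · exact ⟨⟨y1, hy1⟩ * ⟨y2, hy2⟩, by rw [hfadd, hf1, hf2]; rfl, hw1.mul_left hw2⟩
  -- an abelian group of order four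
  have hker : ∀ k : Y, f k = 0 → Commute (k : C) w := by
    intro k hk
    let K : Finset Y := {1, ⟨D.z, hzY⟩, w, w * ⟨D.z, hzY⟩}
    have hfz : f ⟨D.z, hzY⟩ = 0 := Prod.ext (if_pos (D.z_comm y1)) (if_pos (D.z_comm y2))
    have hf0 : f 1 = 0 := by
      have := hfadd 1 1
      rw [one_mul] at this
      exact add_eq_left.1 this.symm
    have hne : w ≠ 1 ∧ w ≠ ⟨D.z, hzY⟩ :=
      ⟨fun e => hwz (Or.inl (by rw [e]; rfl)), fun e => hwz (Or.inr (by rw [e]))⟩
    have hz1 : (⟨D.z, hzY⟩ : Y) ≠ 1 := fun e => D.z_ne (congrArg Subtype.val e)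
    have hK : K.card = 4 := by
      have e1 : w * ⟨D.z, hzY⟩ ≠ 1 := fun e => hne.2 (by
        rw [mul_eq_one_iff_eq_inv] at e
        rw [e]
        exact Subtype.ext (inv_eq_of_mul_eq_one_right D.z_sq))
      have e2 : w * ⟨D.z, hzY⟩ ≠ ⟨D.z, hzY⟩ := fun e => hne.1 (mul_eq_right.1 e)
      have e3 : w * ⟨D.z, hzY⟩ ≠ w := fun e => hz1 (mul_eq_left.1 e)
      simp [K, Ne.symm hz1, Ne.symm hne.1, Ne.symm hne.2, Ne.symm e1, Ne.symm e2, Ne.symm e3]
    have hsub : (K : Set Y) ⊆ {y | f y = 0} := by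
      intro y hy
      simp only [K, Finset.coe_insert, Finset.coe_singleton, Set.mem_insert_iff, Set.mem_singleton_iff] at hy
      rcases hy with rfl | rfl | rfl | rfl
      · exact hf0
      · exact hfz
      · exact hw
      · show f (w * _) = 0
        rw [hfadd, hw, hfz, add_zero]
    have h4 : {y : Y | f y = 0}.ncard = 4 := by
      rw [← hcard, ← Nat.card_coe_set_eq]
      exact Nat.card_congr ((Additive.ofMul (α := Y)).subtypeEquiv fun y => Iff.rfl)
    have heq := Set.eq_of_subset_of_ncard_le hsub (by rw [h4, Set.ncard_coe_finset, hK]) (Set.toFinite _)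
    have hmem : k ∈ (K : Set Y) := heq ▸ hk
    simp only [K, Finset.coe_insert, Finset.coe_singleton, Set.mem_insert_iff, Set.mem_singleton_iff] at hmem
    rcases hmem with rfl | rfl | rfl | rfl
    · exact Commute.one_left _
    · exact D.z_comm _
    · exact Commute.refl _
    · exact (Commute.refl _).mul_left (D.z_comm _)
  have hd : f (⟨x, hx⟩ * g) = 0 := by
    rw [hfadd, hg]
    exact Prod.ext ((by decide : ∀ t : ZMod 2, t + t = 0) _) ((by decide : ∀ t : ZMod 2, t + t = 0) _)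
  have hc := (hker _ hd).mul_left hgw.inv_left
  simp only [Subgroup.coe_mul, mul_inv_cancel_right] at hc
  exact hc

end Base

namespace Sys

variable {C : Type u} [Group C] [Finite C] (D : Sys C)

theorem X_zp {x : C} (hx : x ∈ D.X) (a : ZMod 2) : x * D.zp a ∈ D.X := by
  rcases bit_cases a with rfl | rfl
  · rwa [D.zp_zero, mul_one]
  · by_cases h : ∀ y ∈ D.Q, x * y = y * x
    · rcases D.center x (D.X_sub x hx) h with e | e
      · exact absurd e (D.X_ne x hx).1
      · exact absurd e (D.X_ne x hx).2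
    · simp only [not_forall] at h
      obtain ⟨y, hy, hne⟩ := h
      have h1 : Cross.pr y x = 1 := if_neg fun e => hne e.symm
      have := D.X_inv y x hx
      rwa [D.conj_inner hy (D.X_sub x hx), h1] at this

end Sys

end Cfsg.Agent.H85.Held
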