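import Cfsg.Agent.H85.Held.NonSplit

/-!
# Coordinates on the non-split module
-/

set_option autoImplicit false
set_option linter.unusedSectionVars false

namespace Cfsg.Agent.H85.Held

open Matrix

universe u

namespace Duo

variable {C : Type u} [Group C] [Finite C] (P : Duo C)

theorem form_mul (r v r' v' : F3) : ∃ a, P.W r * P.V v * (P.W r' * P.V v') = P.W (r + r') * P.V (v + v') * P.zp a := by
  refine ⟨r' ⬝ᵥ v, ?_⟩
  calc P.W r * P.V v * (P.W r' * P.V v') = P.W r * (P.V v * P.W r') * P.V v' := by group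
    _ = P.W r * P.W r' * P.V v * (P.zp (r' ⬝ᵥ v) * P.V v') := by rw [P.VW]; group
    _ = P.W r * P.W r' * (P.V v * P.V v') * P.zp (r' ⬝ᵥ v) := by rw [P.zp_comm]; group
    _ = _ := by rw [← P.W_add, ← P.V_add]

theorem eqz_mul {x y x' y' : C} (h : ∃ a, x = x' * P.zp a) (h' : ∃ a, y = y' * P.zp a) :
    ∃ a, x * y = x' * y' * P.zp a := by
  obtain ⟨a, rfl⟩ := h
  obtain ⟨b, rfl⟩ := h'
  exact ⟨a + b, by rw [(show Commute (P.zp a) y' from P.zp_comm a y').mul_mul_mul_comm, ← P.zp_add]⟩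

theorem eqz_inj {r v r' v' : F3} {a : ZMod 2} (h : P.W r * P.V v = P.W r' * P.V v' * P.zp a) :
    r = r' ∧ v = v' := by
  have := P.form_inj (c := 0) (c' := a) (by rw [P.zp_zero, mul_one]; exact h)
  exact ⟨this.1, this.2.1⟩

end Duo

namespace NS

variable {C : Type u} [Group C] [Finite C] (D : NS C)

theorem exists_cross {b : C} (hb : D.Free b) : ∃ F : Cross C, F.z = D.z ∧ F.Q = D.Q ∧ F.φ = D.φ ∧
    F.E₁ = D.E ∧ ∀ x ∈ F.E₂, b * x * b⁻¹ ∈ F.E₂ := by
  obtain ⟨F, hz, hQ, hφ, h1, h2⟩ := D.exists_halves hb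
  have key : ∀ E₂ : Subgroup C, E₂ ≤ D.Q → D.z ∈ E₂ → Nat.card E₂ = 16 → (∀ y ∈ E₂, y * y = 1) →
      (∀ y ∈ D.E, y ∈ E₂ → y = 1 ∨ y = D.z) → ∃ F' : Cross C, F'.z = D.z ∧ F'.Q = D.Q ∧ F'.φ = D.φ ∧
      F'.E₁ = D.E ∧ F'.E₂ = E₂ := fun E₂ ha hb' hc hd he =>
    ⟨{ z := D.z
       Q := D.Q
       φ := D.φ
       E₁ := D.E
       E₂ := E₂
       z_sq := D.z_sq
       z_ne := D.z_ne
       z_comm := D.z_comm
       z_mem₁ := D.z_memE
       z_mem₂ := hb'
       ker := D.ker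
       surj := D.surj
       card := D.card
       comm := D.comm
       center := D.center
       cent := D.cent
       le₁ := D.E_le
       le₂ := ha
       card₁ := D.E_card
       card₂ := hc
       sq₁ := D.E_sq
       sq₂ := hd
       inter := he }, rfl, rfl, rfl, rfl, rfl⟩
  have hbE : ∀ x ∈ D.E ⊓ F.E₁, b * x * b⁻¹ ∈ D.E ⊓ F.E₁ := fun x hx =>
    ⟨D.E_normal.conj_mem x hx.1 b, h1 x hx.2⟩
  rcases D.card_cases hb (inf_le_left.trans D.E_le) ⟨D.z_memE, hz ▸ F.z_mem₁⟩ hbE with hc | hc | hc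
  · obtain ⟨F', e1, e2, e3, e4, e5⟩ := key F.E₁ (hQ ▸ F.le₁) (hz ▸ F.z_mem₁) F.card₁ F.sq₁ fun y hy hy' => by
      by_contra hne
      rw [not_or] at hne
      have hsub : ({1, D.z, y} : Set C) ⊆ (D.E ⊓ F.E₁ : Subgroup C) := by
        rintro w (rfl | rfl | rfl)
        · exact one_mem _
        · exact ⟨D.z_memE, hz ▸ F.z_mem₁⟩
        · exact ⟨hy, hy'⟩
      have h := Set.ncard_le_ncard hsub (Set.toFinite _)
      rw [← Nat.card_coe_set_eq ((D.E ⊓ F.E₁ : Subgroup C) : Set C),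
        Set.ncard_insert_of_notMem (by
          rintro (e | e)
          · exact D.z_ne e.symm
          · exact hne.1 e.symm),
        Set.ncard_pair (Ne.symm hne.2)] at h
      exact absurd (h.trans_eq hc) (by decide)
    exact ⟨F', e1, e2, e3, e4, e5 ▸ h1⟩
  · have hE : D.E = F.E₁ := by
      have ha := Subgroup.eq_of_le_of_card_ge (inf_le_left : D.E ⊓ F.E₁ ≤ D.E) (by rw [hc, D.E_card])
      have hb' := Subgroup.eq_of_le_of_card_ge (inf_le_right : D.E ⊓ F.E₁ ≤ F.E₁) (by rw [hc, F.card₁])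
      exact ha.symm.trans hb'
    obtain ⟨F', e1, e2, e3, e4, e5⟩ := key F.E₂ (hQ ▸ F.le₂) (hz ▸ F.z_mem₂) F.card₂ F.sq₂
      fun y hy hy' => hz ▸ F.inter y (hE ▸ hy) hy'
    exact ⟨F', e1, e2, e3, e4, e5 ▸ h2⟩
  · have := Subgroup.card_dvd_of_le (inf_le_left : D.E ⊓ F.E₁ ≤ D.E)
    rw [hc, D.E_card] at this
    norm_num at this

/-- Coordinates: the action on `Q` and the twist. -/
structure Co (D : NS C) where
  P : Duo C
  ρ : C →* L3
  n : C → F3
  hz : P.z = D.z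
  hQ : P.Q = D.Q
  hE : P.E₁ = D.E
  ρ_ker : ρ.ker = D.Q
  ρ_surj : Function.Surjective ρ
  conj : ∀ (c : C) (r v : F3), ∃ a, c * (P.W r * P.V v) * c⁻¹ =
    P.W (actV (ρ c) (n c) (r, v)).1 * P.V (actV (ρ c) (n c) (r, v)).2 * P.zp a
  n_four : ∀ c, ρ c = fourEl → n c = nFour
  n_mul : ∀ c d, n (c * d) = n c + (ρ c : M3) *ᵥ n d
  n_Q : ∀ c ∈ D.Q, n c = 0

set_option maxHeartbeats 1000000 in
theorem exists_co : ∃ _ : Co D, True := by
  classical
  obtain ⟨b, a0, hb, hφb, -⟩ := D.exists_seven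
  have hfree : D.Free b := ⟨hb, D.seven_fixed hb (by rw [hφb]; exact sevenEl_facts.2.1)⟩
  obtain ⟨F0, hF0z, hF0Q, -, hF0E, -⟩ := D.exists_cross hfree
  obtain ⟨P0, rfl⟩ := F0.exists_duo
  -- the coordinate of `Q` modulo `E`
  have hform0 : ∀ x ∈ D.Q, ∃ v : F3, ∃ e ∈ D.E, x = P0.V v * e := by
    intro x hx
    obtain ⟨r, v, c, e⟩ := P0.Q_form (hF0Q ▸ hx)
    refine ⟨v, P0.W r * P0.zp (r ⬝ᵥ v) * P0.zp c, hF0E ▸ mul_mem (mul_mem (P0.W_mem r) (P0.zp_mem₁ _)) (P0.zp_mem₁ _), ?_⟩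
    rw [e, P0.WV]; simp only [mul_assoc]
  have hEonly : ∀ v, P0.V v ∈ D.E → v = 0 := by
    intro v hv
    obtain ⟨r, c, e⟩ := P0.span₁ _ (hF0E ▸ hv)
    refine ((P0.eqz_inj (r := 0) (r' := r) (v' := 0) (a := c) ?_).2)
    rw [P0.W_zero, one_mul, P0.V_zero, mul_one]; exact e
  choose vc ec hec hvc using hform0
  have hV0sq : ∀ v, (P0.V v)⁻¹ = P0.V v := fun v => inv_eq_of_mul_eq_one_right (P0.sq₂ _ (P0.V_mem v))
  have hEn := D.E_normal
  have hvuniq : ∀ x (hx : x ∈ D.Q) v, ∀ e ∈ D.E, x = P0.V v * e → vc x hx = v := by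
    intro x hx v e he hxe
    have h : P0.V (v + vc x hx) = e * (ec x hx)⁻¹ := by
      have h' : P0.V (vc x hx) * ec x hx = P0.V v * e := (hvc x hx).symm.trans hxe
      calc P0.V (v + vc x hx) = (P0.V v)⁻¹ * (P0.V (vc x hx) * ec x hx) * (ec x hx)⁻¹ := by
            rw [P0.V_add, hV0sq]; group
        _ = e * (ec x hx)⁻¹ := by rw [h']; group
    have h0 := hEonly _ (h ▸ mul_mem he (inv_mem (hec x hx)))
    calc vc x hx = (v + vc x hx) + v := by rw [add_comm v, add_assoc, f3_add_self, add_zero]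
      _ = v := by rw [h0, zero_add]
  have hvmul : ∀ x y (hx : x ∈ D.Q) (hy : y ∈ D.Q), vc (x * y) (mul_mem hx hy) = vc x hx + vc y hy := by
    intro x y hx hy
    refine hvuniq _ _ _ ((P0.V (vc y hy))⁻¹ * ec x hx * P0.V (vc y hy) * ec y hy)
      (mul_mem (by simpa using hEn.conj_mem _ (hec x hx) (P0.V (vc y hy))⁻¹) (hec y hy)) ?_
    conv_lhs => rw [hvc x hx, hvc y hy]
    rw [P0.V_add]; group
  have hvE : ∀ x (hx : x ∈ D.E), vc x (D.E_le hx) = 0 := fun x hx =>
    hvuniq _ _ _ x hx (by rw [P0.V_zero, one_mul])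
  have hV0Q : ∀ v, P0.V v ∈ D.Q := fun v => hF0Q ▸ P0.V_mem_Q v
  have hvcongr : ∀ x y (hx : x ∈ D.Q) (hy : y ∈ D.Q), x = y → vc x hx = vc y hy := by
    intro x y hx hy e; subst e; rfl
  -- the action on the quotient
  let g : C → F3 → F3 := fun c v => vc (c * P0.V v * c⁻¹) (D.conj_mem c (hV0Q v))
  have hgadd : ∀ c v w, g c (v + w) = g c v + g c w := fun c v w => by
    show vc _ _ = vc _ _ + vc _ _
    rw [← hvmul (c * P0.V v * c⁻¹) (c * P0.V w * c⁻¹) (D.conj_mem c (hV0Q v)) (D.conj_mem c (hV0Q w))]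
    exact hvcongr _ _ (D.conj_mem c (hV0Q _)) (mul_mem (D.conj_mem c (hV0Q v)) (D.conj_mem c (hV0Q w)))
      (by rw [P0.V_add]; group)
  have hgvc : ∀ c x (hx : x ∈ D.Q), vc (c * x * c⁻¹) (D.conj_mem c hx) = g c (vc x hx) := by
    intro c x hx
    have e : c * x * c⁻¹ = c * P0.V (vc x hx) * c⁻¹ * (c * ec x hx * c⁻¹) := by
      conv_lhs => rw [hvc x hx]
      group
    rw [hvcongr _ _ _ (mul_mem (D.conj_mem c (hV0Q _)) (D.conj_mem c (D.E_le (hec x hx)))) e,
      hvmul _ _ (D.conj_mem c (hV0Q _)) (D.conj_mem c (D.E_le (hec x hx))),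
      hvE _ (hEn.conj_mem _ (hec x hx) c), add_zero]
  have hgmul : ∀ c d v, g (c * d) v = g c (g d v) := fun c d v => by
    show vc _ _ = g c (vc _ _)
    rw [← hgvc]
    exact hvcongr _ _ _ _ (by group)
  have hgone : ∀ v, g 1 v = v := fun v =>
    hvuniq _ _ _ 1 (one_mem _) (by group)
  let L : C → (F3 →ₗ[ZMod 2] F3) := fun c =>
    { toFun := g c
      map_add' := hgadd c
      map_smul' := fun t v => by
        rcases bit_cases t with rfl | rfl
        · simp only [zero_smul, RingHom.id_apply]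
          have := hgadd c 0 0
          rw [add_zero] at this
          exact add_eq_left.1 this.symm
        · simp only [one_smul, RingHom.id_apply] }
  have hLm : ∀ c v, LinearMap.toMatrix' (L c) *ᵥ v = g c v := fun c v => by
    rw [← Matrix.toLin'_apply, Matrix.toLin'_toMatrix']; rfl
  have hmmul : ∀ c d, LinearMap.toMatrix' (L (c * d)) = LinearMap.toMatrix' (L c) * LinearMap.toMatrix' (L d) := by
    intro c d
    refine Matrix.ext_of_mulVec_single fun i => ?_
    rw [← mulVec_mulVec, hLm, hLm, hLm, hgmul]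
  have hmone : LinearMap.toMatrix' (L 1) = 1 :=
    Matrix.ext_of_mulVec_single fun i => by rw [hLm, hgone, one_mulVec]
  let ρ : C →* L3 :=
    { toFun := fun c => ⟨LinearMap.toMatrix' (L c), (by decide : ∀ x y : ZMod 2, x * y = 1 → x = 1) _ _
          (by rw [← det_mul, ← hmmul, mul_inv_cancel, hmone, det_one])⟩
      map_one' := Subtype.ext hmone
      map_mul' := fun c d => Subtype.ext (hmmul c d) }
  have hρv : ∀ c v, (ρ c : M3) *ᵥ v = g c v := hLm
  have hρQ : D.Q ≤ ρ.ker := fun q hq => MonoidHom.mem_ker.2 (Subtype.ext (Matrix.ext_of_mulVec_single fun i => by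
    show (ρ q : M3) *ᵥ Pi.single i 1 = (1 : M3) *ᵥ Pi.single i 1
    rw [hρv, one_mulVec]
    refine hvuniq _ _ _ (D.zp (Cross.pr q (P0.V (Pi.single i 1)))) ?_ (D.conj_inner hq (hV0Q _))
    exact pw_mem _ D.z_memE _))
  have hρker : ρ.ker = D.Q := by
    refine le_antisymm ?_ hρQ
    have hn : ((ρ.ker).map D.φ).Normal := Subgroup.Normal.map (MonoidHom.normal_ker ρ) _ D.surj
    rcases l3_normal ((ρ.ker).map D.φ) with h | h
    · intro c hc
      rw [← D.ker, MonoidHom.mem_ker, ← Subgroup.mem_bot, ← h]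
      exact ⟨c, hc, rfl⟩
    · exfalso
      obtain ⟨c, hc, hcb⟩ := h.ge (Subgroup.mem_top (D.φ b))
      have hbker : b ∈ ρ.ker := by
        have hq : c⁻¹ * b ∈ D.Q := by
          rw [← D.ker, MonoidHom.mem_ker, map_mul, map_inv, hcb, inv_mul_cancel]
        have := mul_mem hc (hρQ hq)
        rwa [mul_inv_cancel_left] at this
      -- `b` fixes every coset of `E`
      have hcoset : ∀ v, ∃ e ∈ D.E, b * P0.V v * b⁻¹ = P0.V v * e := fun v => by
        have h1 : g b v = v := by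
          rw [← hρv, MonoidHom.mem_ker.1 hbker]; exact one_mulVec v
        refine ⟨ec _ (D.conj_mem b (hV0Q v)), hec _ _, ?_⟩
        have h2 := hvc _ (D.conj_mem b (hV0Q v))
        rwa [show vc _ (D.conj_mem b (hV0Q v)) = v from h1] at h2
      set v1 : F3 := ![1, 0, 0] with hv1
      obtain ⟨e, he, hbe⟩ := hcoset v1
      have hiter : ∀ n : ℕ, ∃ e ∈ D.E, b ^ n * P0.V v1 * (b ^ n)⁻¹ = P0.V v1 * e := by
        intro n
        induction n with
        | zero => exact ⟨1, one_mem _, by group⟩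
        | succ n ih =>
          obtain ⟨e', he', hn'⟩ := ih
          refine ⟨e * (b * e' * b⁻¹), mul_mem he (hEn.conj_mem _ he' b), ?_⟩
          calc b ^ (n + 1) * P0.V v1 * (b ^ (n + 1))⁻¹ = b * (b ^ n * P0.V v1 * (b ^ n)⁻¹) * b⁻¹ := by
                rw [pow_succ']; group
            _ = b * P0.V v1 * b⁻¹ * (b * e' * b⁻¹) := by rw [hn']; group
            _ = _ := by rw [hbe, mul_assoc]
      have hp : ∀ n, ∃ e ∈ D.E, D.orbProd b (P0.V v1) n = P0.V ((n : ZMod 2) • v1) * e := by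
        intro n
        induction n with
        | zero => exact ⟨1, one_mem _, by rw [Base.orbProd_zero, Nat.cast_zero, zero_smul, P0.V_zero, mul_one]⟩
        | succ n ih =>
          obtain ⟨e1, he1, h1⟩ := ih
          obtain ⟨e2, he2, h2⟩ := hiter n
          refine ⟨(P0.V v1)⁻¹ * e1 * P0.V v1 * e2,
            mul_mem (by simpa using hEn.conj_mem _ he1 (P0.V v1)⁻¹) he2, ?_⟩
          rw [Base.orbProd_succ, h1, h2, Nat.cast_succ, add_smul, one_smul, P0.V_add]; group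
      obtain ⟨e7, he7, h7⟩ := hp 7
      rw [show ((7 : ℕ) : ZMod 2) = 1 by decide, one_smul] at h7
      have hmem : P0.V v1 ∈ D.E := by
        have hfix := hfree.2 _ (D.orbProd_mem b (hV0Q v1) 7) (D.orbProd_fixed hb (hV0Q v1))
        have hPE : D.orbProd b (P0.V v1) 7 ∈ D.E := by
          rcases hfix with e' | e' <;> rw [e']
          · exact one_mem _
          · exact D.z_memE
        rw [h7] at hPE
        simpa using mul_mem hPE (inv_mem he7)
      exact absurd (congrFun (hEonly _ hmem) 0) (by simp [hv1])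
  have hρsurj : Function.Surjective ρ := by
    refine MonoidHom.range_eq_top.1 (Subgroup.eq_top_of_card_eq _ ?_)
    rw [← Subgroup.index_ker, hρker, ← D.ker, Subgroup.index_ker, MonoidHom.range_eq_top.2 D.surj,
      Subgroup.card_top]
  -- an element of order seven with standard image, and the complement it fixes
  obtain ⟨y, hy⟩ := hρsurj (sevenEl ^ 4)
  have hy7 : y ^ 7 ∈ D.Q := by
    rw [← hρker, MonoidHom.mem_ker, map_pow, hy, ← pow_mul, mul_comm, pow_mul, sevenEl_facts.1, one_pow]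
  set b' := y ^ 128 with hb'
  have hb'7 : b' ^ 7 = 1 := by
    have h : (⟨y ^ 7, hy7⟩ : D.Q) ^ Nat.card D.Q = 1 := pow_card_eq_one'
    have h' := congrArg Subtype.val h
    rw [SubgroupClass.coe_pow, D.card, Subgroup.coe_one] at h'
    rw [hb', ← pow_mul, mul_comm, pow_mul]
    exact h'
  have hρb' : ρ b' = sevenEl := by
    rw [hb', map_pow, hy, ← pow_mul, show 4 * 128 = 7 * 73 + 1 from rfl, pow_succ, pow_mul, sevenEl_facts.1,
      one_pow, one_mul]
  have hφb' : D.φ b' ≠ 1 := fun e => by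
    have : b' ∈ ρ.ker := by rw [hρker, ← D.ker]; exact e
    rw [MonoidHom.mem_ker, hρb'] at this
    exact sevenEl_facts.2.1 this
  obtain ⟨F, hFz, hFQ, -, hFE, hFb⟩ := D.exists_cross ⟨hb'7, D.seven_fixed hb'7 hφb'⟩
  obtain ⟨U, hUa, hUm, hUk, hUs⟩ := exists_frame F.E₂ F.card₂ F.sq₂ F.z_mem₂ F.z_ne
  let gU : F3 → F3 := fun v => vc (U v) (hFQ ▸ F.le₂ (hUm v))
  have hgUadd : ∀ v w, gU (v + w) = gU v + gU w := fun v w => by
    show vc _ _ = vc _ _ + vc _ _
    rw [← hvmul]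
    exact hvcongr _ _ _ _ (hUa v w)
  have hgUinj : Function.Injective gU := by
    intro v w e
    have h0 : gU (v + w) = 0 := by rw [hgUadd, e, f3_add_self]
    have hmem : U (v + w) ∈ D.E := by
      have := hvc (U (v + w)) (hFQ ▸ F.le₂ (hUm _))
      rw [show vc (U (v + w)) _ = 0 from h0, P0.V_zero, one_mul] at this
      rw [this]; exact hec _ _
    have hvw : v + w = 0 := by
      rcases F.inter _ (hFE ▸ hmem) (hUm _) with h | h
      · exact (hUk (v + w) 0 (by rw [pw_zero, mul_one, h])).1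
      · exact absurd (hUk (v + w) 1 (by rw [pw_one, h, F.z_sq])).2 (by decide)
    calc v = v + (w + w) := by rw [f3_add_self, add_zero]
      _ = w := by rw [← add_assoc, hvw, zero_add]
  let eU := Equiv.ofBijective gU (hgUinj.bijective_of_nat_card_le le_rfl)
  have heU : ∀ v, gU (eU.symm v) = v := fun v => eU.apply_symm_apply v
  let V : F3 → C := fun v => U (eU.symm v)
  obtain ⟨W, hW1, hW2, hW3, hW4⟩ := F.exists_W_of V
    (fun r s => by
      show U _ = U _ * U _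
      rw [← hUa]
      exact congrArg U (hgUinj (by rw [heU, hgUadd, heU, heU])))
    (fun v => hUm _)
    (fun v t h => by
      obtain ⟨h1, h2⟩ := hUk _ t h
      refine ⟨?_, h2⟩
      rw [← heU v, h1]
      have := hgUadd 0 0
      rw [add_zero] at this
      exact add_eq_left.1 this.symm)
    (fun x hx => by
      obtain ⟨v, t, h⟩ := hUs x hx
      exact ⟨gU v, t, by
        show x = U (eU.symm (gU v)) * F.zp t
        rw [show eU.symm (gU v) = v from eU.symm_apply_apply v]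
        exact h⟩)
  let P : Duo C :=
    { F with
      W := W
      V := V
      W_add := hW1
      V_add := fun r s => by
        show U _ = U _ * U _
        rw [← hUa]
        exact congrArg U (hgUinj (by rw [heU, hgUadd, heU, heU]))
      W_mem := hW2
      V_mem := fun v => hUm _
      pr_WV := hW3
      span₁ := hW4
      span₂ := fun x hx => by
        obtain ⟨v, t, h⟩ := hUs x hx
        exact ⟨gU v, t, by
          show x = U (eU.symm (gU v)) * F.zp t
          rw [show eU.symm (gU v) = v from eU.symm_apply_apply v]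
          exact h⟩ }
  have hPE : P.E₁ = D.E := hFE
  have hPQ : P.Q = D.Q := hFQ
  have hPz : P.z = D.z := hFz
  have hzpE : ∀ t, P.zp t ∈ D.E := fun t => hPE ▸ P.zp_mem₁ t
  have hzpeq : ∀ t, P.zp t = D.zp t := fun t => by show pw P.z t = pw D.z t; rw [hPz]
  -- the first coordinate of an element of `Q`
  have hsecond : ∀ r v t (h : P.W r * P.V v * P.zp t ∈ D.Q), vc (P.W r * P.V v * P.zp t) h = v := by
    intro r v t h
    have h1 : P.W r ∈ D.E := hPE ▸ P.W_mem r
    have h2 : P.V v ∈ D.Q := hPQ ▸ P.V_mem_Q v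
    rw [hvmul _ _ (mul_mem (D.E_le h1) h2) (D.E_le (hzpE t)), hvmul _ _ (D.E_le h1) h2, hvE _ h1, hvE _ (hzpE t),
      zero_add, add_zero]
    exact heU v
  -- the twist
  have htwist : ∀ c, ∃ n : F3, ∀ v, ∃ t, c * P.V v * c⁻¹ =
      P.W (crossProduct n ((ρ c : M3) *ᵥ v)) * P.V ((ρ c : M3) *ᵥ v) * P.zp t := by
    intro c
    have hq : ∀ v, c * P.V v * c⁻¹ ∈ P.Q := fun v => hPQ.symm ▸ D.conj_mem c (hPQ ▸ P.V_mem_Q v)
    choose κ w t hκ using fun v => P.Q_form (hq v)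
    have hw : ∀ v, w v = (ρ c : M3) *ᵥ v := fun v => by
      have h1 : c * P.V v * c⁻¹ ∈ D.Q := hPQ ▸ hq v
      rw [hρv]
      have h2 := hsecond (κ v) (w v) (t v) (hκ v ▸ h1)
      rw [hvcongr _ _ _ h1 (hκ v).symm, hgvc c (P.V v) (hPQ ▸ P.V_mem_Q v)] at h2
      rw [← h2]
      exact congrArg (g c) (heU v)
    have hκadd : ∀ v v', κ (v + v') = κ v + κ v' := fun v v' => by
      obtain ⟨s, hs⟩ := P.form_mul (κ v) (w v) (κ v') (w v')
      obtain ⟨s', hs'⟩ := P.eqz_mul (x := c * P.V v * c⁻¹) (y := c * P.V v' * c⁻¹) ⟨t v, hκ v⟩ ⟨t v', hκ v'⟩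
      refine (P.eqz_inj (v := w (v + v')) (v' := w v + w v') (a := s + s' + t (v + v')) ?_).1
      have e : c * P.V (v + v') * c⁻¹ = c * P.V v * c⁻¹ * (c * P.V v' * c⁻¹) := by rw [P.V_add]; group
      rw [hκ (v + v'), hs', hs] at e
      calc P.W (κ (v + v')) * P.V (w (v + v'))
          = P.W (κ (v + v')) * P.V (w (v + v')) * P.zp (t (v + v')) * P.zp (t (v + v')) := by
            rw [mul_assoc _ (P.zp _), ← P.zp_add, bit_add_self, P.zp_zero, mul_one]
        _ = _ := by rw [e, mul_assoc _ (P.zp s), ← P.zp_add, mul_assoc _ (P.zp _), ← P.zp_add]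
    have hsing : ∀ v, κ v ⬝ᵥ w v = 0 := fun v => P.zp_inj (by
      rw [← P.sq_form (κ v) (w v) (t v), ← hκ v, P.zp_zero,
        show c * P.V v * c⁻¹ * (c * P.V v * c⁻¹) = c * (P.V v * P.V v) * c⁻¹ by group,
        P.sq₂ _ (P.V_mem v), mul_one, mul_inv_cancel])
    let m : F3 → F3 := fun u => κ (((ρ c)⁻¹ : L3).1 *ᵥ u)
    have hm : ∀ u, m u = u 0 • m ![1, 0, 0] + u 1 • m ![0, 1, 0] + u 2 • m ![0, 0, 1] := by
      intro u
      have hmadd : ∀ a b, m (a + b) = m a + m b := fun a b => by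
        show κ _ = κ _ + κ _
        rw [mulVec_add, hκadd]
      have hm0 : m 0 = 0 := by
        have := hmadd 0 0
        rw [add_zero] at this
        exact add_eq_left.1 this.symm
      have hsm : ∀ (s : ZMod 2) (a : F3), m (s • a) = s • m a := fun s a => by
        rcases bit_cases s with rfl | rfl
        · rw [zero_smul, zero_smul, hm0]
        · rw [one_smul, one_smul]
      have hu : u = u 0 • ![1, 0, 0] + u 1 • ![0, 1, 0] + u 2 • ![0, 0, 1] := by
        funext i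
        fin_cases i <;> simp
      conv_lhs => rw [hu]
      rw [hmadd, hmadd, hsm, hsm, hsm]
    obtain ⟨n, hn⟩ := cross_of_alt (m ![1, 0, 0], m ![0, 1, 0], m ![0, 0, 1]) fun u => by
      rw [← hm u]
      have h := hsing (((ρ c)⁻¹ : L3).1 *ᵥ u)
      rwa [hw, mulVec_mulVec, ← Matrix.SpecialLinearGroup.coe_mul, mul_inv_cancel,
        Matrix.SpecialLinearGroup.coe_one, one_mulVec] at h
    refine ⟨n, fun v => ⟨t v, ?_⟩⟩
    rw [← hn, ← hm]
    show _ = P.W (κ (_ *ᵥ ((ρ c : M3) *ᵥ v))) * _ * _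
    rw [mulVec_mulVec, ← Matrix.SpecialLinearGroup.coe_mul, inv_mul_cancel, Matrix.SpecialLinearGroup.coe_one,
      one_mulVec, ← hw]
    exact hκ v
  choose n hn using htwist
  have hW : ∀ c r, ∃ t, c * P.W r * c⁻¹ = P.W (r ᵥ* (((ρ c)⁻¹ : L3) : M3)) * P.zp t := by
    intro c r
    obtain ⟨r', t, h⟩ := P.span₁ _ (hPE.symm ▸ hEn.conj_mem _ (hPE ▸ P.W_mem r) c)
    refine ⟨t, ?_⟩
    rw [h]
    congr 2
    refine dotProduct_eq _ _ fun u => ?_
    set v := (((ρ c)⁻¹ : L3) : M3) *ᵥ u with hv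
    have hu : (ρ c : M3) *ᵥ v = u := by
      rw [hv, mulVec_mulVec, ← Matrix.SpecialLinearGroup.coe_mul, mul_inv_cancel,
        Matrix.SpecialLinearGroup.coe_one, one_mulVec]
    rw [← dotProduct_mulVec, ← hv]
    obtain ⟨s, hs⟩ := hn c v
    have hWQ : ∀ a, P.W a ∈ D.Q := fun a => D.E_le (hPE ▸ P.W_mem a)
    have hVQ : ∀ a, P.V a ∈ D.Q := fun a => hPQ ▸ P.V_mem_Q a
    have h1 : Cross.pr (c * P.W r * c⁻¹) (c * P.V v * c⁻¹) = r ⬝ᵥ v := by
      rw [D.pr_conj c (hWQ r) (hVQ v), P.pr_WV]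
    have hzero : Cross.pr (P.W r') (P.W (crossProduct (n c) u)) = 0 :=
      if_pos (P.comm₁ (P.W_mem _) (P.W_mem _))
    rw [← h1, h, hs, hu, hzpeq, hzpeq, D.pr_zp (hWQ r') (mul_mem (mul_mem (hWQ _) (hVQ _)) (D.zp_mem _)),
      D.pr_right' (hWQ r') (mul_mem (hWQ _) (hVQ _)) (D.zp_mem _), D.pr_right' (hWQ r') (hWQ _) (hVQ _), hzero,
      P.pr_WV, Base.pr_symm, D.pr_eq_zero (D.zp_eq_one_or s), zero_add, add_zero]
  have hconj : ∀ (c : C) (r v : F3), ∃ t, c * (P.W r * P.V v) * c⁻¹ =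
      P.W (actV (ρ c) (n c) (r, v)).1 * P.V (actV (ρ c) (n c) (r, v)).2 * P.zp t := by
    intro c r v
    obtain ⟨s1, h1⟩ := hW c r
    obtain ⟨s2, h2⟩ := hn c v
    refine ⟨s1 + s2, ?_⟩
    calc c * (P.W r * P.V v) * c⁻¹ = c * P.W r * c⁻¹ * (c * P.V v * c⁻¹) := by group
      _ = _ := by
        rw [h1, h2, mul_assoc (P.W _) (P.zp s1), ← mul_assoc (P.zp s1), P.zp_comm s1, mul_assoc _ (P.zp s1),
          ← P.zp_add, ← mul_assoc, ← mul_assoc, ← P.W_add]
        rfl
  have hnuniq : ∀ c (m : F3), (∀ v, ∃ t, c * P.V v * c⁻¹ =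
      P.W (crossProduct m ((ρ c : M3) *ᵥ v)) * P.V ((ρ c : M3) *ᵥ v) * P.zp t) → n c = m := by
    intro c m hm
    have h0 : n c + m = 0 := cross_zero _ fun u => by
      obtain ⟨t1, h1⟩ := hn c ((((ρ c)⁻¹ : L3) : M3) *ᵥ u)
      obtain ⟨t2, h2⟩ := hm ((((ρ c)⁻¹ : L3) : M3) *ᵥ u)
      rw [mulVec_mulVec, ← Matrix.SpecialLinearGroup.coe_mul, mul_inv_cancel,
        Matrix.SpecialLinearGroup.coe_one, one_mulVec] at h1 h2
      have e := (P.form_inj (h1.symm.trans h2)).1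
      rw [map_add, LinearMap.add_apply, e, f3_add_self]
    calc n c = n c + m + m := by rw [add_assoc, f3_add_self, add_zero]
      _ = m := by rw [h0, zero_add]
  have hnmul : ∀ c d, n (c * d) = n c + (ρ c : M3) *ᵥ n d := fun c d => hnuniq _ _ fun v => by
    obtain ⟨s1, h1⟩ := hn d v
    obtain ⟨s2, h2⟩ := hconj c (crossProduct (n d) ((ρ d : M3) *ᵥ v)) ((ρ d : M3) *ᵥ v)
    refine ⟨s2 + s1, ?_⟩
    calc c * d * P.V v * (c * d)⁻¹ = c * (d * P.V v * d⁻¹) * c⁻¹ := by group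
      _ = c * (P.W (crossProduct (n d) ((ρ d : M3) *ᵥ v)) * P.V ((ρ d : M3) *ᵥ v)) * (P.zp s1 * c⁻¹) := by
          rw [h1]; group
      _ = c * (P.W (crossProduct (n d) ((ρ d : M3) *ᵥ v)) * P.V ((ρ d : M3) *ᵥ v)) * c⁻¹ * P.zp s1 := by
          rw [P.zp_comm]; group
      _ = _ := by
          rw [h2, mul_assoc _ (P.zp s2), ← P.zp_add, map_mul, Matrix.SpecialLinearGroup.coe_mul]
          simp only [actV, ← mulVec_mulVec, ← cross_trans, map_add, LinearMap.add_apply]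
          rw [add_comm (crossProduct ((ρ c : M3) *ᵥ n d) _)]
  have hnQ : ∀ q ∈ D.Q, n q = 0 := fun q hq => hnuniq _ _ fun v => ⟨Cross.pr q (P.V v), by
    rw [show ρ q = 1 from MonoidHom.mem_ker.1 (hρQ hq), Matrix.SpecialLinearGroup.coe_one, one_mulVec, map_zero,
      LinearMap.zero_apply, P.W_zero, one_mul, hzpeq]
    exact D.conj_inner hq (hPQ ▸ P.V_mem_Q v)⟩
  have hnb : n b' = 0 := hnuniq _ _ fun v => by
    obtain ⟨w, t, h⟩ := P.span₂ _ (hFb _ (P.V_mem v))
    have e := hn b' v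
    obtain ⟨s, hs⟩ := e
    refine ⟨t, ?_⟩
    have e0 : P.W 0 * P.V w * P.zp t = P.W (crossProduct (n b') ((ρ b' : M3) *ᵥ v)) *
        P.V ((ρ b' : M3) *ᵥ v) * P.zp s := by
      rw [P.W_zero, one_mul]; exact h.symm.trans hs
    rw [map_zero, LinearMap.zero_apply, P.W_zero, one_mul, ← (P.form_inj e0).2.1]
    exact h
  obtain ⟨f, hf⟩ := hρsurj fourEl
  have hnf : n f = 0 ∨ n f = nFour := by
    refine word_check _ ?_
    have hw : f * (f * (f * (b' * (b' * (b' * (f * (b' * (f * (b' * (b' * b')))))))))) ∈ D.Q := by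
      rw [← hρker, MonoidHom.mem_ker]
      simp only [map_mul, hf, hρb', word_one]
    have h := hnQ _ hw
    simpa only [hnmul, hf, hρb', hnb, mulVec_zero, add_zero, zero_add] using h
  rcases hnf with hf0 | hf1
  · -- otherwise the complement is normal
    exfalso
    let H : Subgroup C :=
      { carrier := {c | n c = 0}
        mul_mem' := fun {c d} hc hd => by
          show n (c * d) = 0
          rw [hnmul, show n c = 0 from hc, show n d = 0 from hd, mulVec_zero, add_zero]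
        one_mem' := hnQ 1 (one_mem _)
        inv_mem' := fun {c} hc => by
          have h := hnmul c⁻¹ c
          rw [inv_mul_cancel, hnQ 1 (one_mem _), show n c = 0 from hc, mulVec_zero, add_zero] at h
          exact h.symm }
    have htop : ∀ c, n c = 0 := fun c => by
      have hm : H.map ρ = ⊤ := l3_top _ ⟨f, hf0, hf⟩ ⟨b', hnb, hρb'⟩
      obtain ⟨d, hd, hdc⟩ := hm.ge (Subgroup.mem_top (ρ c))
      have hq : d⁻¹ * c ∈ D.Q := by rw [← hρker, MonoidHom.mem_ker, map_mul, map_inv, hdc, inv_mul_cancel]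
      have := H.mul_mem hd (show d⁻¹ * c ∈ H from hnQ _ hq)
      rwa [mul_inv_cancel_left] at this
    set v1 : F3 := ![1, 0, 0] with hv1
    have hx : P.V v1 ∈ D.Q := hPQ ▸ P.V_mem_Q v1
    have hxE : P.V v1 ∉ D.E := fun h => by
      have h1 : vc (P.V v1) hx = 0 := hvE _ h
      rw [show vc (P.V v1) hx = v1 from heU v1] at h1
      exact absurd (congrFun h1 0) (by simp [hv1])
    have hsub : Base.conjs (P.V v1) ⊆ (P.E₂ : Set C) := by
      rintro _ ⟨c, rfl⟩
      obtain ⟨t, ht⟩ := hn c v1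
      show c * P.V v1 * c⁻¹ ∈ P.E₂
      rw [ht, htop c, map_zero, LinearMap.zero_apply, P.W_zero, one_mul]
      exact mul_mem (P.V_mem _) (P.zp_mem₂ t)
    have hle := Set.ncard_le_ncard hsub (Set.toFinite _)
    rw [(D.trans _ hx (P.sq₂ _ (P.V_mem v1)) hxE).1, ← Nat.card_coe_set_eq] at hle
    exact absurd (hle.trans_eq P.card₂) (by decide)
  · refine ⟨{ P := P, ρ := ρ, n := n, hz := hPz, hQ := hPQ, hE := hPE, ρ_ker := hρker, ρ_surj := hρsurj,
              conj := hconj, n_mul := hnmul, n_Q := hnQ, n_four := fun c hc => ?_ }, trivial⟩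
    have hq : f⁻¹ * c ∈ D.Q := by rw [← hρker, MonoidHom.mem_ker, map_mul, map_inv, hc, hf, inv_mul_cancel]
    rw [show c = f * (f⁻¹ * c) by group, hnmul, hnQ _ hq, mulVec_zero, add_zero, hf1]

end NS

end Cfsg.Agent.H85.Held
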