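import Cfsg.Agent.H85.Held.NSOut
import Cfsg.Agent.H85.Held.Fus

/-!
# The elementary subgroup in the non-split case
-/

set_option autoImplicit false
set_option linter.unusedSectionVars false

namespace Cfsg.Agent.H85.Held

open Matrix

universe u

namespace NS

variable {C : Type u} [Group C] [Finite C] (D : NS C)

/-- The non-central elements of the elementary subgroup are conjugate. -/
theorem E_orbit {x y : C} (hx : x ∈ D.E) (hx1 : x ≠ 1) (hxz : x ≠ D.z) (hy : y ∈ D.E) (hy1 : y ≠ 1)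
    (hyz : y ≠ D.z) : ∃ c, c * x * c⁻¹ = y := by
  let X : Set C := {w | w ∈ D.E ∧ w ≠ 1 ∧ w ≠ D.z}
  have hX : X ⊆ D.inv := fun w hw => ⟨D.E_le hw.1, D.E_sq w hw.1, hw.2.1, hw.2.2⟩
  have hinv : ∀ c : C, ∀ w ∈ X, c * w * c⁻¹ ∈ X := fun c w hw =>
    ⟨D.E_normal.conj_mem w hw.1 c, (D.inv_conj c (hX hw)).2.2.1, (D.inv_conj c (hX hw)).2.2.2⟩
  have hc : X.ncard ≤ 14 := by
    have h : X = (D.E : Set C) \ {1, D.z} := by
      ext w
      show (w ∈ D.E ∧ w ≠ 1 ∧ w ≠ D.z) ↔ _
      simp [not_or]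
    rw [h, Set.ncard_sdiff (by
      rintro w (rfl | rfl)
      · exact one_mem _
      · exact D.z_memE) (Set.toFinite _), ← Nat.card_coe_set_eq (D.E : Set C)]
    have hh : Nat.card ↥(D.E : Set C) = 16 := D.E_card
    rw [hh, Set.ncard_pair (Ne.symm D.z_ne)]
  obtain ⟨h1, -, -⟩ := Base.conjs_facts hinv (show x ∈ X from ⟨hx, hx1, hxz⟩)
  have h14 : 14 ≤ (Base.conjs x).ncard := by
    rcases D.orbit_sizes hX hinv (show x ∈ X from ⟨hx, hx1, hxz⟩) with e | e | e | e <;> omega
  have := Set.eq_of_subset_of_ncard_le h1 (hc.trans h14) (Set.toFinite _)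
  exact this.ge ⟨hy, hy1, hyz⟩

/-- The elementary subgroup is self-centralising. -/
theorem cent_E {c : C} (hc : ∀ e ∈ D.E, c * e = e * c) : c ∈ D.E := by
  obtain ⟨K, -⟩ := D.exists_co
  have hcQ : c ∈ D.Q := by
    refine K.ρ_ker.le (MonoidHom.mem_ker.2 (Subtype.ext (Matrix.ext_of_mulVec_single fun i => ?_)))
    rw [Matrix.SpecialLinearGroup.coe_one, one_mulVec]
    refine dotProduct_eq _ _ fun r => ?_
    rw [dotProduct_comm, dotProduct_mulVec, dotProduct_comm (Pi.single i (1 : ZMod 2))]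
    congr 1
    obtain ⟨a, ha⟩ := K.conj c r 0
    simp only [actV, mulVec_zero, map_zero, add_zero, K.P.V_zero, mul_one] at ha
    rw [hc _ (K.hE ▸ K.P.W_mem r), mul_inv_cancel_right] at ha
    have e := (K.P.W_mul_zp_eq (r := r) (r' := r ᵥ* (((K.ρ c)⁻¹ : L3) : M3)) (a := 0) (b := a)
      (by rw [K.P.zp_zero, mul_one]; exact ha)).1
    conv_lhs => rw [e]
    rw [vecMul_vecMul, ← Matrix.SpecialLinearGroup.coe_mul, inv_mul_cancel, Matrix.SpecialLinearGroup.coe_one,
      vecMul_one]
  obtain ⟨r, v, t, rfl⟩ := K.P.Q_form (K.hQ.symm ▸ hcQ)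
  have hv : v = 0 := dotProduct_eq _ _ fun r' => by
    rw [zero_dotProduct, dotProduct_comm, ← K.P.pr_WV]
    have h := hc _ (K.hE ▸ K.P.W_mem r')
    refine if_pos ?_
    have h1 : K.P.W r * (K.P.V v * K.P.W r') * K.P.zp t = K.P.W r * (K.P.W r' * K.P.V v) * K.P.zp t := by
      calc K.P.W r * (K.P.V v * K.P.W r') * K.P.zp t = K.P.W r * K.P.V v * (K.P.W r' * K.P.zp t) := by group
        _ = K.P.W r * K.P.V v * K.P.zp t * K.P.W r' := by rw [← K.P.zp_comm]; group
        _ = K.P.W r' * (K.P.W r * K.P.V v * K.P.zp t) := h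
        _ = K.P.W r' * K.P.W r * K.P.V v * K.P.zp t := by group
        _ = K.P.W r * (K.P.W r' * K.P.V v) * K.P.zp t := by
            rw [K.P.comm₁ (K.P.W_mem r') (K.P.W_mem r)]; group
    exact (mul_left_cancel (mul_right_cancel h1)).symm
  rw [hv, K.P.V_zero, mul_one]
  exact K.hE ▸ mul_mem (K.P.W_mem r) (K.P.zp_mem₁ t)

/-- A non-central involution of `Q` outside the elementary subgroup. -/
theorem exists_out : ∃ x ∈ D.Q, x * x = 1 ∧ x ∉ D.E := by
  by_contra h
  simp only [not_exists, not_and, not_not] at h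
  have hsub : D.inv ⊆ (D.E : Set C) := fun x hx => h x hx.1 hx.2.1
  have hle := Set.ncard_le_ncard hsub (Set.toFinite _)
  rw [D.card_inv, ← Nat.card_coe_set_eq] at hle
  exact absurd (hle.trans_eq D.E_card) (by decide)

/-- An element with its many fixed vectors in the elementary subgroup. -/
theorem fixed_E {x : C} (hx : x ∈ D.Q) : 8 ≤ {e : C | e ∈ D.E ∧ x * e = e * x}.ncard := by
  let f : D.E →* Multiplicative (ZMod 2) :=
    MonoidHom.mk' (fun y => Multiplicative.ofAdd (Cross.pr (y : C) x)) fun y y' => by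
      rw [Subgroup.coe_mul, D.pr_left (D.E_le y.2) (D.E_le y'.2) hx]; rfl
  have hk := f.ker.card_mul_index
  rw [D.E_card] at hk
  have hi : f.ker.index ≤ 2 := by
    rw [Subgroup.index_ker]
    have hd : Nat.card f.range ∣ 2 := by
      have := Subgroup.card_subgroup_dvd_card f.range
      rwa [Nat.card_congr Multiplicative.toAdd, Nat.card_zmod] at this
    exact Nat.le_of_dvd (by norm_num) hd
  have h8 : 8 ≤ Nat.card f.ker := by nlinarith
  refine h8.trans ?_
  rw [← Nat.card_coe_set_eq]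
  refine Nat.card_le_card_of_injective (fun y => ⟨((y : D.E) : C), (y : D.E).2, ?_⟩) fun a b e =>
    Subtype.ext (Subtype.ext (congrArg (fun p : {e : C | e ∈ D.E ∧ x * e = e * x} => (p : C)) e))
  by_contra h
  exact absurd ((if_neg fun h' => h h'.symm).symm.trans (congrArg Multiplicative.toAdd (MonoidHom.mem_ker.1 y.2)))
    (by decide)

end NS

/-- The non-split data inside the whole group. -/
structure AmbNS {G : Type u} [Group G] (z₀ : G) extends Amb z₀ where
  N : NS ↥(Subgroup.centralizer ({z₀} : Set G))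
  hN : N.toBase = toAmb.toBase

namespace AmbNS

variable {G : Type u} [Group G] [Finite G] {z : G} (A : AmbNS z)

theorem hzN : A.N.z = A.z := congrArg Base.z A.hN

theorem hQN : A.N.Q = A.Q := congrArg Base.Q A.hN

theorem no_inner {g : G} {x : ↥(Subgroup.centralizer ({z} : Set G))} (hx : x ∈ A.Q) (hg : g * z * g⁻¹ = x)
    (hne : x ≠ A.z) : x ∈ A.N.E := by
  classical
  by_contra hxE
  obtain ⟨y, hy, hye⟩ := A.sym hx hg hne
  obtain ⟨y', hy', hy2, hy1, hyz⟩ := A.other hg hne
  obtain rfl : y' = y := Subtype.ext (hy'.symm.trans hye)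
  have hx2 : x * x = 1 := Subtype.ext (by
    show (x : G) * x = 1
    rw [← hg, show g * z * g⁻¹ * (g * z * g⁻¹) = g * (z * z) * g⁻¹ by group, A.z_sqG]; group)
  -- conjugates of `Q` centralising both involutions
  let N : Subgroup ↥(Subgroup.centralizer ({z} : Set G)) :=
    (A.P.map (MulAut.conj g).toMonoidHom).comap (Subgroup.centralizer ({z} : Set G)).subtype
  have hmemN : ∀ c, c ∈ N → ∃ q ∈ A.Q, g * (q : G) * g⁻¹ = (c : G) := by
    rintro c ⟨_, ⟨q, hq, rfl⟩, e⟩; exact ⟨q, hq, e⟩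
  have hNp : IsPGroup 2 N := by
    refine IsPGroup.of_injective ((IsPGroup.of_card (p := 2) (n := 7) (G := A.P) (by
      rw [Amb.P, Subgroup.card_map_of_injective Subtype.val_injective, A.card]; norm_num)).map
        (MulAut.conj g).toMonoidHom) (((Subgroup.centralizer ({z} : Set G)).subtype.comp N.subtype).codRestrict _
          fun c => c.2) fun a b e => ?_
    have e' : ((a : ↥(Subgroup.centralizer ({z} : Set G))) : G) = (b : ↥(Subgroup.centralizer ({z} : Set G))) :=
      (congrArg Subtype.val e :)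
    exact Subtype.ext (Subtype.ext e')
  have hle : N ≤ Subgroup.centralizer ({x} : Set ↥(Subgroup.centralizer ({z} : Set G))) := by
    intro c hc
    obtain ⟨q, hq, e⟩ := hmemN c hc
    refine Subgroup.mem_centralizer_singleton_iff.2 (Subtype.ext ?_)
    show (c : G) * x = x * c
    rw [← e, ← hg]
    have hqz := congrArg Subtype.val (A.z_comm q)
    rw [Subgroup.coe_mul, Subgroup.coe_mul, A.hz] at hqz
    calc g * (q : G) * g⁻¹ * (g * z * g⁻¹) = g * ((q : G) * z) * g⁻¹ := by group
      _ = g * (z * q) * g⁻¹ := by rw [hqz]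
      _ = g * z * g⁻¹ * (g * (q : G) * g⁻¹) := by group
  have hnorm : ∀ r ∈ Subgroup.centralizer ({x} : Set ↥(Subgroup.centralizer ({z} : Set G))), ∀ n ∈ N,
      r * n * r⁻¹ ∈ N := by
    intro r hr n hn
    obtain ⟨q, hq, e⟩ := hmemN n hn
    have hr' : (r : G) * x = x * r := congrArg Subtype.val (Subgroup.mem_centralizer_singleton_iff.1 hr)
    have hc : g⁻¹ * (r : G) * g ∈ Subgroup.centralizer ({z} : Set G) := Subgroup.mem_centralizer_singleton_iff.2 (by
      rw [← hg] at hr'
      calc g⁻¹ * (r : G) * g * z = g⁻¹ * ((r : G) * (g * z * g⁻¹)) * g := by group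
        _ = g⁻¹ * ((g * z * g⁻¹) * r) * g := by rw [hr']
        _ = z * (g⁻¹ * (r : G) * g) := by group)
    refine ⟨_, ⟨⟨_, hc⟩ * q * (⟨_, hc⟩ : ↥(Subgroup.centralizer ({z} : Set G)))⁻¹, A.conj_mem _ hq, rfl⟩, ?_⟩
    show g * (g⁻¹ * (r : G) * g * q * (g⁻¹ * (r : G) * g)⁻¹) * g⁻¹ = r * n * (r : G)⁻¹
    rw [← e]; group
  have hNQ := A.N.two_le_Q (A.hQN.symm ▸ hx) hx2 hxE hNp hle hnorm
  rw [A.hQN] at hNQ
  -- two non-commuting elements of the conjugate group
  obtain ⟨p, hp, q, hq, hpy, hqy, hpq⟩ : ∃ p ∈ A.Q, ∃ q ∈ A.Q, p * y' = y' * p ∧ q * y' = y' * q ∧ p * q ≠ q * p := by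
    by_contra h
    simp only [not_exists, not_and, not_not] at h
    have hM : ∀ p ∈ A.Q, p * y' = y' * p → p = 1 ∨ p = A.z ∨ ∀ q ∈ A.Q, p * q = q * p → q * y' = y' * q := by
      intro p hp hpy
      by_cases hpc : p = 1 ∨ p = A.z
      · exact hpc.imp_right Or.inl
      · refine Or.inr (Or.inr fun q hq hpq => ?_)
        by_contra hqy
        refine hpc (A.center p hp fun w hw => ?_)
        by_cases hwy : w * y' = y' * w
        · exact h p hp w hw hpy hwy
        · have h1 : Cross.pr w y' = 1 := if_neg hwy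
          have h2 : Cross.pr q y' = 1 := if_neg hqy
          have h3 : Cross.pr (w * q) y' = 0 := by rw [A.pr_left hw hq hy, h1, h2]; decide
          have h4 : w * q * y' = y' * (w * q) := by
            by_contra h5
            exact absurd ((if_neg h5).symm.trans h3) (by decide)
          have h5 := h p hp (w * q) (mul_mem hw hq) hpy h4
          calc p * w = p * (w * q) * q⁻¹ := by group
            _ = w * (q * p) * q⁻¹ := by rw [h5]; group
            _ = w * (p * q) * q⁻¹ := by rw [hpq]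
            _ = w * p := by group
    have h64 := A.N.card_centQ (x := y') (A.hQN.symm ▸ hy) hy1 (A.hzN.symm ▸ hyz)
    rw [A.hQN] at h64
    -- the centraliser in the abelian subgroup of an element outside is central
    obtain ⟨w, hw, hwy⟩ : ∃ w ∈ A.Q, w * y' ≠ y' * w := by
      by_contra hh
      simp only [not_exists, not_and, not_not] at hh
      rcases A.center y' hy (fun w hw => (hh w hw).symm) with e | e
      · exact hy1 e
      · exact hyz e
    let f : ↥(A.Q ⊓ Subgroup.centralizer ({y'} : Set ↥(Subgroup.centralizer ({z} : Set G)))) →*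
        Multiplicative (ZMod 2) :=
      MonoidHom.mk' (fun p => Multiplicative.ofAdd (Cross.pr (p : ↥(Subgroup.centralizer ({z} : Set G))) w))
        fun a b => by rw [Subgroup.coe_mul, A.pr_left a.2.1 b.2.1 hw]; rfl
    have hker : ∀ p ∈ f.ker, (p : ↥(Subgroup.centralizer ({z} : Set G))) = 1 ∨
        (p : ↥(Subgroup.centralizer ({z} : Set G))) = A.z := by
      intro p hp
      have hpy := Subgroup.mem_centralizer_singleton_iff.1 p.2.2
      have hpw : (p : ↥(Subgroup.centralizer ({z} : Set G))) * w = w * p := by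
        by_contra hh
        exact absurd ((if_neg hh).symm.trans (congrArg Multiplicative.toAdd (MonoidHom.mem_ker.1 hp))) (by decide)
      rcases hM _ p.2.1 hpy with e | e | e
      · exact Or.inl e
      · exact Or.inr e
      · exact absurd (e w hw hpw) hwy
    have hk : Nat.card f.ker ≤ 2 := by
      have := Nat.card_le_card_of_injective
        (fun p : f.ker => (⟨((p : ↥(A.Q ⊓ _)) : ↥(Subgroup.centralizer ({z} : Set G))), hker _ p.2⟩ :
          {c : ↥(Subgroup.centralizer ({z} : Set G)) // c = 1 ∨ c = A.z})) fun a b e =>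
            Subtype.ext (Subtype.ext (congrArg Subtype.val e :))
      refine this.trans ?_
      show Nat.card ↥({1, A.z} : Set ↥(Subgroup.centralizer ({z} : Set G))) ≤ 2
      rw [Nat.card_coe_set_eq, Set.ncard_pair (Ne.symm A.z_ne)]
    have hidx := f.ker.card_mul_index
    have hi : f.ker.index ≤ 2 := by
      rw [Subgroup.index_ker]
      have hd := Subgroup.card_subgroup_dvd_card f.range
      rw [Nat.card_congr Multiplicative.toAdd, Nat.card_zmod] at hd
      exact Nat.le_of_dvd (by norm_num) hd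
    rw [h64] at hidx
    nlinarith
  have hmem : ∀ p ∈ A.Q, p * y' = y' * p → ∃ hc : g * (p : G) * g⁻¹ ∈ Subgroup.centralizer ({z} : Set G),
      (⟨_, hc⟩ : ↥(Subgroup.centralizer ({z} : Set G))) ∈ A.Q := by
    intro p hp hpy
    have hpy' : (p : G) * y' = y' * p := congrArg Subtype.val hpy
    have hc : g * (p : G) * g⁻¹ ∈ Subgroup.centralizer ({z} : Set G) := Subgroup.mem_centralizer_singleton_iff.2 (by
      rw [← hy'] at hpy'
      calc g * (p : G) * g⁻¹ * z = g * ((p : G) * (g⁻¹ * z * g)) * g⁻¹ := by group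
        _ = g * ((g⁻¹ * z * g) * p) * g⁻¹ := by rw [hpy']
        _ = z * (g * (p : G) * g⁻¹) := by group)
    exact ⟨hc, hNQ ⟨_, ⟨p, hp, rfl⟩, rfl⟩⟩
  obtain ⟨hc1, h1⟩ := hmem p hp hpy
  obtain ⟨hc2, h2⟩ := hmem q hq hqy
  rcases A.comm _ h1 _ h2 with e | e
  · refine hpq (Subtype.ext ?_)
    have e' : g * (p : G) * g⁻¹ * (g * (q : G) * g⁻¹) = g * (q : G) * g⁻¹ * (g * (p : G) * g⁻¹) := congrArg Subtype.val e
    show (p : G) * q = q * p
    calc (p : G) * q = g⁻¹ * (g * (p : G) * g⁻¹ * (g * (q : G) * g⁻¹)) * g := by group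
      _ = g⁻¹ * (g * (q : G) * g⁻¹ * (g * (p : G) * g⁻¹)) * g := by rw [e']
      _ = q * p := by group
  · have hpq' := (A.comm p hp q hq).resolve_left hpq
    have e' := congrArg Subtype.val e
    have f' := congrArg Subtype.val hpq'
    simp only [Subgroup.coe_mul] at e' f'
    rw [A.hz] at e' f'
    refine hne (Subtype.ext ?_)
    rw [A.hz, ← hg]
    have h3 : g * (q : G) * (p : G) * z * g⁻¹ = g * (q : G) * (p : G) * g⁻¹ * z := by
      calc g * (q : G) * (p : G) * z * g⁻¹ = g * ((q : G) * p * z) * g⁻¹ := by group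
        _ = g * ((p : G) * q) * g⁻¹ := by rw [← f']
        _ = g * (p : G) * g⁻¹ * (g * (q : G) * g⁻¹) := by group
        _ = g * (q : G) * g⁻¹ * (g * (p : G) * g⁻¹) * z := e'
        _ = g * (q : G) * (p : G) * g⁻¹ * z := by group
    calc g * z * g⁻¹ = (g * (q : G) * (p : G) * g⁻¹)⁻¹ * (g * (q : G) * (p : G) * z * g⁻¹) := by group
      _ = (g * (q : G) * (p : G) * g⁻¹)⁻¹ * (g * (q : G) * (p : G) * g⁻¹ * z) := by rw [h3]
      _ = z := by group

/-- Every fused element lies in the elementary subgroup. -/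
theorem fused_mem {g : G} {x : ↥(Subgroup.centralizer ({z} : Set G))} (hg : g * z * g⁻¹ = x) : x ∈ A.N.E := by
  by_cases hne : x = A.z
  · rw [hne, ← A.hzN]; exact A.N.z_memE
  refine A.no_inner (A.no_outer (fun u hu huQ => ?_) hg hne) hg hne
  obtain ⟨h1, h2⟩ := A.N.outside hu (by rw [A.hQN]; exact huQ)
  rw [A.hQN, A.hzN] at h1
  refine ⟨h1, fun y hy => ?_⟩
  obtain ⟨w, hw, h3, h4⟩ := h2 y hy
  rw [A.hQN] at hw
  rw [A.hzN] at h4
  exact ⟨w, hw, h3, Or.inr h4⟩

end AmbNS

end Cfsg.Agent.H85.Held
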