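import Cfsg.Agent.H85.Held.NSCoord

/-!
# Involutions outside `Q` in the non-split case
-/

set_option autoImplicit false
set_option linter.unusedSectionVars false

namespace Cfsg.Agent.H85.Held

open Matrix

universe u

namespace NS

variable {C : Type u} [Group C] [Finite C] (D : NS C)

theorem outside_std (K : Co D) {u : C} (hu : u * u = 1) (hρ : K.ρ u = fourEl * fourEl) :
    (∃ a ∈ D.Q, a * a = D.z ∧ a * u = u * a) ∧
    ∀ y, y * y = u → ∃ x ∈ D.Q, x * u = u * x ∧ (y * x * y⁻¹ * x⁻¹) * (y * x * y⁻¹ * x⁻¹) = D.z := by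
  classical
  obtain ⟨P, ρ, n, hz, hQ, hE, hker, hsurj, hconj, hfour, hmul, hnQ⟩ := K
  simp only [] at hρ
  have hzp : ∀ t, P.zp t = D.zp t := fun t => by show pw P.z t = pw D.z t; rw [hz]
  obtain ⟨f, hf⟩ := hsurj fourEl
  have hnff : ∀ c, ρ c = fourEl * fourEl → n c = nTwo := fun c hc => by
    have hq : (f * f)⁻¹ * c ∈ D.Q := by
      rw [← hker, MonoidHom.mem_ker, map_mul, map_inv, map_mul, hf, hc, inv_mul_cancel]
    rw [show c = f * f * ((f * f)⁻¹ * c) by group, hmul, hnQ _ hq, mulVec_zero, add_zero, hmul, hf, hfour f hf]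
    rfl
  have hnu := hnff u hρ
  have hinvu : u⁻¹ = u := inv_eq_of_mul_eq_one_right hu
  let X : F3 × F3 → C := fun p => P.W p.1 * P.V p.2
  have hXQ : ∀ p, X p ∈ D.Q := fun p => hQ ▸ mul_mem (P.W_mem_Q _) (P.V_mem_Q _)
  have hXadd : ∀ p q, ∃ t, X p * X q = X (p + q) * P.zp t := fun p q => P.form_mul _ _ _ _
  have hsq : ∀ p t, X p * P.zp t * (X p * P.zp t) = P.zp (p.1 ⬝ᵥ p.2) := fun p t => P.sq_form _ _ _
  have hact : ∀ p, ∃ t, u * X p * u⁻¹ = X (actV (fourEl * fourEl) nTwo p) * P.zp t := fun p => by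
    obtain ⟨t, ht⟩ := hconj u p.1 p.2
    rw [hρ, hnu] at ht
    exact ⟨t, ht⟩
  have hfix : ∀ c, ∃ t, u * X (comb c) * u⁻¹ = X (comb c) * P.zp t := fun c => by
    obtain ⟨t, ht⟩ := hact (comb c)
    rw [fix_facts] at ht
    exact ⟨t, ht⟩
  choose l hl using hfix
  have hcomb : ∀ c d, comb (c + d) = comb c + comb d := fun c d => by
    simp only [comb, Pi.add_apply, add_smul, Finset.sum_add_distrib]
  have hladd : ∀ c d, l (c + d) = l c + l d := fun c d => by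
    obtain ⟨s, hs⟩ := hXadd (comb c) (comb d)
    have hs' : X (comb (c + d)) = X (comb c) * X (comb d) * P.zp s := by
      rw [hs, mul_assoc, ← P.zp_add, bit_add_self, P.zp_zero, mul_one, hcomb]
    refine P.zp_inj (mul_left_cancel (a := X (comb (c + d))) ?_)
    rw [← hl]
    calc u * X (comb (c + d)) * u⁻¹ = u * X (comb c) * u⁻¹ * (u * X (comb d) * u⁻¹) * (u * P.zp s * u⁻¹) := by
          rw [hs']; group
      _ = X (comb c) * X (comb d) * P.zp s * (P.zp (l c) * P.zp (l d)) := by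
          rw [hl, hl, ← P.zp_comm s u, mul_inv_cancel_right,
            (show Commute (P.zp (l c)) (X (comb d)) from P.zp_comm _ _).mul_mul_mul_comm,
            mul_assoc _ (P.zp (l c) * P.zp (l d)), ← P.zp_comm s (P.zp (l c) * P.zp (l d)), mul_assoc]
          simp only [mul_assoc]
      _ = X (comb (c + d)) * P.zp (l c + l d) := by rw [← hs', P.zp_add]
  have hint : ∀ p c, p + actV (fourEl * fourEl) nTwo p = comb c →
      l c = Cross.pr (X p) (u * X p * u⁻¹) := fun p c hpc => by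
    set A := X p
    set B := u * A * u⁻¹ with hB
    have hBQ : B ∈ P.Q := hQ.symm ▸ D.conj_mem u (hXQ p)
    have hAQ : A ∈ P.Q := hQ.symm ▸ hXQ p
    obtain ⟨s, hs⟩ := hact p
    obtain ⟨s', hs'⟩ := hXadd p (actV (fourEl * fourEl) nTwo p)
    have hAB : A * B = X (comb c) * P.zp (s' + s) := by
      rw [hB, hs, ← mul_assoc, hs', hpc, mul_assoc, ← P.zp_add]
    have huB : u * B * u⁻¹ = A := by
      rw [hB, show u * (u * A * u⁻¹) * u⁻¹ = (u * u) * A * (u * u)⁻¹ by group, hu]; group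
    refine P.zp_inj (mul_left_cancel (a := X (comb c) * P.zp (s' + s)) ?_)
    calc X (comb c) * P.zp (s' + s) * P.zp (l c)
        = u * X (comb c) * u⁻¹ * (u * P.zp (s' + s) * u⁻¹) := by
          rw [hl, ← P.zp_comm _ u, mul_inv_cancel_right, mul_assoc (X (comb c)) (P.zp (s' + s)),
            mul_assoc (X (comb c)) (P.zp (l c)), ← P.zp_add, ← P.zp_add, add_comm]
      _ = u * (A * B) * u⁻¹ := by rw [hAB]; group
      _ = B * A := by
          rw [show u * (A * B) * u⁻¹ = u * A * u⁻¹ * (u * B * u⁻¹) by group, ← hB, huB]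
      _ = A * B * P.zp (Cross.pr A B) := by
          rw [P.pr_eq hBQ hAQ, Base.pr_symm]
      _ = _ := by rw [hAB]
  have hpr : ∀ p q, Cross.pr (X p) (X q) = pairV p q := fun p q => by
    have hW := fun a => P.W_mem_Q a
    have hV := fun a => P.V_mem_Q a
    show Cross.pr (P.W p.1 * P.V p.2) (P.W q.1 * P.V q.2) = _
    have hWW : Cross.pr (P.W p.1) (P.W q.1) = 0 := if_pos (P.comm₁ (P.W_mem _) (P.W_mem _))
    have hVV : Cross.pr (P.V p.2) (P.V q.2) = 0 := if_pos (P.comm₂ (P.V_mem _) (P.V_mem _))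
    rw [P.pr_left (hW _) (hV _) (mul_mem (hW _) (hV _)), P.pr_right (hW _) (hW _) (hV _),
      P.pr_right (hV _) (hW _) (hV _), hWW, hVV, P.pr_WV, Base.pr_symm, P.pr_WV, zero_add, add_zero]
    rfl
  have hprA : ∀ p, Cross.pr (X p) (u * X p * u⁻¹) = pairV p (actV (fourEl * fourEl) nTwo p) := fun p => by
    obtain ⟨s, hs⟩ := hact p
    have hz0 : Cross.pr (X p) (P.zp s) = 0 := by
      rw [Base.pr_symm]
      exact D.pr_eq_zero (by rw [hzp]; exact D.zp_eq_one_or s)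
    rw [hs, P.pr_right (hQ.symm ▸ hXQ p) (hQ.symm ▸ hXQ _) (P.le₁ (P.zp_mem₁ s)), hz0, add_zero, hpr]
  have h0 : l ![1, 0, 0, 0] = 0 := by rw [hint _ _ shift_zero.1, hprA, shift_zero.2.1]
  have h1 : l ![0, 1, 1, 0] = 1 := by rw [hint _ _ shift_zero.2.2.1, hprA, shift_zero.2.2.2]
  have hlin : ∀ c, l c = c 1 * l ![0, 1, 0, 0] + c 2 * l ![0, 0, 1, 0] + c 3 * l ![0, 0, 0, 1] := by
    intro c
    have hl0 : l 0 = 0 := by
      have := hladd 0 0
      rw [add_zero] at this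
      exact add_eq_left.1 this.symm
    have hsm : ∀ (s : ZMod 2) (e : Fin 4 → ZMod 2), l (s • e) = s * l e := fun s e => by
      rcases bit_cases s with rfl | rfl
      · rw [zero_smul, zero_mul, hl0]
      · rw [one_smul, one_mul]
    have hc : c = c 0 • ![1, 0, 0, 0] + c 1 • ![0, 1, 0, 0] + c 2 • ![0, 0, 1, 0] + c 3 • ![0, 0, 0, 1] := by
      funext i
      fin_cases i <;> simp
    conv_lhs => rw [hc]
    rw [hladd, hladd, hladd, hsm, hsm, hsm, hsm, h0, mul_zero, zero_add]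
  have hl12 : l ![0, 1, 0, 0] + l ![0, 0, 1, 0] = 1 := by
    have h := hlin ![0, 1, 1, 0]
    rw [h1] at h
    simpa using h.symm
  have hcomm : ∀ c, l c = 0 → X (comb c) * u = u * X (comb c) := fun c hc => by
    have := hl c
    rw [hc, P.zp_zero, mul_one, mul_inv_eq_iff_eq_mul] at this
    exact this.symm
  refine ⟨?_, fun y hy => ?_⟩
  · obtain ⟨c, hc, hq⟩ := root_check _ _ (l ![0, 0, 0, 1]) hl12
    refine ⟨X (comb c), hXQ _, ?_, hcomm c (by rw [hlin]; exact hc)⟩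
    have := hsq (comb c) 0
    rw [P.zp_zero, mul_one, hq, P.zp_one, hz] at this
    exact this
  · have hρy : ρ y = fourEl ∨ ρ y = fourEl * fourEl * fourEl := root_cases (by rw [← map_mul, hy, hρ])
    let k : Fin 2 := if ρ y = fourEl then 0 else 1
    have hY : ρ y = (if k = 0 then fourEl else fourEl * fourEl * fourEl) ∧
        n y = (if k = 0 then nFour else nTwo + ((fourEl * fourEl : L3) : M3) *ᵥ nFour) := by
      by_cases h : ρ y = fourEl
      · simp only [k, if_pos h, if_pos]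
        exact ⟨h, hfour y h⟩
      · have h3 := hρy.resolve_left h
        simp only [k, if_neg h, if_neg (show (1 : Fin 2) ≠ 0 by decide)]
        refine ⟨h3, ?_⟩
        have hq : (u * f)⁻¹ * y ∈ D.Q := by
          rw [← hker, MonoidHom.mem_ker, map_mul, map_inv, map_mul, hρ, hf, h3, inv_mul_cancel]
        rw [show y = u * f * ((u * f)⁻¹ * y) by group, hmul, hnQ _ hq, mulVec_zero, add_zero, hmul, hnu, hρ,
          hfour f hf]
    obtain ⟨c, hc, hq⟩ := move_check _ _ (l ![0, 0, 0, 1]) hl12 k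
    rw [← hY.1, ← hY.2] at hq
    refine ⟨X (comb c), hXQ _, hcomm c (by rw [hlin]; exact hc), ?_⟩
    obtain ⟨t, ht⟩ := hconj y (comb c).1 (comb c).2
    have ht' : y * X (comb c) * y⁻¹ = X (actV (ρ y) (n y) (comb c)) * P.zp t := ht
    obtain ⟨t2, ht2⟩ := hXadd (actV (ρ y) (n y) (comb c)) (comb c)
    have hinvX : (X (comb c))⁻¹ = X (comb c) * P.zp ((comb c).1 ⬝ᵥ (comb c).2) := by
      refine inv_eq_of_mul_eq_one_right ?_
      have := hsq (comb c) 0
      rw [P.zp_zero, mul_one] at this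
      rw [← mul_assoc, this, ← P.zp_add, bit_add_self, P.zp_zero]
    have he : ∃ s, y * X (comb c) * y⁻¹ * (X (comb c))⁻¹ = X (actV (ρ y) (n y) (comb c) + comb c) * P.zp s :=
      ⟨t2 + t + (comb c).1 ⬝ᵥ (comb c).2, by
        rw [ht', hinvX, ← mul_assoc, mul_assoc (X _) (P.zp t), P.zp_comm t, ← mul_assoc, ht2, mul_assoc _ (P.zp t2),
          ← P.zp_add, mul_assoc, ← P.zp_add]⟩
    obtain ⟨s, hs⟩ := he
    rw [hs, hsq, hq, P.zp_one, hz]

/-- Involutions outside `Q`. -/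
theorem outside {u : C} (hu : u * u = 1) (huQ : u ∉ D.Q) :
    (∃ a ∈ D.Q, a * a = D.z ∧ a * u = u * a) ∧
    ∀ y, y * y = u → ∃ x ∈ D.Q, x * u = u * x ∧ (y * x * y⁻¹ * x⁻¹) * (y * x * y⁻¹ * x⁻¹) = D.z := by
  obtain ⟨K, -⟩ := D.exists_co
  have h1 : K.ρ u ≠ 1 := fun e => huQ (K.ρ_ker.le (MonoidHom.mem_ker.2 e))
  obtain ⟨p, hp⟩ := involution_conj (by rw [← map_mul, hu, map_one]) h1
  obtain ⟨c, hc⟩ := K.ρ_surj p
  have hρ : K.ρ (c⁻¹ * u * c) = fourEl * fourEl := by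
    rw [map_mul, map_mul, map_inv, hc, mul_assoc, hp, inv_mul_cancel_left]
  obtain ⟨⟨a, ha, ha2, hau⟩, hy⟩ := D.outside_std K (u := c⁻¹ * u * c)
    (by rw [show c⁻¹ * u * c * (c⁻¹ * u * c) = c⁻¹ * (u * u) * c by group, hu]; group) hρ
  have hzc : ∀ w, c * D.z * c⁻¹ = w → w = D.z := fun w h => by
    rw [← h, ← D.z_comm, mul_inv_cancel_right]
  refine ⟨⟨c * a * c⁻¹, D.conj_mem c ha, ?_, ?_⟩, fun y hyu => ?_⟩
  · rw [show c * a * c⁻¹ * (c * a * c⁻¹) = c * (a * a) * c⁻¹ by group, ha2]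
    exact hzc _ rfl
  · calc c * a * c⁻¹ * u = c * (a * (c⁻¹ * u * c)) * c⁻¹ := by group
      _ = c * ((c⁻¹ * u * c) * a) * c⁻¹ := by rw [hau]
      _ = u * (c * a * c⁻¹) := by group
  · obtain ⟨x, hx, hxu, hxz⟩ := hy (c⁻¹ * y * c)
      (by rw [show c⁻¹ * y * c * (c⁻¹ * y * c) = c⁻¹ * (y * y) * c by group, hyu])
    refine ⟨c * x * c⁻¹, D.conj_mem c hx, ?_, ?_⟩
    · calc c * x * c⁻¹ * u = c * (x * (c⁻¹ * u * c)) * c⁻¹ := by group
        _ = c * ((c⁻¹ * u * c) * x) * c⁻¹ := by rw [hxu]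
        _ = u * (c * x * c⁻¹) := by group
    · rw [show y * (c * x * c⁻¹) * y⁻¹ * (c * x * c⁻¹)⁻¹ * (y * (c * x * c⁻¹) * y⁻¹ * (c * x * c⁻¹)⁻¹) =
        c * ((c⁻¹ * y * c * x * (c⁻¹ * y * c)⁻¹ * x⁻¹) * (c⁻¹ * y * c * x * (c⁻¹ * y * c)⁻¹ * x⁻¹)) * c⁻¹ by group,
        hxz]
      exact hzc _ rfl

end NS

end Cfsg.Agent.H85.Held
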