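import Cfsg.Agent.H85.Held.Halves

/-!
# The classes of non-central involutions of `Q`
-/

set_option autoImplicit false
set_option linter.unusedSectionVars false

namespace Cfsg.Agent.H85.Held

open Matrix

universe u

/-- The parameters of the non-central involutions. -/
def invParams : Finset (F3 × F3 × ZMod 2) :=
  Finset.univ.filter fun p => p.1 ⬝ᵥ p.2.1 = 0 ∧ ¬ (p.1 = 0 ∧ p.2.1 = 0)

theorem card_invParams : invParams.card = 70 := by decide +kernel

theorem card_c : (128 * 168) % 5 ≠ 0 := by decide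

namespace Base

variable {C : Type u} [Group C] [Finite C] (D : Base C)

/-- The non-central involutions of `Q`. -/
def inv : Set C := {x | x ∈ D.Q ∧ x * x = 1 ∧ x ≠ 1 ∧ x ≠ D.z}

theorem inv_conj (c : C) {x : C} (hx : x ∈ D.inv) : c * x * c⁻¹ ∈ D.inv := by
  obtain ⟨h1, h2, h3, h4⟩ := hx
  refine ⟨D.conj_mem c h1, by rw [show c * x * c⁻¹ * (c * x * c⁻¹) = c * (x * x) * c⁻¹ by group, h2]; group,
    fun e => h3 (conj_eq_one_iff.1 e), fun e => h4 ?_⟩
  rw [mul_inv_eq_iff_eq_mul, D.z_comm] at e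
  exact mul_left_cancel e

theorem card_inv : D.inv.ncard = 70 := by
  classical
  obtain ⟨b, a, hb, hφb, -⟩ := D.exists_seven
  obtain ⟨F, hFz, hFQ, -, -, -⟩ :=
    D.exists_halves ⟨hb, D.seven_fixed hb (by rw [hφb]; exact sevenEl_facts.2.1)⟩
  obtain ⟨P, hP⟩ := F.exists_duo
  have hz : P.z = D.z := by rw [← hFz, ← hP]
  have hQ : P.Q = D.Q := by rw [← hFQ, ← hP]
  let f : F3 × F3 × ZMod 2 → C := fun p => P.W p.1 * P.V p.2.1 * P.zp p.2.2
  have hinj : Function.Injective f := fun p q h => by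
    obtain ⟨h1, h2, h3⟩ := P.form_inj h
    exact Prod.ext h1 (Prod.ext h2 h3)
  have hset : D.inv = f '' (invParams : Set (F3 × F3 × ZMod 2)) := by
    ext x
    constructor
    · rintro ⟨h1, h2, h3, h4⟩
      rw [← hQ] at h1
      obtain ⟨r, v, c, rfl⟩ := P.Q_form h1
      refine ⟨(r, v, c), ?_, rfl⟩
      rw [Finset.mem_coe, invParams, Finset.mem_filter]
      refine ⟨Finset.mem_univ _, ?_, ?_⟩
      · rw [P.sq_form] at h2
        exact P.zp_inj (h2.trans P.zp_zero.symm)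
      · rintro ⟨e1, e2⟩
        simp only [] at e1 e2
        subst e1 e2
        rw [P.W_zero, P.V_zero, one_mul, one_mul] at h3 h4
        rcases P.zp_eq_one_or c with e | e
        · exact h3 e
        · exact h4 (e.trans hz)
    · rintro ⟨⟨r, v, c⟩, hp, rfl⟩
      rw [Finset.mem_coe, invParams, Finset.mem_filter] at hp
      obtain ⟨-, hd, hne⟩ := hp
      simp only [] at hd hne
      refine ⟨hQ ▸ mul_mem (mul_mem (P.W_mem_Q r) (P.V_mem_Q v)) (P.le₁ (P.zp_mem₁ c)), ?_, fun e => hne ?_,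
        fun e => hne ?_⟩
      · show P.W r * P.V v * P.zp c * (P.W r * P.V v * P.zp c) = 1
        rw [P.sq_form, hd, P.zp_zero]
      · obtain ⟨h1, h2, -⟩ := P.form_inj (r' := 0) (v' := 0) (c' := 0) (e.trans (by
          rw [P.W_zero, P.V_zero, P.zp_zero, one_mul, one_mul]))
        exact ⟨h1, h2⟩
      · obtain ⟨h1, h2, -⟩ := P.form_inj (r' := 0) (v' := 0) (c' := 1) (e.trans (by
          rw [P.W_zero, P.V_zero, P.zp_one, one_mul, one_mul, hz]))
        exact ⟨h1, h2⟩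
  rw [hset, Set.ncard_image_of_injective _ hinj, Set.ncard_coe_finset, card_invParams]

include D in
theorem card_group : Nat.card C = 128 * 168 := by
  have h := D.Q.card_mul_index
  rw [← D.ker, Subgroup.index_ker, MonoidHom.range_eq_top.2 D.surj, Subgroup.card_top, D.ker, D.card,
    Cfsg.Agent.Linear.card_SL_three, ZMod.card] at h
  exact h.symm.trans (by norm_num)

/-- The system on an invariant set of non-central involutions. -/
def sysOf (X : Set C) (hX : X ⊆ D.inv) (hinv : ∀ c : C, ∀ y ∈ X, c * y * c⁻¹ ∈ X) : Sys C where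
  toBase := D
  X := X
  X_sub _ hx := (hX hx).1
  X_sq _ hx := (hX hx).2.1
  X_ne _ hx := (hX hx).2.2
  X_inv := hinv

theorem fourteen_dvd {X : Set C} (hX : X ⊆ D.inv) (hinv : ∀ c : C, ∀ x ∈ X, c * x * c⁻¹ ∈ X) :
    14 ∣ X.ncard := by
  classical
  obtain ⟨b, a, hb, hφb, -⟩ := D.exists_seven
  let S := D.sysOf X hX hinv
  have hg : S.Good b := ⟨hb, hφb, D.seven_fixed hb (by rw [hφb]; exact sevenEl_facts.2.1)⟩
  have hfin : X.Finite := Set.toFinite _
  rw [Set.ncard_eq_toFinset_card X hfin, Finset.card_eq_sum_card_image (fun y => S.orb b y) hfin.toFinset]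
  refine Finset.dvd_sum fun T hT => ?_
  obtain ⟨y, hy, rfl⟩ := Finset.mem_image.1 hT
  rw [Set.Finite.mem_toFinset] at hy
  rw [show hfin.toFinset.filter (fun w => S.orb b w = S.orb b y) = S.orb b y from ?_, S.orb_card hg hy]
  ext w
  rw [Finset.mem_filter, Set.Finite.mem_toFinset]
  refine ⟨fun h => h.2 ▸ S.orb_self hg w, fun h => ⟨S.orb_sub_X b hy h, S.orb_eq hg hy h⟩⟩

/-- The conjugates of an element. -/
def conjs (x : C) : Set C := Set.range fun c => c * x * c⁻¹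

theorem conjs_facts {X : Set C} (hinv : ∀ c : C, ∀ y ∈ X, c * y * c⁻¹ ∈ X) {x : C} (hx : x ∈ X) :
    conjs x ⊆ X ∧ (∀ c : C, ∀ y ∈ conjs x, c * y * c⁻¹ ∈ conjs x) ∧ x ∈ conjs x := by
  refine ⟨?_, ?_, 1, by group⟩
  · rintro _ ⟨c, rfl⟩; exact hinv c x hx
  · rintro c _ ⟨d, rfl⟩; exact ⟨c * d, by group⟩

theorem ncard_conjs_dvd (x : C) : (conjs x).ncard ∣ Nat.card C := by
  have h : conjs x = MulAction.orbit (ConjAct C) x := by
    ext y
    constructor
    · rintro ⟨c, rfl⟩; exact ⟨ConjAct.toConjAct c, by simp [ConjAct.smul_def]⟩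
    · rintro ⟨c, rfl⟩; exact ⟨ConjAct.ofConjAct c, by simp [ConjAct.smul_def]⟩
  rw [h, ← Nat.card_coe_set_eq, Nat.card_congr (ConjAct.toConjAct (G := C)).toEquiv]
  exact Subgroup.index_dvd_card (H := MulAction.stabilizer (ConjAct C) x) |> fun h => by
    rwa [MulAction.index_stabilizer, ← Nat.card_coe_set_eq] at h

/-- An orbit inside an invariant set of non-central involutions. -/
theorem orbit_sizes {X : Set C} (hX : X ⊆ D.inv) (hinv : ∀ c : C, ∀ y ∈ X, c * y * c⁻¹ ∈ X) {x : C}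
    (hx : x ∈ X) : (conjs x).ncard = 14 ∨ (conjs x).ncard = 28 ∨ (conjs x).ncard = 42 ∨
      (conjs x).ncard = 56 := by
  obtain ⟨h1, h2, h3⟩ := conjs_facts hinv hx
  obtain ⟨k, hk⟩ := D.fourteen_dvd (h1.trans hX) h2
  have hle : (conjs x).ncard ≤ 70 := D.card_inv ▸ Set.ncard_le_ncard (h1.trans hX) (Set.toFinite _)
  have hpos : 0 < (conjs x).ncard := (Set.ncard_pos (Set.toFinite _)).2 ⟨x, h3⟩
  have h5 : k ≠ 5 := fun e => by
    have h := ncard_conjs_dvd x
    rw [hk, e, D.card_group] at h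
    exact card_c (Nat.mod_eq_zero_of_dvd (dvd_trans (by norm_num) h))
  rw [hk] at hle hpos ⊢
  have hk5 : k ≤ 5 := by omega
  interval_cases k <;> omega

/-- A set of twenty-eight. -/
theorem raw_of {X : Set C} (hX : X ⊆ D.inv) (hinv : ∀ c : C, ∀ y ∈ X, c * y * c⁻¹ ∈ X) (h : X.ncard = 28) :
    ∃ R : Raw C, R.toBase = D := ⟨{ toSys := D.sysOf X hX hinv, X_card := h }, rfl⟩

/-- The complement of an invariant set. -/
theorem compl_inv {X : Set C} (hinv : ∀ c : C, ∀ y ∈ X, c * y * c⁻¹ ∈ X) :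
    ∀ c : C, ∀ y ∈ D.inv \ X, c * y * c⁻¹ ∈ D.inv \ X := by
  rintro c y ⟨hy, hyX⟩
  refine ⟨D.inv_conj c hy, fun h => hyX ?_⟩
  have := hinv c⁻¹ _ h
  rwa [show c⁻¹ * (c * y * c⁻¹) * (c⁻¹)⁻¹ = y by group] at this

/-- Either an invariant set of twenty-eight, or a normal elementary subgroup outside which the
non-central involutions are conjugate. -/
theorem dichotomy : (∃ R : Raw C, R.toBase = D) ∨ ∃ E : Subgroup C, E.Normal ∧ E ≤ D.Q ∧ Nat.card E = 16 ∧
    D.z ∈ E ∧ (∀ y ∈ E, y * y = 1) ∧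
    ∀ x ∈ D.Q, x * x = 1 → x ∉ E → (conjs x).ncard = 56 ∧
      ∀ y ∈ D.Q, y * y = 1 → y ∉ E → ∃ c, c * x * c⁻¹ = y := by
  classical
  by_cases hR : ∃ R : Raw C, R.toBase = D
  · exact Or.inl hR
  right
  have hinvall : ∀ c : C, ∀ y ∈ D.inv, c * y * c⁻¹ ∈ D.inv := fun c y hy => D.inv_conj c hy
  obtain ⟨x0, hx0⟩ : D.inv.Nonempty := Set.nonempty_of_ncard_ne_zero (by rw [D.card_inv]; norm_num)
  obtain ⟨X, hX, hXinv, hX14⟩ : ∃ X ⊆ D.inv, (∀ c : C, ∀ y ∈ X, c * y * c⁻¹ ∈ X) ∧ X.ncard = 14 := by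
    obtain ⟨h1, h2, -⟩ := conjs_facts hinvall hx0
    have hcompl := Set.ncard_sdiff h1 (Set.toFinite _)
    rw [D.card_inv] at hcompl
    rcases D.orbit_sizes subset_rfl hinvall hx0 with e | e | e | e
    · exact ⟨_, h1, h2, e⟩
    · exact absurd (D.raw_of h1 h2 e) hR
    · exact absurd (D.raw_of Set.sdiff_subset (D.compl_inv h2) (by rw [hcompl, e])) hR
    · exact ⟨_, Set.sdiff_subset, D.compl_inv h2, by rw [hcompl, e]⟩
  obtain ⟨b, a, hb, hφb, hφa⟩ := D.exists_seven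
  let S := D.sysOf X hX hXinv
  have hg : S.Good b := ⟨hb, hφb, D.seven_fixed hb (by rw [hφb]; exact sevenEl_facts.2.1)⟩
  obtain ⟨x, hx⟩ : X.Nonempty := Set.nonempty_of_ncard_ne_zero (by rw [hX14]; norm_num)
  have horb : (S.orb b x : Set C) = X :=
    Set.eq_of_subset_of_ncard_le (S.orb_sub_X b hx)
      (by rw [Set.ncard_coe_finset, S.orb_card hg hx, hX14]) (Set.toFinite _)
  obtain ⟨E, hEQ, hEc, hzE, hEsq, hE⟩ := S.orb_group hg hφa hx (by
    rw [← Finset.mem_coe, horb]; exact hXinv a x hx)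
  have hmem : ∀ y, y ∈ E ↔ y = 1 ∨ y = D.z ∨ y ∈ X := fun y => by rw [hE y, ← horb]; rfl
  have hEn : E.Normal := ⟨fun y hy c => by
    rw [hmem] at hy ⊢
    rcases hy with rfl | rfl | hy
    · left; group
    · right; left
      rw [← D.z_comm, mul_inv_cancel_right]
    · exact Or.inr (Or.inr (hXinv c y hy))⟩
  refine ⟨E, hEn, hEQ, hEc, hzE, hEsq, fun x hxQ hx2 hxE => ?_⟩
  have hout : ∀ y ∈ D.Q, y * y = 1 → y ∉ E → y ∈ D.inv \ X := fun y h1 h2 h3 => by
    rw [hmem, not_or, not_or] at h3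
    exact ⟨⟨h1, h2, h3.1, h3.2.1⟩, h3.2.2⟩
  have hYinv := D.compl_inv hXinv
  obtain ⟨h1, h2, -⟩ := conjs_facts hYinv (hout x hxQ hx2 hxE)
  have hY : (D.inv \ X).ncard = 56 := by rw [Set.ncard_sdiff hX (Set.toFinite _), D.card_inv, hX14]
  rcases D.orbit_sizes Set.sdiff_subset hYinv (hout x hxQ hx2 hxE) with e | e | e | e
  · refine absurd (D.raw_of (X := X ∪ conjs x) (Set.union_subset hX (h1.trans Set.sdiff_subset)) ?_ ?_) hR
    · rintro c y (hy | hy)
      · exact Or.inl (hXinv c y hy)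
      · exact Or.inr (h2 c y hy)
    · rw [Set.ncard_union_eq (Set.disjoint_right.2 fun y hy => (h1 hy).2) (Set.toFinite _) (Set.toFinite _),
        hX14, e]
  · exact absurd (D.raw_of (h1.trans Set.sdiff_subset) h2 e) hR
  · refine absurd (D.raw_of Set.sdiff_subset (D.compl_inv h2) ?_) hR
    rw [Set.ncard_sdiff (h1.trans Set.sdiff_subset) (Set.toFinite _), D.card_inv, e]
  · refine ⟨e, fun y hy1 hy2 hy3 => ?_⟩
    have := Set.eq_of_subset_of_ncard_le h1 (by rw [hY, e]) (Set.toFinite _)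
    exact this.ge (hout y hy1 hy2 hy3)

end Base

end Cfsg.Agent.H85.Held
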