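import Cfsg.Agent.H85.Held.Abs
import Cfsg.Agent.H96.Held.Glue
import Cfsg.Agent.H25.Held.Assembly
import Cfsg.Agent.S0364

/-!
The Held group from two classes of involutions and the order.
-/

set_option autoImplicit false

namespace Cfsg.Agent.H85.Held

universe u

variable {G : Type u} [Group G] [Finite G] [IsSimpleGroup G]

theorem isoHe_of_parts (P : H25.Held.Parts G) {z : G} {Q : Subgroup (Subgroup.centralizer ({z} : Set G))}
    [Q.Normal] (hz : orderOf z = 2) (hQ : Cfsg.IsExtraspecial 2 Q) (hcard : Nat.card Q = 2 ^ 7)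
    (hCQ : Subgroup.centralizer (Q : Set (Subgroup.centralizer ({z} : Set G))) ≤ Q)
    (e : (Subgroup.centralizer ({z} : Set G)) ⧸ Q ≃* Matrix.SpecialLinearGroup (Fin 3) (ZMod 2))
    (hG : Nat.card G = 4030387200)
    (htwo : ∃ x y : G, orderOf x = 2 ∧ orderOf y = 2 ∧ ¬ IsConj x y ∧
      ∀ w : G, orderOf w = 2 → IsConj w x ∨ IsConj w y) : Cfsg.Spor.IsoHe G := by
  let s : Matrix.SpecialLinearGroup (Fin 5) (ZMod 2) :=
    ⟨Matrix.transvection 0 1 1, by rw [Matrix.det_transvection_of_ne _ _ (by decide)]⟩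
  obtain ⟨ψ⟩ := cen_of_two_classes hz hQ hcard hCQ e htwo s rfl
  obtain ⟨B, -⟩ := H96.Held.exists_emb (s := s) rfl hz ψ
  rcases H25.Held.trichotomy_simple_of P B with ⟨⟨f⟩⟩ | ⟨⟨f⟩⟩ | h
  · rw [Nat.card_congr f.toEquiv, H98.Held.card_sl_five] at hG
    exact absurd hG (by norm_num)
  · rw [Nat.card_congr f.toEquiv, Cfsg.Agent.S0364.result] at hG
    exact absurd hG (by norm_num)
  · exact h

end Cfsg.Agent.H85.Held
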